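import Groth.Prelude.Def_AlgGrp
import Mathlib.AlgebraicGeometry.Sites.Fpqc

/-! Descent of homomorphisms through quotients (minimal imports). -/

set_option autoImplicit false
universe u

open CategoryTheory CategoryTheory.Limits MonoidalCategory CartesianMonoidalCategory MonObj GrpObj AlgebraicGeometry

namespace K404.Desc

section cat

variable {C : Type*} [Category C] [CartesianMonoidalCategory C]

/-- A morphism `x` with `x ≫ f = 1` lifts to the kernel. -/
theorem exists_lift_ker {N G Q T : C} [GrpObj Q] {n : N ⟶ G} {f : G ⟶ Q}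
    (h : IsPullback n (toUnit N) f η[Q]) (x : T ⟶ G) (hx : x ≫ f = 1) : ∃ y : T ⟶ N, y ≫ n = x := by
  refine ⟨h.lift x (toUnit T) ?_, h.lift_fst _ _ _⟩
  rw [hx, Hom.one_def]

theorem ker_comp {N G Q T : C} [GrpObj Q] {n : N ⟶ G} {f : G ⟶ Q}
    (h : IsPullback n (toUnit N) f η[Q]) (y : T ⟶ N) : (y ≫ n) ≫ f = 1 := by
  rw [Category.assoc, h.w, ← Category.assoc, Hom.one_def]
  congr 1
  exact toUnit_unique _ _

theorem ker_eq_one {N G Q : C} [GrpObj Q] {n : N ⟶ G} {f : G ⟶ Q}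
    (h : IsPullback n (toUnit N) f η[Q]) : n ≫ f = 1 := by
  have := ker_comp h (𝟙 N)
  rwa [Category.id_comp] at this

theorem mono_ker {N G Q : C} [GrpObj Q] {n : N ⟶ G} {f : G ⟶ Q}
    (h : IsPullback n (toUnit N) f η[Q]) : Mono n where
  right_cancellation {T} a b hab := h.hom_ext hab (toUnit_unique _ _)

end cat

variable {S : Scheme.{u}}

/-- Descent of morphisms along effective epimorphisms. -/
theorem exists_desc {G X Z : Over S} (p : G ⟶ X) [EffectiveEpi p.left] (f : G ⟶ Z)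
    (hf : ∀ (T : Over S) (x y : T ⟶ G), x ≫ p = y ≫ p → x ≫ f = y ≫ f) : ∃ g : X ⟶ Z, p ≫ g = f := by
  have hf' : ∀ {W : Scheme.{u}} (g₁ g₂ : W ⟶ G.left), g₁ ≫ p.left = g₂ ≫ p.left → g₁ ≫ f.left = g₂ ≫ f.left := by
    intro W g₁ g₂ h
    have h2 : g₂ ≫ G.hom = g₁ ≫ G.hom := by
      rw [← Over.w p, ← Category.assoc, ← Category.assoc, h]
    let T : Over S := Over.mk (g₁ ≫ G.hom)
    have := hf T (Over.homMk g₁ rfl) (Over.homMk g₂ h2) (by ext1; exact h)
    exact congrArg (fun z => Over.Hom.left z) this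
  have hfac := EffectiveEpi.fac p.left f.left hf'
  refine ⟨Over.homMk (EffectiveEpi.desc p.left f.left hf') ?_, ?_⟩
  · rw [← cancel_epi p.left, ← Category.assoc, hfac, Over.w, Over.w]
  · ext1
    exact hfac

theorem epi_of {G X : Over S} (p : G ⟶ X) [EffectiveEpi p.left] : Epi p :=
  Over.epi_of_epi_left _

/-- A property stable under composition and base change passes to products of morphisms. -/
theorem tensorHom_left_of {X Y X' Y' : Over S} (P : MorphismProperty Scheme.{u}) [P.IsStableUnderBaseChange]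
    [P.IsStableUnderComposition] (a : X ⟶ X') (b : Y ⟶ Y') (ha : P a.left) (hb : P b.left) :
    P (a ⊗ₘ b).left :=
  MorphismProperty.pullbackMap ha hb (Over.w a).symm (Over.w b).symm

/-- Homomorphisms descend along quotients. -/
theorem exists_desc_hom {L G Q P : Over S} [GrpObj G] [GrpObj Q] [GrpObj P] (l : L ⟶ G) (q : G ⟶ Q)
    [IsMonHom q] [Flat q.left] [Surjective q.left] [QuasiCompact q.left]
    (h : AlgGrp.IsKernel l q) (φ : G ⟶ P) [IsMonHom φ] (hφ : l ≫ φ = 1) :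
    ∃ ψ : Q ⟶ P, IsMonHom ψ ∧ q ≫ ψ = φ := by
  obtain ⟨ψ, hψ⟩ := exists_desc q φ (fun T x y hxy => by
    obtain ⟨z, hz⟩ := exists_lift_ker h (x * y⁻¹) (by
      rw [MonObj.mul_comp, GrpObj.inv_comp, hxy, mul_inv_cancel])
    have h1 : (x * y⁻¹) ≫ φ = 1 := by
      rw [← hz, Category.assoc, hφ, MonObj.comp_one]
    rw [MonObj.mul_comp, GrpObj.inv_comp] at h1
    exact mul_inv_eq_one.mp h1)
  refine ⟨ψ, ⟨?_, ?_⟩, hψ⟩
  · rw [← IsMonHom.one_hom q, Category.assoc, hψ, IsMonHom.one_hom]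
  · have f2 : Flat (q ⊗ₘ q).left := tensorHom_left_of (@Flat) q q ‹_› ‹_›
    have s2 : Surjective (q ⊗ₘ q).left := tensorHom_left_of (@Surjective) q q ‹_› ‹_›
    have c2 : QuasiCompact (q ⊗ₘ q).left := tensorHom_left_of (@QuasiCompact) q q ‹_› ‹_›
    have := epi_of (q ⊗ₘ q)
    rw [← cancel_epi (q ⊗ₘ q), ← Category.assoc, ← IsMonHom.mul_hom q, Category.assoc, hψ,
      IsMonHom.mul_hom, ← Category.assoc, tensorHom_comp_tensorHom, hψ]

end K404.Desc
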