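import Groth.Prelude.Def_W4bk4git07Quot
import Groth.Agent.Books.BorelOrb
import Groth.Agent.Sga3.H804.EtFam

/-! Locally isotrivial bundles are principal. -/

set_option autoImplicit false
universe u

open CategoryTheory CategoryTheory.Limits MonoidalCategory CartesianMonoidalCategory MonObj GrpObj AlgebraicGeometry
open Groth.Agent.Books.BorelOrb

namespace K404.Isotriv

/-- A commutative square which is cartesian on points is cartesian. -/
theorem isPullback_of_points {C : Type*} [Category* C] {P X Y Z : C} {p : P ⟶ X} {q : P ⟶ Y}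
    {f : X ⟶ Z} {g : Y ⟶ Z} (w : p ≫ f = q ≫ g)
    (h : ∀ (T : C) (x : T ⟶ X) (y : T ⟶ Y), x ≫ f = y ≫ g →
      ∃ e : T ⟶ P, e ≫ p = x ∧ e ≫ q = y)
    (h' : ∀ (T : C) (e e' : T ⟶ P), e ≫ p = e' ≫ p → e ≫ q = e' ≫ q → e = e') : IsPullback p q f g := by
  refine ⟨⟨w⟩, ⟨PullbackCone.IsLimit.mk w (fun s => (h _ s.fst s.snd s.condition).choose)
    (fun s => ?_) (fun s => ?_) (fun s m h1 h2 => ?_)⟩⟩
  · exact (h _ s.fst s.snd s.condition).choose_spec.1
  · exact (h _ s.fst s.snd s.condition).choose_spec.2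
  · exact h' _ _ _ (h1.trans (h _ s.fst s.snd s.condition).choose_spec.1.symm)
      (h2.trans (h _ s.fst s.snd s.condition).choose_spec.2.symm)

/-- A commutative square of `S`-schemes is cartesian if it is so as a square of schemes. -/
theorem isPullback_over {S : Scheme.{u}} {P X Y Z : Over S} {p : P ⟶ X} {q : P ⟶ Y}
    {f : X ⟶ Z} {g : Y ⟶ Z} (h : IsPullback p.left q.left f.left g.left) : IsPullback p q f g := by
  have w : p ≫ f = q ≫ g := by
    ext
    rw [Over.comp_left, Over.comp_left]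
    exact h.w
  refine isPullback_of_points w (fun T x y hxy => ?_) (fun T e e' h1 h2 => ?_)
  · have hxy' : x.left ≫ f.left = y.left ≫ g.left := by
      rw [← Over.comp_left, ← Over.comp_left, hxy]
    refine ⟨Over.homMk (h.lift x.left y.left hxy') ?_, ?_, ?_⟩
    · rw [← Over.w p, h.lift_fst_assoc, Over.w]
    · ext
      simp
    · ext
      simp
  · ext
    apply h.hom_ext
    · rw [← Over.comp_left, ← Over.comp_left, h1]
    · rw [← Over.comp_left, ← Over.comp_left, h2]

variable {S : Scheme.{u}} {G P X U R : Over S} [GrpObj G] (a : AlgGrp.Action G P) {π : P ⟶ X}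
  {v : U ⟶ X} {s : U ⟶ P}

/-- the map `(u, g) ↦ g s(u)` -/
noncomputable def orb (s : U ⟶ P) : U ⊗ G ⟶ P := lift (snd U G) (fst U G ≫ s) ≫ a.act

lemma lift_orb {T : Over S} (x : T ⟶ U) (g : T ⟶ G) : lift x g ≫ orb a s = sm a g (x ≫ s) := by
  rw [orb, ← Category.assoc, comp_lift, lift_snd, ← Category.assoc, lift_fst]
  rfl

lemma inv_sm (hinv : a.act ≫ π = snd G P ≫ π) {T : Over S} (g : T ⟶ G) (p : T ⟶ P) :
    sm a g p ≫ π = p ≫ π := by
  rw [sm, Category.assoc, hinv, ← Category.assoc, lift_snd]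

include a in
lemma exists_of_eq (hpb : IsPullback (fst U G) (orb a s) v π) {T : Over S} (x : T ⟶ U) (p : T ⟶ P)
    (h : x ≫ v = p ≫ π) : ∃ g : T ⟶ G, sm a g (x ≫ s) = p := by
  refine ⟨hpb.lift x p h ≫ snd U G, ?_⟩
  rw [← lift_orb]
  have : lift x (hpb.lift x p h ≫ snd U G) = hpb.lift x p h := by
    apply CartesianMonoidalCategory.hom_ext
    · rw [lift_fst, hpb.lift_fst]
    · rw [lift_snd]
  rw [this, hpb.lift_snd]

lemma eq_of_sm_eq (hpb : IsPullback (fst U G) (orb a s) v π) {T : Over S} (x : T ⟶ U) (g h : T ⟶ G)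
    (e : sm a g (x ≫ s) = sm a h (x ≫ s)) : g = h := by
  have : lift x g = lift x h := by
    apply hpb.hom_ext
    · rw [lift_fst, lift_fst]
    · rw [lift_orb, lift_orb, e]
  have := congrArg (· ≫ snd U G) this
  simpa using this

section

variable (hinv : a.act ≫ π = snd G P ≫ π) {p₁ p₂ : R ⟶ P} (hR : IsPullback p₁ p₂ π π)
  (hs : s ≫ π = v)

include hinv hs in
lemma orb_π : orb a s ≫ π = fst U G ≫ v := by
  have h := lift_orb (s := s) a (fst U G) (snd U G)
  rw [lift_fst_snd, Category.id_comp] at h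
  rw [h, inv_sm a hinv, Category.assoc, hs]

/-- the map `(g, u, h) ↦ (g h s(u), h s(u))` -/
noncomputable def w : G ⊗ (U ⊗ G) ⟶ R :=
  hR.lift ((G ◁ orb a s) ≫ a.act) (snd _ _ ≫ orb a s) (by
    rw [Category.assoc, hinv, ← Category.assoc]
    rw [whiskerLeft_snd])

lemma lift_w_p₁ {T : Over S} (g h : T ⟶ G) (x : T ⟶ U) :
    lift g (lift x h) ≫ w a hinv hR (s := s) ≫ p₁ = sm a (g * h) (x ≫ s) := by
  rw [w, hR.lift_fst, ← Category.assoc, lift_whiskerLeft, lift_orb, mul_sm]
  rfl

lemma lift_w_p₂ {T : Over S} (g h : T ⟶ G) (x : T ⟶ U) :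
    lift g (lift x h) ≫ w a hinv hR (s := s) ≫ p₂ = sm a h (x ≫ s) := by
  rw [w, hR.lift_snd, ← Category.assoc, lift_snd, lift_orb]

lemma eq_lift {T : Over S} (z : T ⟶ G ⊗ (U ⊗ G)) :
    ∃ (g : T ⟶ G) (x : T ⟶ U) (h : T ⟶ G), z = lift g (lift x h) := by
  refine ⟨z ≫ fst _ _, z ≫ snd _ _ ≫ fst _ _, z ≫ snd _ _ ≫ snd _ _, ?_⟩
  apply CartesianMonoidalCategory.hom_ext
  · rw [lift_fst]
  · rw [lift_snd]
    apply CartesianMonoidalCategory.hom_ext
    · simp
    · simp

include hs in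
/-- the family `w` is a base change of `v` -/
theorem isPullback_w (hpb : IsPullback (fst U G) (orb a s) v π) :
    IsPullback (w a hinv hR (s := s)) (snd _ _ ≫ fst _ _) (p₂ ≫ π) v := by
  refine isPullback_of_points ?_ ?_ ?_
  · rw [w, hR.lift_snd_assoc, Category.assoc, orb_π a hinv hs, Category.assoc]
  · intro T x y hxy
    have hx : x ≫ p₁ ≫ π = x ≫ p₂ ≫ π := by rw [hR.w]
    obtain ⟨h₂, e₂⟩ := exists_of_eq a hpb y (x ≫ p₂) (by rw [← hxy, Category.assoc])
    obtain ⟨h₁, e₁⟩ := exists_of_eq a hpb y (x ≫ p₁) (by rw [← hxy, Category.assoc, hx])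
    refine ⟨lift (h₁ * h₂⁻¹) (lift y h₂), ?_, ?_⟩
    · apply hR.hom_ext
      · rw [Category.assoc, lift_w_p₁, inv_mul_cancel_right, e₁]
      · rw [Category.assoc, lift_w_p₂, e₂]
    · simp
  · intro T e e' h1 h2
    obtain ⟨g, x, h, rfl⟩ := eq_lift e
    obtain ⟨g', x', h', rfl⟩ := eq_lift e'
    simp only [lift_snd_assoc, lift_fst] at h2
    subst h2
    have e1 := congrArg (· ≫ p₁) h1
    have e2 := congrArg (· ≫ p₂) h1
    simp only [Category.assoc, lift_w_p₁, lift_w_p₂] at e1 e2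
    have h3 := eq_of_sm_eq a hpb _ _ _ e2
    subst h3
    have h4 := mul_right_cancel (eq_of_sm_eq a hpb _ _ _ e1)
    rw [h4]

/-- `(g, p) ↦ (g p, p)` -/
noncomputable def psi : G ⊗ P ⟶ R := hR.lift a.act (snd _ _) hinv

/-- the base change of `psi` along `w` is the identity -/
theorem isPullback_psi (hpb : IsPullback (fst U G) (orb a s) v π) :
    IsPullback (G ◁ orb a s) (𝟙 _) (psi a hinv hR) (w a hinv hR (s := s)) := by
  refine isPullback_of_points ?_ ?_ ?_
  · apply hR.hom_ext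
    · rw [Category.assoc, psi, hR.lift_fst, Category.id_comp, w, hR.lift_fst]
    · rw [Category.assoc, psi, hR.lift_snd, Category.id_comp, w, hR.lift_snd, whiskerLeft_snd]
  · intro T x y hxy
    obtain ⟨g, z, h, rfl⟩ := eq_lift y
    refine ⟨lift g (lift z h), ?_, Category.comp_id _⟩
    have e1 := congrArg (· ≫ p₁) hxy
    have e2 := congrArg (· ≫ p₂) hxy
    simp only [Category.assoc, lift_w_p₁, lift_w_p₂, psi, hR.lift_fst, hR.lift_snd] at e1 e2
    rw [lift_whiskerLeft, lift_orb, ← e2]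
    have h3 : x = lift (x ≫ fst _ _) (sm a h (z ≫ s)) := by
      apply CartesianMonoidalCategory.hom_ext
      · rw [lift_fst]
      · rw [lift_snd, e2]
    rw [h3] at e1
    have h4 : sm a (x ≫ fst _ _) (sm a h (z ≫ s)) = sm a (g * h) (z ≫ s) := e1
    rw [← mul_sm] at h4
    have h5 := mul_right_cancel (eq_of_sm_eq a hpb _ _ _ h4)
    rw [← h5]
    apply CartesianMonoidalCategory.hom_ext
    · rw [lift_fst]
    · rw [lift_snd]
  · intro T e e' _ h2
    rwa [Category.comp_id, Category.comp_id] at h2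

end

/-- **Locally isotrivial bundles are principal.** -/
theorem main {S : Scheme.{u}} {G P X : Over S} [GrpObj G] (hG : Flat G.hom) (a : AlgGrp.Action G P) (π : P ⟶ X)
    (hinv : GIT.IsInvariant a π)
    (hli : ∀ x : ↥X.left, ∃ (U : X.left.Opens) (_ : x ∈ U) (U' : Scheme.{u}) (φ : U' ⟶ ↑U)
      (_ : Etale φ) (_ : Surjective φ) (s : Over.mk (φ ≫ U.ι ≫ X.hom) ⟶ P),
      s.left ≫ π.left = φ ≫ U.ι ∧
      IsPullback (fst (Over.mk (φ ≫ U.ι ≫ X.hom)) G).left
        (lift (snd (Over.mk (φ ≫ U.ι ≫ X.hom)) G) (fst (Over.mk (φ ≫ U.ι ≫ X.hom)) G ≫ s) ≫ a.act).left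
        (φ ≫ U.ι) π.left) :
    IsIso (GIT.PsiY a π hinv) ∧ Flat π.left := by
  choose U hxU U' φ hφe hφs s hs hpb using hli
  let V : X.left → Over S := fun x => Over.mk (φ x ≫ (U x).ι ≫ X.hom)
  let v : ∀ x, V x ⟶ X := fun x => Over.homMk (φ x ≫ (U x).ι) (by simp [V])
  have hvet : ∀ x, Etale (v x).left := fun x => by
    change Etale (φ x ≫ (U x).ι)
    infer_instance
  have hvr : ∀ x : X.left, x ∈ Set.range (v x).left := fun x => by
    obtain ⟨y, hy⟩ := (hφs x).surj ⟨x, hxU x⟩
    refine ⟨y, ?_⟩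
    change (φ x ≫ (U x).ι) y = x
    rw [Scheme.Hom.comp_apply, hy]
    rfl
  have hs' : ∀ x, s x ≫ π = v x := fun x => by
    ext
    exact hs x
  have hpb' : ∀ x, IsPullback (fst (V x) G) (orb a (s x)) (v x) π := fun x => isPullback_over (hpb x)
  constructor
  · let R : Over S := Over.mk (pullback.fst π.left π.left ≫ P.hom)
    let p₁ : R ⟶ P := Over.homMk (pullback.fst π.left π.left) rfl
    let p₂ : R ⟶ P := Over.homMk (pullback.snd π.left π.left) (by
      change pullback.snd π.left π.left ≫ P.hom = pullback.fst π.left π.left ≫ P.hom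
      rw [← Over.w π, pullback.condition_assoc])
    have hR : IsPullback p₁ p₂ π π := isPullback_over (IsPullback.of_hasPullback π.left π.left)
    have hpsi : (psi a hinv hR).left = GIT.PsiY a π hinv := by
      apply pullback.hom_ext
      · rw [GIT.PsiY, pullback.lift_fst]
        change (psi a hinv hR).left ≫ p₁.left = _
        rw [← Over.comp_left, psi, hR.lift_fst]
      · rw [GIT.PsiY, pullback.lift_snd]
        change (psi a hinv hR).left ≫ p₂.left = _
        rw [← Over.comp_left, psi, hR.lift_snd]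
    rw [← hpsi]
    have hpw : ∀ x, IsPullback (w a hinv hR (s := s x)).left (snd G (V x ⊗ G) ≫ fst (V x) G).left
        (p₂ ≫ π).left (v x).left :=
      fun x => (isPullback_w a hinv hR (hs' x) (hpb' x)).map (Over.forget S)
    have hpp : ∀ x, IsPullback (G ◁ orb a (s x)).left (𝟙 (G ⊗ (V x ⊗ G)) : _).left (psi a hinv hR).left
        (w a hinv hR (s := s x)).left :=
      fun x => (isPullback_psi a hinv hR (hpb' x)).map (Over.forget S)
    have hiso : MorphismProperty.isomorphisms Scheme.{u} (psi a hinv hR).left := by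
      refine Groth.Agent.Sga3.H804.EtFam.of_etale_family (P := MorphismProperty.isomorphisms Scheme.{u})
        (psi a hinv hR).left (fun x : X.left => (G ⊗ (V x ⊗ G)).left) (fun x => (w a hinv hR (s := s x)).left)
        (fun x => ?_) (fun r => ?_) hpp (fun x => ?_)
      · exact MorphismProperty.of_isPullback (P := @Etale) (hpw x).flip (hvet x)
      · refine ⟨(p₂ ≫ π).left r, ?_⟩
        obtain ⟨y, hy⟩ := hvr ((p₂ ≫ π).left r)
        obtain ⟨z, hz, -⟩ := Scheme.Pullback.exists_preimage_pullback r y hy.symm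
        refine ⟨(hpw _).isoPullback.inv z, ?_⟩
        rw [← Scheme.Hom.comp_apply, (hpw _).isoPullback_inv_fst, hz]
      · change IsIso (𝟙 (G ⊗ (V x ⊗ G)) : _).left
        rw [Over.id_left]
        infer_instance
    exact hiso
  · refine Groth.Agent.Sga3.H804.EtFam.flat_of_etale_family π.left (fun x : X.left => (V x).left)
      (fun x => (v x).left) hvet (fun x => ⟨x, hvr x⟩) (fun x => ((hpb' x).map (Over.forget S)).flip) (fun x => ?_)
    change Flat (fst (V x) G).left
    rw [Over.fst_left]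
    infer_instance

end K404.Isotriv
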