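import Groth.Prelude.Def_SGA7IX
import Groth.Agent.S3027
import Groth.Agent.Sga7.H109.ProperAffine
import Groth.Agent.Sga3B.Pts
import Groth.Agent.AlgGrp.K404.Desc
import Groth.Agent.AlgGrp.K404.Isotriv

/-! Abelian subvarieties of a group variety: centrality and the isogeny `A × N → G`. -/

set_option autoImplicit false
universe u

open CategoryTheory CategoryTheory.Limits MonoidalCategory CartesianMonoidalCategory MonObj GrpObj AlgebraicGeometry

namespace K404.AbAff

open Desc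

variable {k : Type u} [Field k]

/-- A proper smooth connected subgroup (more generally homomorphic image of such a group) of a connected
algebraic group is central. -/
theorem commute_of_proper (G A : Over (Spec (CommRingCat.of k))) [GrpObj G] [GrpObj A]
    [LocallyOfFiniteType G.hom] [QuasiCompact G.hom] [ConnectedSpace G.left]
    [IsProper A.hom] [Smooth A.hom] [ConnectedSpace A.left] (j : A ⟶ G) [IsMonHom j]
    {T : Over (Spec (CommRingCat.of k))} (x : T ⟶ A) (g : T ⟶ G) : (x ≫ j) * g = g * (x ≫ j) := by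
  obtain ⟨Z, _, z, hz1, hz2, hzc, Q, _, q, hq1, hq2, hq3, hq4, hq5, hq6⟩ := Groth.Agent.S3027.result k G
  have h1 : j ≫ q = 1 := Groth.Agent.Sga7.H109.ProperAffine.hom_eq_one k A Q (j ≫ q)
  obtain ⟨a, ha⟩ := exists_lift_ker hq6 j h1
  have h2 := (hzc T (x ≫ j)).mp ⟨x ≫ a, by rw [Category.assoc, ha]⟩ T (𝟙 T) g
  rwa [Category.id_comp] at h2

lemma comp_mulMap {S : Scheme.{u}} {G A N : Over S} [GrpObj G] (j : A ⟶ G) (i : N ⟶ G) {T : Over S}
    (z : T ⟶ A ⊗ N) : z ≫ (j ⊗ₘ i) ≫ μ[G] = (z ≫ fst A N ≫ j) * (z ≫ snd A N ≫ i) := by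
  rw [Hom.mul_def, ← comp_lift, Category.assoc]
  congr 2

lemma lift_mulMap {S : Scheme.{u}} {G A N : Over S} [GrpObj G] (j : A ⟶ G) (i : N ⟶ G) {T : Over S}
    (x : T ⟶ A) (y : T ⟶ N) : lift x y ≫ (j ⊗ₘ i) ≫ μ[G] = (x ≫ j) * (y ≫ i) := by
  rw [comp_mulMap]
  simp

/-- If the image of `j` is centralised by the image of `i` then `(a, n) ↦ j(a) i(n)` is a homomorphism. -/
theorem isMonHom_mul {S : Scheme.{u}} {G A N : Over S} [GrpObj G] [GrpObj A] [GrpObj N] (j : A ⟶ G) (i : N ⟶ G)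
    [IsMonHom j] [IsMonHom i]
    (h : ∀ (T : Over S) (x : T ⟶ A) (y : T ⟶ N), (x ≫ j) * (y ≫ i) = (y ≫ i) * (x ≫ j)) :
    IsMonHom ((j ⊗ₘ i) ≫ μ[G]) := by
  apply Groth.Agent.Sga3B.Pts.isMonHom_of_points
  intro T x y
  rw [comp_mulMap, comp_mulMap, comp_mulMap, ← Category.assoc, ← Category.assoc (x * y), MonObj.mul_comp,
    MonObj.mul_comp, MonObj.mul_comp, MonObj.mul_comp, _root_.mul_assoc, _root_.mul_assoc]
  congr 1
  simp only [Category.assoc]
  have h1 := h T (y ≫ fst A N) (x ≫ snd A N)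
  simp only [Category.assoc] at h1
  rw [← _root_.mul_assoc, h1, _root_.mul_assoc]

/-- The kernel of `A → G → Q` is `A ×_G N` when `N` is the kernel of `G → Q`. -/
theorem isPullback_of_isKernel {S : Scheme.{u}} {G N Q A K : Over S} [GrpObj Q] {i : N ⟶ G} {π : G ⟶ Q}
    (hker : AlgGrp.IsKernel i π) {j : A ⟶ G} {m : K ⟶ A} (hm : AlgGrp.IsKernel m (j ≫ π)) :
    ∃ n : K ⟶ N, IsPullback m n j i := by
  obtain ⟨n, hn⟩ := exists_lift_ker hker (m ≫ j) (by rw [Category.assoc]; exact ker_eq_one hm)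
  refine ⟨n, Isotriv.isPullback_of_points hn.symm (fun T x y hxy => ?_) (fun T e e' h1 _ => ?_)⟩
  · have h1 : x ≫ j ≫ π = 1 := by
      rw [← Category.assoc, hxy, ker_comp hker]
    obtain ⟨e, he⟩ := exists_lift_ker hm x h1
    refine ⟨e, he, ?_⟩
    have := mono_ker hker
    rw [← cancel_mono i, Category.assoc, hn, ← Category.assoc, he, hxy]
  · have := mono_ker hm
    rwa [cancel_mono] at h1

/-- Finiteness of the kernel of `A → G → Q`. -/
theorem isFinite_of_isKernel {G N Q A K : Over (Spec (CommRingCat.of k))} [GrpObj Q] {i : N ⟶ G} {π : G ⟶ Q}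
    (hker : AlgGrp.IsKernel i π) [IsClosedImmersion i.left] [IsAffine N.left] {j : A ⟶ G} [IsClosedImmersion j.left]
    [IsProper A.hom] {m : K ⟶ A} (hm : AlgGrp.IsKernel m (j ≫ π)) : IsFinite K.hom := by
  obtain ⟨n, hn⟩ := isPullback_of_isKernel hker hm
  have hn' : IsPullback m.left n.left j.left i.left := hn.map (Over.forget _)
  have h1 : IsClosedImmersion m.left := MorphismProperty.of_isPullback (P := @IsClosedImmersion) hn'.flip ‹_›
  have h2 : IsClosedImmersion n.left := MorphismProperty.of_isPullback (P := @IsClosedImmersion) hn' ‹_›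
  have h3 : IsAffine K.left := isAffine_of_isAffineHom n.left
  have h4 : IsProper K.hom := by
    rw [← Over.w m]; infer_instance
  exact IsFinite.iff_isProper_and_isAffineHom.2 ⟨h4, inferInstance⟩

/-- The kernel of the multiplication map `A × N → G`. -/
theorem isKernel_fst {S : Scheme.{u}} {G N Q A K : Over S} [GrpObj G] [GrpObj N] [GrpObj Q] {i : N ⟶ G} {π : G ⟶ Q}
    [IsMonHom i] (hker : AlgGrp.IsKernel i π) {j : A ⟶ G} [IsMonHom π] {l : K ⟶ A ⊗ N}
    (hl : AlgGrp.IsKernel l ((j ⊗ₘ i) ≫ μ[G])) : AlgGrp.IsKernel (l ≫ fst A N) (j ≫ π) := by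
  have hmono := mono_ker hker
  have hml := mono_ker hl
  have hinv : ∀ {T : Over S} (e : T ⟶ K), e ≫ l ≫ snd A N ≫ i = (e ≫ l ≫ fst A N ≫ j)⁻¹ := by
    intro T e
    have h1 := ker_comp hl e
    rw [comp_mulMap] at h1
    simp only [Category.assoc] at h1
    exact eq_inv_of_mul_eq_one_right h1
  refine Isotriv.isPullback_of_points ?_ (fun T x y hxy => ?_) (fun T e e' h1 _ => ?_)
  · have h1 := hinv (𝟙 K)
    rw [Category.id_comp, Category.id_comp] at h1
    have h2 : (l ≫ fst A N ≫ j) = (l ≫ snd A N ≫ i)⁻¹ := by rw [h1, _root_.inv_inv]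
    have h3 : i ≫ π = 1 := ker_eq_one hker
    have h4 : (l ≫ fst A N) ≫ j ≫ π = (l ≫ fst A N ≫ j) ≫ π := by simp only [Category.assoc]
    rw [h4, h2, GrpObj.inv_comp, Category.assoc, Category.assoc, h3, MonObj.comp_one, MonObj.comp_one, inv_one]
    rfl
  · have h1 : (x ≫ j) ≫ π = 1 := by
      rw [Category.assoc, hxy, ← toUnit_unique (toUnit T) y]
      rfl
    obtain ⟨n, hn⟩ := exists_lift_ker hker (x ≫ j) h1
    obtain ⟨e, he⟩ := exists_lift_ker hl (lift x n⁻¹) (by
      rw [lift_mulMap, GrpObj.inv_comp, hn, mul_inv_cancel])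
    exact ⟨e, by rw [← Category.assoc, he, lift_fst], toUnit_unique _ _⟩
  · have h2 := hinv e
    have h3 := hinv e'
    have h4 : e ≫ l ≫ fst A N ≫ j = e' ≫ l ≫ fst A N ≫ j := by
      have := congrArg (· ≫ j) h1
      simpa only [Category.assoc] using this
    rw [← cancel_mono l]
    apply CartesianMonoidalCategory.hom_ext
    · simpa only [Category.assoc] using h1
    · rw [← cancel_mono i]
      simp only [Category.assoc]
      rw [h2, h3, h4]

/-- S14751 -/
theorem main (G N A Q : Over (Spec (CommRingCat.of k))) [GrpObj G] [GrpObj N] [GrpObj A] [GrpObj Q]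
    [LocallyOfFiniteType G.hom] [QuasiCompact G.hom] [ConnectedSpace ↥G.left]
    (i : N ⟶ G) [IsMonHom i] [IsClosedImmersion i.left] [IsAffine N.left]
    (π : G ⟶ Q) [IsMonHom π] [Surjective π.left] (hker : AlgGrp.IsKernel i π)
    (j : A ⟶ G) [IsMonHom j] [IsClosedImmersion j.left] [Smooth A.hom] [ConnectedSpace ↥A.left] [IsProper A.hom]
    (hsurj : Surjective ((j ⊗ₘ i) ≫ μ[G]).left) :
    IsMonHom ((j ⊗ₘ i) ≫ μ[G]) ∧ SGA7.IsIsogenyOver ((j ⊗ₘ i) ≫ μ[G]) ∧ SGA7.IsIsogenyOver (j ≫ π) := by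
  refine ⟨isMonHom_mul j i (fun T x y => commute_of_proper G A j x (y ≫ i)), ⟨hsurj, fun K l hl => ?_⟩, ?_,
    fun K m hm => isFinite_of_isKernel hker hm⟩
  · exact isFinite_of_isKernel hker (isKernel_fst hker hl)
  · have h1 : ((j ⊗ₘ i) ≫ μ[G]) ≫ π = fst A N ≫ j ≫ π := by
      have h2 := comp_mulMap j i (𝟙 (A ⊗ N))
      rw [Category.id_comp, Category.id_comp, Category.id_comp] at h2
      rw [h2, MonObj.mul_comp, Category.assoc, Category.assoc, ker_eq_one hker, MonObj.comp_one, _root_.mul_one]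
    have h3 : Surjective (((j ⊗ₘ i) ≫ μ[G]) ≫ π).left := by
      rw [Over.comp_left]; infer_instance
    rw [h1, Over.comp_left] at h3
    exact Surjective.of_comp (fst A N).left (j ≫ π).left

end K404.AbAff
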