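import Groth.Agent.AlgGrp.K404.MulPb
import Groth.Agent.S3030
import Groth.Agent.S0114
import Groth.Agent.S4106
import Groth.Agent.S4107
import Groth.Agent.Books.AntiAffine
import Groth.Agent.AlgGrp.K398.AntiAff

/-! Quotients and affine hulls. -/

set_option autoImplicit false
universe u

open CategoryTheory CategoryTheory.Limits MonoidalCategory CartesianMonoidalCategory MonObj GrpObj AlgebraicGeometry

namespace K404.QuoKit

open Desc AbAff MulPb

variable (k : Type u) [Field k]

theorem compactSpace_of (G : Over (Spec (CommRingCat.of k))) [QuasiCompact G.hom] : CompactSpace G.left :=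
  QuasiCompact.compactSpace_of_compactSpace G.hom

theorem quasiCompact_of {G Q : Over (Spec (CommRingCat.of k))} [QuasiCompact G.hom] (q : G ⟶ Q) [Surjective q.left] :
    QuasiCompact Q.hom := by
  have := compactSpace_of k G
  have : CompactSpace Q.left := by
    rw [← isCompact_univ_iff, ← q.left.surjective.range_eq]
    exact isCompact_range q.left.continuous
  exact quasiCompact_of_compactSpace Q.hom

theorem locallyOfFiniteType_of {G Q : Over (Spec (CommRingCat.of k))} [LocallyOfFiniteType G.hom] (q : G ⟶ Q)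
    [Flat q.left] [Surjective q.left] [LocallyOfFinitePresentation q.left] : LocallyOfFiniteType Q.hom := by
  have : IsNoetherianRing (CommRingCat.of k) := inferInstanceAs (IsNoetherianRing k)
  have : IsLocallyNoetherian (Spec (CommRingCat.of k)) := inferInstance
  have : LocallyOfFinitePresentation G.hom := LocallyOfFinitePresentation.iff_locallyOfFiniteType.2 ‹_›
  have : LocallyOfFinitePresentation (q.left ≫ Q.hom) := by rw [Over.w]; exact this
  have : LocallyOfFinitePresentation Q.hom := Groth.Agent.S0114.result q.left Q.hom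
  infer_instance

/-- Quotients of algebraic groups over a field by normal closed subgroups. -/
theorem exists_quotient (G N : Over (Spec (CommRingCat.of k))) [GrpObj G] [GrpObj N] [LocallyOfFiniteType G.hom]
    [QuasiCompact G.hom] (i : N ⟶ G) [IsMonHom i] [IsClosedImmersion i.left] (hN : AlgGrp.IsNormalHom i) :
    ∃ (Q : Over (Spec (CommRingCat.of k))) (_ : GrpObj Q) (q : G ⟶ Q), IsMonHom q ∧ Flat q.left ∧ Surjective q.left ∧
      LocallyOfFinitePresentation q.left ∧ AlgGrp.IsKernel i q ∧ LocallyOfFiniteType Q.hom ∧ QuasiCompact Q.hom ∧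
      IsSeparated Q.hom ∧ (Smooth G.hom → Smooth Q.hom) ∧ (UniversallyClosed G.hom → IsProper Q.hom) ∧
      (ConnectedSpace G.left → ConnectedSpace Q.left) ∧ (IsAffine G.left → IsAffine Q.left) := by
  have hft : LocallyOfFiniteType N.hom := by rw [← Over.w i]; infer_instance
  have hm : Mono i := Groth.Agent.Books.AlgPtsGrp.mono_of_isClosedImmersion i
  have hI : IsIntegral (Spec (CommRingCat.of k)) := inferInstance
  have hS : Subsingleton (Spec (CommRingCat.of k)) := inferInstanceAs (Subsingleton (PrimeSpectrum k))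
  obtain ⟨Q, _, q, h1, h2, h3, h4, h5, h6, h7, h8⟩ := Groth.Agent.S3030.result k N G i hN
  have hQft := locallyOfFiniteType_of k q
  have hQqc := quasiCompact_of k q
  refine ⟨Q, _, q, h1, h2, h3, h4, h5, hQft, hQqc, h6, h8, fun hG => ?_, fun hG => ?_, fun hG => ?_⟩
  · have huc : UniversallyClosed Q.hom := by
      have h' : UniversallyClosed (q.left ≫ Q.hom) := by
        rw [Over.w]; infer_instance
      exact UniversallyClosed.of_comp_surjective q.left Q.hom
    exact { }
  · exact h3.surj.connectedSpace q.left.continuous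
  · exact Groth.Agent.Sga3.H821.AffProper.isAffine_of_flat_surjective k G Q q

open Groth.Agent.Sga3C.Affinization Groth.Agent.Sga3B.KerGrp in
/-- The affine hull `G → H = Spec O(G)` and its anti-affine kernel `M`. -/
theorem exists_hull (G : Over (Spec (CommRingCat.of k))) [GrpObj G] [LocallyOfFiniteType G.hom]
    [QuasiCompact G.hom] :
    ∃ (M H : Over (Spec (CommRingCat.of k))) (_ : GrpObj M) (_ : GrpObj H) (m : M ⟶ G) (ρ : G ⟶ H), IsMonHom m ∧
      IsMonHom ρ ∧ IsClosedImmersion m.left ∧ Flat ρ.left ∧ Surjective ρ.left ∧ AlgGrp.IsKernel m ρ ∧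
      IsAffine H.left ∧ LocallyOfFiniteType H.hom ∧
      Function.Bijective ((Scheme.ΓSpecIso (CommRingCat.of k)).inv ≫ M.hom.appTop).hom ∧
      Smooth M.hom ∧ ConnectedSpace M.left := by
  have h1 : CompactSpace G.left := QuasiCompact.compactSpace_of_compactSpace G.hom
  have h2 : IsLocallyNoetherian G.left := LocallyOfFiniteType.isLocallyNoetherian G.hom
  have ha := isAffinization_toAff G
  obtain ⟨_, h3⟩ := Groth.Agent.Sga3C.AffinizationGrp.exists_grpObj ha
  obtain ⟨h4, h5, h6⟩ := Groth.Agent.S4107.main (toAff G) ha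
  obtain ⟨_, h7⟩ := exists_grpObj (toAff G)
  obtain ⟨h8, h9, h10⟩ := Groth.Agent.S4106.result k G
  have h11 : IsAffine (affOver G).left := ha.isAffine
  have h12 : LocallyOfFiniteType (affOver G).hom := by
    have : (affOver G).hom = Spec.map G.hom.appTop ≫ (Spec (CommRingCat.of k)).isoSpec.inv := by
      rw [Scheme.isoSpec_Spec_inv, ← Spec.map_comp]
      rfl
    rw [this]
    exact h10
  refine ⟨kerObj (toAff G), affOver G, _, _, kerι (toAff G), toAff G, h7, h3, inferInstance, h9, h8,
    isPullback_ker _, h11, h12, ConcreteCategory.bijective_of_isIso _, h5, h6⟩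

/-- Homomorphisms from an anti-affine group to an affine group are trivial. -/
theorem hom_eq_one_of_antiAffine {M X : Over (Spec (CommRingCat.of k))} [GrpObj M] [GrpObj X]
    (hM : Function.Bijective ((Scheme.ΓSpecIso (CommRingCat.of k)).inv ≫ M.hom.appTop).hom) [IsAffine X.left]
    (f : M ⟶ X) [IsMonHom f] : f = 1 := by
  have := K398.AntiAff.isIso_appTop hM
  rw [K398.AntiAff.eq_const (η[M]) f, IsMonHom.one_hom]
  rfl

/-- Anti-affine subgroups of a connected group are central. -/
theorem commute_of_antiAffine (G M : Over (Spec (CommRingCat.of k))) [GrpObj G] [GrpObj M]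
    [LocallyOfFiniteType G.hom] [QuasiCompact G.hom] [ConnectedSpace G.left]
    (hM : Function.Bijective ((Scheme.ΓSpecIso (CommRingCat.of k)).inv ≫ M.hom.appTop).hom) (j : M ⟶ G) [IsMonHom j]
    {T : Over (Spec (CommRingCat.of k))} (x : T ⟶ M) (g : T ⟶ G) : (x ≫ j) * g = g * (x ≫ j) := by
  obtain ⟨Z, _, z, hz1, hz2, hzc, Q, _, q, hq1, hq2, hq3, hq4, hq5, hq6⟩ := Groth.Agent.S3027.result k G
  have h1 : j ≫ q = 1 := hom_eq_one_of_antiAffine k hM (j ≫ q)
  obtain ⟨a, ha⟩ := exists_lift_ker hq6 j h1
  have h2 := (hzc T (x ≫ j)).mp ⟨x ≫ a, by rw [Category.assoc, ha]⟩ T (𝟙 T) g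
  rwa [Category.id_comp] at h2

/-- If a proper group `B` is the image of a connected affine group then it has one point. -/
theorem range_one_of_surjective {H B : Over (Spec (CommRingCat.of k))} [GrpObj H] [GrpObj B] [IsAffine H.left]
    [LocallyOfFiniteType H.hom] [ConnectedSpace H.left] [IsProper B.hom] (f : H ⟶ B) [IsMonHom f]
    [Surjective f.left] : Set.range (η[B] : 𝟙_ (Over (Spec (CommRingCat.of k))) ⟶ B).left = Set.univ := by
  obtain ⟨C, _, p, j, h1, h2, h3, h4, h5, h6, h7, h8, h9, h10, h11, h12, h13⟩ := exists_image k H B f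
  have hCa := h13 ‹_›
  have hCc := h12 ‹_›
  have hCp : IsProper C.hom := by rw [← Over.w j]; infer_instance
  have hC := Groth.Agent.Sga3.H821.AffProper.range_one_eq_univ k C
  have hj : Surjective j.left := by
    have : Surjective (p.left ≫ j.left) := by rw [← Over.comp_left, h3]; infer_instance
    exact Surjective.of_comp p.left j.left
  rw [← IsMonHom.one_hom j, Over.comp_left, Scheme.Hom.comp_base, TopCat.coe_comp, Set.range_comp, hC,
    Set.image_univ, j.left.surjective.range_eq]

end K404.QuoKit
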