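import Groth.Agent.Sga3C.GrpIrr
import Groth.Agent.Flat2B.SmoothGeom

/-! A smooth connected group scheme over a field is geometrically integral. -/

set_option autoImplicit false
universe u
open AlgebraicGeometry CategoryTheory Limits MonoidalCategory CartesianMonoidalCategory MonObj

namespace K404.GeoInt

variable {k : Type u} [Field k]

theorem geometricallyIntegral (G : Over (Spec (CommRingCat.of k))) [GrpObj G] [Smooth G.hom]
    [ConnectedSpace G.left] : GeometricallyIntegral G.hom := by
  have : GrpObj (Over.mk G.hom) := inferInstanceAs (GrpObj G)
  have := Groth.Agent.Sga3C.GrpIrr.geometricallyIrreducible_of_connectedSpace G.hom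
  exact Groth.Agent.Flat2B.SmoothGeom.geometricallyIntegral_of_smooth G.hom

end K404.GeoInt
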