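import Groth.Agent.AlgGrp.K404.MulPb
import Groth.Agent.Books.AlgPtsSmooth
import Groth.Agent.Books.AntiAffine
import Groth.Agent.FlatB.GeomRed
import Groth.Agent.AlgGrp.K404.GeoInt
import Groth.Agent.Grpsch.MulFinFlat
import Groth.Agent.Sga7.H756.RevIsog

/-! S14763 -/

set_option autoImplicit false
universe u

open CategoryTheory CategoryTheory.Limits MonoidalCategory CartesianMonoidalCategory MonObj GrpObj AlgebraicGeometry

namespace K404.AbSect

open Desc AbAff MulPb

theorem main (k : Type u) [Field k] [IsAlgClosed k]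
    (G L A : Over (Spec (CommRingCat.of k))) [GrpObj G] [GrpObj L] [GrpObj A] [IsCommMonObj G]
    [Smooth G.hom] [QuasiCompact G.hom] [ConnectedSpace ↥G.left]
    (i : L ⟶ G) [IsMonHom i] [IsClosedImmersion i.left] [IsAffine L.left] [Smooth L.hom] [ConnectedSpace ↥L.left]
    (π : G ⟶ A) [IsMonHom π] [Flat π.left] [Surjective π.left] (hker : AlgGrp.IsKernel i π)
    [IsProper A.hom] [Smooth A.hom] [ConnectedSpace ↥A.left] :
    (∃ d : ℕ, 0 < d ∧ ∃ s : A ⟶ G, IsMonHom s ∧ s ≫ π = (𝟙 A) ^ d) ↔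
      (∃ (A' : Over (Spec (CommRingCat.of k))) (_ : GrpObj A') (j : A' ⟶ G), IsMonHom j ∧ IsClosedImmersion j.left ∧
        Smooth A'.hom ∧ ConnectedSpace ↥A'.left ∧ IsProper A'.hom ∧ Surjective ((j ⊗ₘ i) ≫ μ[G]).left) := by
  have hgi : GeometricallyIntegral A.hom := GeoInt.geometricallyIntegral A
  have hsep : IsSeparated G.hom := Groth.Agent.Books.AntiAffine.isSeparated_hom G
  constructor
  · rintro ⟨d, hd, s, hs, hsd⟩
    obtain ⟨C, _, p, j, h1, h2, h3, h4, h5, h6, h7, h8, h9, h10, h11, h12, -⟩ := exists_image k A G s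
    have hAred : IsReduced A.left := Groth.Agent.Books.AlgPtsSmooth.isReduced_of_smooth A
    have hCred : IsReduced C.left := Groth.Agent.FlatB.GeomRed.isReduced_of_flat_of_surjective p.left
    have hCsm : Smooth C.hom := Groth.Agent.Books.AlgPtsSmooth.smooth_of_isReduced C
    have hsurj : Surjective (j ≫ π).left := by
      have h13 : Surjective (p.left ≫ (j ≫ π).left) := by
        rw [← Over.comp_left, ← Category.assoc, h3, hsd]
        exact (Groth.Agent.Grpsch.MulFinFlat.isFinite_flat_surjective k A d hd).2.2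
      exact Surjective.of_comp p.left (j ≫ π).left
    exact ⟨C, _, j, h2, h7, hCsm, h12 inferInstance, h11 inferInstance, surjective_mul hker⟩
  · rintro ⟨A', _, j, hj, hc, hsm, hconn, hprop, hsurj⟩
    obtain ⟨h1, h2, h3⟩ := AbAff.main G L A' A i π hker j hsurj
    have hgi' : GeometricallyIntegral A'.hom := GeoInt.geometricallyIntegral A'
    obtain ⟨n, v, hn, hv, h4, h5⟩ := Groth.Agent.Sga7.H756.RevIsog.exists_rev k (j ≫ π) h3
    exact ⟨n, hn, v ≫ j, inferInstance, by rw [Category.assoc, h5]⟩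

end K404.AbSect
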