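import Groth.Agent.AlgGrp.K404.QuoKit
import Groth.Agent.S4141
import Groth.Agent.AlgGrp.K404.GeoInt

/-! `G = G_ant G_lin` -/

set_option autoImplicit false
universe u

open CategoryTheory CategoryTheory.Limits MonoidalCategory CartesianMonoidalCategory MonObj GrpObj AlgebraicGeometry

namespace K404.AntLin

open Desc AbAff MulPb QuoKit

variable (k : Type u) [Field k]

/-- The kernel of the affine hull of `G` maps onto every commutative proper quotient of `G`. -/
theorem surjective_of_hull {G H M Q : Over (Spec (CommRingCat.of k))} [GrpObj G] [GrpObj H] [GrpObj M] [GrpObj Q]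
    [LocallyOfFiniteType G.hom] [QuasiCompact G.hom] [ConnectedSpace G.left] (m : M ⟶ G) (ρ : G ⟶ H) [IsMonHom m]
    [IsMonHom ρ] [IsClosedImmersion m.left] [Flat ρ.left] [Surjective ρ.left] (hker : AlgGrp.IsKernel m ρ)
    [IsAffine H.left] [LocallyOfFiniteType H.hom] (q : G ⟶ Q) [IsMonHom q] [Surjective q.left] [IsProper Q.hom]
    [IsCommMonObj Q] : Surjective (m ≫ q).left := by
  have hMft : LocallyOfFiniteType M.hom := by rw [← Over.w m]; infer_instance
  have hMqc : QuasiCompact M.hom := by rw [← Over.w m]; infer_instance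
  obtain ⟨C, _, p, j, h1, h2, h3, h4, h5, h6, h7, h8, h9, h10, h11, h12, h13⟩ := exists_image k M Q (m ≫ q)
  have hN : AlgGrp.IsNormalHom j := by
    intro T g n
    exact ⟨n, by rw [mul_comm g, mul_inv_cancel_right]⟩
  obtain ⟨B, _, b, b1, b2, b3, b4, b5, b6, b7, b8, b9, b10, b11, b12⟩ := exists_quotient k Q C j hN
  have hBp := b10 inferInstance
  have hqcρ : QuasiCompact ρ.left := by
    have : QuasiCompact (ρ.left ≫ H.hom) := by rw [Over.w]; infer_instance
    exact QuasiCompact.of_comp ρ.left H.hom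
  obtain ⟨ψ, hψ1, hψ2⟩ := Desc.exists_desc_hom m ρ hker (q ≫ b) (by
    rw [← Category.assoc, ← h3, Category.assoc, ker_eq_one b5, MonObj.comp_one])
  have hψs : Surjective ψ.left := by
    have : Surjective (ρ.left ≫ ψ.left) := by
      rw [← Over.comp_left, hψ2, Over.comp_left]; infer_instance
    exact Surjective.of_comp ρ.left ψ.left
  have hHc : ConnectedSpace H.left := ρ.left.surjective.connectedSpace ρ.left.continuous
  have hr := range_one_of_surjective k ψ
  have hη : Surjective (η[B] : 𝟙_ (Over (Spec (CommRingCat.of k))) ⟶ B).left := by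
    rw [surjective_iff, ← Set.range_eq_univ]
    exact hr
  have hj : Surjective j.left := MorphismProperty.of_isPullback (P := @Surjective) (b5.map (Over.forget _)).flip hη
  rw [← h3, Over.comp_left]
  infer_instance

/-- The largest smooth connected affine normal subgroup is the kernel of a quotient map to a proper group. -/
theorem exists_kernel_of_max [PerfectField k]
    (G : Over (Spec (CommRingCat.of k))) [GrpObj G] [Smooth G.hom] [QuasiCompact G.hom] [ConnectedSpace ↥G.left]
    (N : Over (Spec (CommRingCat.of k))) [GrpObj N] (i : N ⟶ G) [IsMonHom i] [IsClosedImmersion i.left]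
    [Smooth N.hom] [ConnectedSpace ↥N.left] [IsAffine N.left]
    (hNmax : ∀ (N' : Over (Spec (CommRingCat.of k))) [GrpObj N'] (i' : N' ⟶ G) [IsMonHom i'] [IsClosedImmersion i'.left]
      [Smooth N'.hom] [ConnectedSpace ↥N'.left] [IsAffine N'.left], AlgGrp.IsNormalHom i' → ∃ f : N' ⟶ N, f ≫ i = i') :
    ∃ (Q : Over (Spec (CommRingCat.of k))) (_ : GrpObj Q) (q : G ⟶ Q), IsMonHom q ∧ Surjective q.left ∧ Flat q.left ∧
      AlgGrp.IsKernel i q ∧ IsProper Q.hom ∧ Smooth Q.hom ∧ ConnectedSpace ↥Q.left := by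
  obtain ⟨L, _, l, Q, _, q, h1, h2, h3, h4, h5, h6, h7, h8, h9, h10, h11, h12, h13, -⟩ :=
    Groth.Agent.S4141.result k G
  obtain ⟨f, hf⟩ := hNmax L l h6
  have hiq : i ≫ q = 1 := Groth.Agent.Sga3.H821.AffProper.hom_eq_one k N Q (i ≫ q)
  have hmi : Mono i := Groth.Agent.Books.AlgPtsGrp.mono_of_isClosedImmersion i
  have hker : AlgGrp.IsKernel i q := by
    refine Isotriv.isPullback_of_points ?_ (fun T x y hxy => ?_) (fun T e e' h1 h2 => ?_)
    · rw [hiq, Hom.one_def]
    · obtain ⟨z, hz⟩ := exists_lift_ker h10 x (by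
        rw [hxy, toUnit_unique y (toUnit T)]; rfl)
      exact ⟨z ≫ f, by rw [Category.assoc, hf, hz], toUnit_unique _ _⟩
    · rwa [cancel_mono] at h1
  exact ⟨Q, _, q, h7, h8, h9, hker, h11, h12, h13⟩

theorem main (k : Type u) [Field k] [PerfectField k]
    (G : Over (Spec (CommRingCat.of k))) [GrpObj G] [Smooth G.hom] [QuasiCompact G.hom] [ConnectedSpace ↥G.left]
    (N : Over (Spec (CommRingCat.of k))) [GrpObj N] (i : N ⟶ G) [IsMonHom i] [IsClosedImmersion i.left]
    [Smooth N.hom] [ConnectedSpace ↥N.left] [IsAffine N.left]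
    (hNmax : ∀ (N' : Over (Spec (CommRingCat.of k))) [GrpObj N'] (i' : N' ⟶ G) [IsMonHom i'] [IsClosedImmersion i'.left]
      [Smooth N'.hom] [ConnectedSpace ↥N'.left] [IsAffine N'.left], AlgGrp.IsNormalHom i' → ∃ f : N' ⟶ N, f ≫ i = i')
    (M : Over (Spec (CommRingCat.of k))) [GrpObj M] (j : M ⟶ G) [IsMonHom j] [IsClosedImmersion j.left]
    (hM : Function.Bijective ((Scheme.ΓSpecIso (CommRingCat.of k)).inv ≫ M.hom.appTop).hom)
    (hMmax : ∀ (M' : Over (Spec (CommRingCat.of k))) [GrpObj M'] (j' : M' ⟶ G) [IsMonHom j'] [IsClosedImmersion j'.left],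
      Function.Bijective ((Scheme.ΓSpecIso (CommRingCat.of k)).inv ≫ M'.hom.appTop).hom → ∃ f : M' ⟶ M, f ≫ j = j') :
    IsMonHom ((j ⊗ₘ i) ≫ μ[G]) ∧ Surjective ((j ⊗ₘ i) ≫ μ[G]).left := by
  refine ⟨isMonHom_mul j i (fun T x y => commute_of_antiAffine k G M hM j x (y ≫ i)), ?_⟩
  obtain ⟨Q, _, q, h7, h8, h9, hker, h11, h12, h13⟩ := exists_kernel_of_max k G N i hNmax
  obtain ⟨M₀, H, _, _, m, ρ, a1, a2, a3, a4, a5, a6, a7, a8, a9, a10, a11⟩ := exists_hull k G
  obtain ⟨e, he⟩ := hMmax M₀ m a9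
  have hgi : GeometricallyIntegral Q.hom := GeoInt.geometricallyIntegral Q
  have hcomm : IsCommMonObj Q := isCommMonObj_of_isProper_of_geometricallyIntegral Q
  have hs := surjective_of_hull k m ρ a6 q
  have hjq : Surjective (j ≫ q).left := by
    rw [← he, Category.assoc, Over.comp_left] at hs
    exact Surjective.of_comp e.left (j ≫ q).left
  exact surjective_mul hker

end K404.AntLin
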