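import Groth.Agent.AlgGrp.K404.LocSec
import Groth.Agent.AlgGrp.K404.AntLin
import Groth.Agent.AGF.K501.CentField
import Groth.Agent.S3909
import Groth.Agent.Sga3.H801.AffMax

/-! Local sections of the quotient of a connected group by its affine part. -/

set_option autoImplicit false
universe u

open CategoryTheory CategoryTheory.Limits MonoidalCategory CartesianMonoidalCategory MonObj GrpObj AlgebraicGeometry

namespace K404.AffPartSec

open K400.TorsExt CobExt CobDS Groth.Agent Books.AlgPtsGrp LocSec GAnt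

lemma isKernel_mk {S : Scheme.{u}} {N G Q : Over S} [GrpObj Q] (i : N ⟶ G) (q : G ⟶ Q) [Mono i] (h1 : i ≫ q = 1)
    (h2 : ∀ (T : Over S) (x : T ⟶ G), x ≫ q = 1 → ∃ y : T ⟶ N, y ≫ i = x) : AlgGrp.IsKernel i q := by
  have hw : i ≫ q = toUnit N ≫ η[Q] := by rw [h1, Hom.one_def]
  have h3 : ∀ c : PullbackCone q η[Q], c.fst ≫ q = 1 := by
    intro c
    rw [c.condition, Hom.one_def]
    congr 1
    exact toUnit_unique _ _
  refine ⟨⟨hw⟩, ⟨PullbackCone.IsLimit.mk _ (fun c => (h2 c.pt c.fst (h3 c)).choose)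
    (fun c => (h2 c.pt c.fst (h3 c)).choose_spec) (fun c => toUnit_unique _ _) (fun c m hm _ => ?_)⟩⟩
  rw [← cancel_mono i, hm]
  exact (h2 c.pt c.fst (h3 c)).choose_spec.symm

theorem main (k : Type u) [Field k] [IsAlgClosed k]
    (G : Over (Spec (CommRingCat.of k))) [GrpObj G] [Smooth G.hom] [QuasiCompact G.hom] [ConnectedSpace ↥G.left]
    (N : Over (Spec (CommRingCat.of k))) [GrpObj N] (i : N ⟶ G) [IsMonHom i] [IsClosedImmersion i.left]
    [Smooth N.hom] [ConnectedSpace ↥N.left] [IsAffine N.left]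
    (A : Over (Spec (CommRingCat.of k))) [GrpObj A] [IsProper A.hom] [Smooth A.hom] (α : G ⟶ A) [IsMonHom α]
    [Surjective α.left] [Flat α.left] (hker : AlgGrp.IsKernel i α) (y : ↥A.left) :
    ∃ U : A.left.Opens, y ∈ U ∧ ∃ s : (↑U : Scheme.{u}) ⟶ G.left, s ≫ α.left = U.ι := by
  have hAc : ConnectedSpace A.left := α.left.surjective.connectedSpace α.left.continuous
  have hgi : GeometricallyIntegral A.hom := GeoInt.geometricallyIntegral A
  have hAi : IsIntegral A.left := GeometricallyIntegral.isIntegral_of_subsingleton A.hom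
  have hcomm : IsCommMonObj A := isCommMonObj_of_isProper_of_geometricallyIntegral A
  -- the anti-affine part
  obtain ⟨M, H, _, _, n, q', hs⟩ := K398.Affin.exists_affSeq G
  have hn := hs.homN
  have hq' := hs.homQ
  have hnc := hs.closed
  have hMs := hs.smooth
  have hMq := hs.qcN
  have hHa := hs.affine
  have hHf := hs.ftQ
  have hqs := hs.surj
  have hqf := hs.flat
  have hnα : Surjective (n ≫ α).left := AntLin.surjective_of_hull k n q' hs.ker α
  -- the Cartan subgroup of the affine part
  obtain ⟨T, _, t, hT⟩ := Sga3.H801.AffMax.exists_isMaximalTorus k N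
  obtain ⟨C, _, c, hcc, hc⟩ := K501.CentField.exists_centralizer N t
  obtain ⟨hCs, hCc, hCn⟩ := S3909.result k N T t hT C c hc
  have hcm := hc.1
  have hCa : IsAffine C.left := isAffine_of_isAffineHom c.left
  have hcob : ∀ (F : Type u) [Field F] (f : Spec (CommRingCat.of F) ⟶ Spec (CommRingCat.of k)), CobProp (Red.bc f C) :=
    fun F _ f => SolvLin.cobProp_of_isSolvable F f C (SolvLin.isSolvableGrp_of_isNilpotentGrp C hCn)
  -- the subgroup `S = C M`
  have hcent : ∀ {T : Over (Spec (CommRingCat.of k))} (x : T ⟶ M) (g : T ⟶ G), (x ≫ n) * g = g * (x ≫ n) :=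
    fun x g => commute k hs x g
  have hf : IsMonHom (((c ≫ i) ⊗ₘ n) ≫ μ[G]) := AbAff.isMonHom_mul (c ≫ i) n (fun T x y => (hcent y (x ≫ c ≫ i)).symm)
  have hCq : QuasiCompact C.hom := quasiCompact_of_compactSpace C.hom
  have hl1 : LocallyOfFiniteType (C ⊗ M).hom := by
    have : LocallyOfFiniteType (pullback.fst C.hom M.hom ≫ C.hom) := inferInstance
    exact this
  have hl2 : QuasiCompact (C ⊗ M).hom := by
    have : QuasiCompact (pullback.fst C.hom M.hom ≫ C.hom) := inferInstance
    exact this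
  obtain ⟨S, _, p, s, h1, h2, h3, h4, h5, h6, h7⟩ := K398.Pts.exists_image (((c ≫ i) ⊗ₘ n) ≫ μ[G])
  have h8 : LocallyOfFiniteType S.hom := by rw [← Over.w s]; infer_instance
  have h9 : QuasiCompact S.hom := by rw [← Over.w s]; infer_instance
  have hms : Mono s := mono_of_isClosedImmersion s
  have hmi : Mono i := mono_of_isClosedImmersion i
  have hval : ∀ {T : Over (Spec (CommRingCat.of k))} (a : T ⟶ C) (b : T ⟶ M),
      lift a b ≫ p ≫ s = (a ≫ c ≫ i) * (b ≫ n) := by
    intro T a b
    rw [h3, AbAff.lift_mulMap]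
  -- the quotient map
  have hqS : Surjective (s ≫ α).left := by
    have : Surjective ((lift (1 : M ⟶ C) (𝟙 M) ≫ p).left ≫ (s ≫ α).left) := by
      rw [← Over.comp_left, Category.assoc, ← Category.assoc p, ← Category.assoc, hval, MonObj.one_comp, _root_.one_mul, Category.id_comp]
      exact hnα
    exact Surjective.of_comp (lift (1 : M ⟶ C) (𝟙 M) ≫ p).left (s ≫ α).left
  have hAr : IsReduced A.left := inferInstance
  have hqF : Flat (s ≫ α).left := K398.Pts.flat_of_surjective (s ≫ α)
  -- `C` in `S`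
  obtain ⟨c', hc's⟩ : ∃ c' : C ⟶ S, c' ≫ s = c ≫ i := ⟨lift (𝟙 C) 1 ≫ p, by
    rw [Category.assoc, hval, Category.id_comp, MonObj.one_comp, _root_.mul_one]⟩
  have hc'm : IsMonHom c' := by
    apply Sga3B.Pts.isMonHom_of_points
    intro X x y
    rw [← cancel_mono s, MonObj.mul_comp _ _ s, Category.assoc, Category.assoc, Category.assoc, hc's,
      MonObj.mul_comp]
  have hcmono : Mono c := hc.2.1
  have hc'mono : Mono c' := by
    have : Mono (c' ≫ s) := by rw [hc's]; infer_instance
    exact mono_of_mono c' s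
  have hpq : QuasiCompact p.left := K398.Pts.quasiCompact_left p
  have hkerS : AlgGrp.IsKernel c' (s ≫ α) := by
    refine isKernel_mk c' (s ≫ α) ?_ (fun X x hx => ?_)
    · rw [← Category.assoc, hc's, Category.assoc, hker.w, ← Category.assoc, Hom.one_def]
      congr 1
      exact toUnit_unique _ _
    obtain ⟨z, hz⟩ := Desc.exists_lift_ker hker (x ≫ s) (by rw [Category.assoc]; exact hx)
    have hzc : ∃ z' : X ⟶ C, z' ≫ c = z := by
      rw [hc.2.2 X z]
      intro X' x' h
      let w : pullback (x' ≫ x) p ⟶ X' := pullback.fst (x' ≫ x) p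
      let v : pullback (x' ≫ x) p ⟶ C ⊗ M := pullback.snd (x' ≫ x) p
      have hwv : w ≫ x' ≫ x = v ≫ p := pullback.condition
      have hpb : IsPullback w.left v.left (x' ≫ x).left p.left :=
        (IsPullback.of_hasPullback (x' ≫ x) p).map (Over.forget _)
      have hw1 : Flat w.left := MorphismProperty.of_isPullback (P := @Flat) hpb.flip ‹_›
      have hw2 : Surjective w.left := MorphismProperty.of_isPullback (P := @Surjective) hpb.flip ‹_›
      have hw3 : QuasiCompact w.left := MorphismProperty.of_isPullback (P := @QuasiCompact) hpb.flip ‹_›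
      have hep : Epi w := by
        have : Epi w.left := Flat.epi_of_flat_of_surjective _
        exact Over.epi_of_epi_left _
      have e1 : (w ≫ x' ≫ z) ≫ i = (v ≫ fst C M ≫ c ≫ i) * (v ≫ snd C M ≫ n) := by
        have e2 := hval (v ≫ fst C M) (v ≫ snd C M)
        simp only [Category.assoc] at e2
        rw [← e2, ← comp_lift, lift_fst_snd, Category.comp_id, ← Category.assoc v, ← hwv]
        simp only [Category.assoc]
        rw [hz]
      have e3 : (v ≫ fst C M ≫ c) * (w ≫ h ≫ t) = (w ≫ h ≫ t) * (v ≫ fst C M ≫ c) := by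
        have e4 := (hc.2.2 _ (v ≫ fst C M ≫ c)).mp ⟨v ≫ fst C M, by rw [Category.assoc]⟩ _ (𝟙 _) (w ≫ h)
        simpa only [Category.id_comp, Category.assoc] using e4
      rw [← cancel_epi w, MonObj.comp_mul, MonObj.comp_mul, ← cancel_mono i, MonObj.mul_comp, MonObj.mul_comp, e1]
      have e5 := congrArg (· ≫ i) e3
      beta_reduce at e5
      rw [MonObj.mul_comp, MonObj.mul_comp] at e5
      simp only [Category.assoc] at e5 ⊢
      have e6 := hcent (v ≫ snd C M) (w ≫ h ≫ t ≫ i)
      simp only [Category.assoc] at e6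
      rw [_root_.mul_assoc, e6, ← _root_.mul_assoc, e5, _root_.mul_assoc]
    obtain ⟨z', hz'⟩ := hzc
    exact ⟨z', by rw [← cancel_mono s, Category.assoc, hc's, ← Category.assoc, hz', hz]⟩
  have hCah : IsAffineHom C.hom := inferInstanceAs (IsAffineHom (C.hom : C.left ⟶ Spec (CommRingCat.of k)))
  have haff : IsAffineHom (s ≫ α).left := isAffineHom_quotient c' (s ≫ α) hkerS
  obtain ⟨U, hyU, σ, hσ⟩ := exists_section c' (s ≫ α) hkerS hcob y
  exact ⟨U, hyU, σ ≫ s.left, by rw [Category.assoc, ← Over.comp_left, hσ]⟩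

end K404.AffPartSec
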