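import Groth.Agent.AlgGrp.K404.QuoKit
import Groth.Agent.S3016

/-! Dimension of kernels. -/

set_option autoImplicit false
universe u

open CategoryTheory CategoryTheory.Limits MonoidalCategory CartesianMonoidalCategory MonObj GrpObj AlgebraicGeometry

namespace K404.DimKer

open Desc AbAff MulPb QuoKit

variable (k : Type u) [Field k]

/-- a finite scheme over a field is discrete -/
theorem discreteTopology_of_isFinite (C : Over (Spec (CommRingCat.of k))) [IsFinite C.hom] : DiscreteTopology C.left := by
  have h1 : ∀ y : Spec (CommRingCat.of k), _root_.IsDiscrete (C.hom ⁻¹' {y}) :=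
    C.hom.isDiscrete_preimage_singleton
  have h2 : ∀ y : Spec (CommRingCat.of k), C.hom ⁻¹' {y} = Set.univ := fun y =>
    Set.eq_univ_of_forall fun x => Subsingleton.elim (α := Spec (CommRingCat.of k)) _ _
  simp only [h2] at h1
  exact isDiscrete_univ_iff.1 (h1 (IsLocalRing.closedPoint k))

theorem dim_eq_of_isPullback {X Y Z W : Scheme.{u}} {p : X ⟶ Y} {q : X ⟶ Z} {f : Y ⟶ W} {g : Z ⟶ W}
    (h : IsPullback p q f g) : topologicalKrullDim X = topologicalKrullDim ↥(pullback f g) :=
  IsHomeomorph.topologicalKrullDim_eq _ (Scheme.homeoOfIso h.isoPullback).isHomeomorph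

/-- `dim P = dim ker u` if `u` has finite image. -/
theorem dim_eq_dim_ker {P Q K : Over (Spec (CommRingCat.of k))} [GrpObj P] [GrpObj Q] [LocallyOfFiniteType P.hom]
    [LocallyOfFiniteType Q.hom] [QuasiCompact P.hom] [IsSeparated Q.hom] (u : P ⟶ Q) [IsMonHom u] {m : K ⟶ P}
    (hm : AlgGrp.IsKernel m u) (hd : DiscreteTopology (Set.range u.left)) :
    topologicalKrullDim P.left = topologicalKrullDim K.left := by
  have hqc : QuasiCompact u.left := by
    have : QuasiCompact (u.left ≫ Q.hom) := by rw [Over.w]; infer_instance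
    exact QuasiCompact.of_comp u.left Q.hom
  obtain ⟨h1, h2⟩ := Groth.Agent.S3016.result k P Q u
  have h4 : topologicalKrullDim K.left =
      topologicalKrullDim ↥(pullback u.left (η[Q] : 𝟙_ (Over (Spec (CommRingCat.of k))) ⟶ Q).left) :=
    dim_eq_of_isPullback (hm.map (Over.forget _))
  have h3 : topologicalKrullDim (Set.range u.left.base) = 0 := by
    apply le_antisymm
    · have : DiscreteTopology (Set.range u.left.base) := hd
      exact topologicalKrullDim_zero_of_discreteTopology _
    · have : Nonempty P.left := ⟨(η[P] : 𝟙_ (Over (Spec (CommRingCat.of k))) ⟶ P).left (IsLocalRing.closedPoint k)⟩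
      have : Nonempty (Set.range u.left.base) := ⟨⟨_, ⟨this.some, rfl⟩⟩⟩
      have : Nonempty (TopologicalSpace.IrreducibleCloseds ↥(Set.range u.left.base)) :=
        ⟨⟨closure {this.some}, isIrreducible_singleton.closure, isClosed_closure⟩⟩
      exact Order.krullDim_nonneg
  rw [h2, h3, h4, zero_add]

/-- A homomorphism from an affine group to a proper group has finite image. -/
theorem discreteTopology_range {P Q : Over (Spec (CommRingCat.of k))} [GrpObj P] [GrpObj Q]
    [LocallyOfFiniteType P.hom] [IsAffine P.left] [IsProper Q.hom] (u : P ⟶ Q) [IsMonHom u] :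
    DiscreteTopology (Set.range u.left) := by
  obtain ⟨C, _, p, i, h1, h2, h3, h4, h5, h6, h7, h8, h9, h10, h11, h12, h13⟩ := exists_image k P Q u
  have hCp : IsProper C.hom := by rw [← Over.w i]; infer_instance
  have hCa := h13 ‹_›
  have hCf : IsFinite C.hom := IsFinite.iff_isProper_and_isAffineHom.2 ⟨inferInstance, inferInstance⟩
  have hCd := discreteTopology_of_isFinite k C
  have hr : Set.range u.left = Set.range i.left := by
    rw [← h3, Over.comp_left, Scheme.Hom.comp_base, TopCat.coe_comp, Set.range_comp, p.left.surjective.range_eq,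
      Set.image_univ]
  rw [hr]
  exact i.left.isClosedEmbedding.isEmbedding.toHomeomorph.symm.isEmbedding.discreteTopology

end K404.DimKer
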