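import Groth.Agent.AlgGrp.K404.AntLin
import Groth.Agent.AlgGrp.K404.DimKer

/-! `(G_ant)_lin` versus `G_ant ∩ G_lin` -/

set_option autoImplicit false
universe u

open CategoryTheory CategoryTheory.Limits MonoidalCategory CartesianMonoidalCategory MonObj GrpObj AlgebraicGeometry

namespace K404.AntLinDim

open Desc AbAff MulPb QuoKit DimKer

theorem main (k : Type u) [Field k] [IsAlgClosed k]
    (G : Over (Spec (CommRingCat.of k))) [GrpObj G] [Smooth G.hom] [QuasiCompact G.hom] [ConnectedSpace ↥G.left]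
    (N : Over (Spec (CommRingCat.of k))) [GrpObj N] (i : N ⟶ G) [IsMonHom i] [IsClosedImmersion i.left]
    [Smooth N.hom] [ConnectedSpace ↥N.left] [IsAffine N.left]
    (hNmax : (∀ (N' : Over (Spec (CommRingCat.of k))) [GrpObj N'] (i' : N' ⟶ G) [IsMonHom i'] [IsClosedImmersion i'.left]
      [Smooth N'.hom] [ConnectedSpace ↥N'.left] [IsAffine N'.left], AlgGrp.IsNormalHom i' → ∃ f : N' ⟶ N, f ≫ i = i'))
    (D : Over (Spec (CommRingCat.of k))) [GrpObj D] (j : D ⟶ G) [IsMonHom j] [IsClosedImmersion j.left]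
    (hD : Function.Bijective ((Scheme.ΓSpecIso (CommRingCat.of k)).inv ≫ D.hom.appTop).hom)
    (ND : Over (Spec (CommRingCat.of k))) [GrpObj ND] (iD : ND ⟶ D) [IsMonHom iD] [IsClosedImmersion iD.left]
    [Smooth ND.hom] [ConnectedSpace ↥ND.left] [IsAffine ND.left]
    (hNDmax : (∀ (N' : Over (Spec (CommRingCat.of k))) [GrpObj N'] (i' : N' ⟶ D) [IsMonHom i'] [IsClosedImmersion i'.left]
      [Smooth N'.hom] [ConnectedSpace ↥N'.left] [IsAffine N'.left], AlgGrp.IsNormalHom i' → ∃ f : N' ⟶ ND, f ≫ iD = i')) :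
    (∃ g : ND ⟶ N, g ≫ i = iD ≫ j) ∧
      topologicalKrullDim ↥ND.left = topologicalKrullDim ↥(pullback j.left i.left) := by
  have hDft : LocallyOfFiniteType D.hom := by rw [← Over.w j]; infer_instance
  have hDqc : QuasiCompact D.hom := by rw [← Over.w j]; infer_instance
  have hDsm : Smooth D.hom := Groth.Agent.S3026.result k D hD
  have hDc : ConnectedSpace D.left := (Groth.Agent.S3293.result k D hD).1
  obtain ⟨Q, _, q, hq1, hq2, hq3, hq4, hq5, hq6, hq7⟩ := AntLin.exists_kernel_of_max k G N i hNmax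
  obtain ⟨R, _, r, hr1, hr2, hr3, hr4, hr5, hr6, hr7⟩ := AntLin.exists_kernel_of_max k D ND iD hNDmax
  have h1 : iD ≫ j ≫ q = 1 := Groth.Agent.Sga3.H821.AffProper.hom_eq_one k ND Q (iD ≫ j ≫ q)
  refine ⟨exists_lift_ker hq4 (iD ≫ j) (by rw [Category.assoc, h1]), ?_⟩
  -- the intersection
  let P := Groth.Agent.Sga3B.KerGrp.kerObj (j ≫ q)
  let d : P ⟶ D := Groth.Agent.Sga3B.KerGrp.kerι (j ≫ q)
  obtain ⟨_, hd⟩ := Groth.Agent.Sga3B.KerGrp.exists_grpObj (j ≫ q)
  have hdm : IsMonHom d := hd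
  have hP : AlgGrp.IsKernel d (j ≫ q) := Groth.Agent.Sga3B.KerGrp.isPullback_ker (j ≫ q)
  obtain ⟨n, hn⟩ := isPullback_of_isKernel hq4 hP
  have hn' : IsPullback d.left n.left j.left i.left := hn.map (Over.forget _)
  have hdc : IsClosedImmersion d.left := MorphismProperty.of_isPullback (P := @IsClosedImmersion) hn'.flip ‹_›
  have hnc : IsClosedImmersion n.left := MorphismProperty.of_isPullback (P := @IsClosedImmersion) hn' ‹_›
  have hPa : IsAffine P.left := isAffine_of_isAffineHom n.left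
  have hPft : LocallyOfFiniteType P.hom := by rw [← Over.w d]; infer_instance
  have hPqc : QuasiCompact P.hom := by rw [← Over.w d]; infer_instance
  rw [← dim_eq_of_isPullback hn']
  -- `ND` is the kernel of `P → R`
  obtain ⟨e, he⟩ := exists_lift_ker hP iD h1
  have hmd : Mono d := Groth.Agent.Books.AlgPtsGrp.mono_of_isClosedImmersion d
  have hmi : Mono iD := Groth.Agent.Books.AlgPtsGrp.mono_of_isClosedImmersion iD
  have hker : AlgGrp.IsKernel e (d ≫ r) := by
    refine Isotriv.isPullback_of_points ?_ (fun T x y hxy => ?_) (fun T a a' h1 h2 => ?_)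
    · rw [← Category.assoc, he, ker_eq_one hr4, Hom.one_def]
    · obtain ⟨z, hz⟩ := exists_lift_ker hr4 (x ≫ d) (by
        rw [Category.assoc, hxy, toUnit_unique y (toUnit T)]; rfl)
      exact ⟨z, by rw [← cancel_mono d, Category.assoc, he, hz], toUnit_unique _ _⟩
    · rw [← cancel_mono iD, ← he, ← Category.assoc, h1, Category.assoc]
  exact (dim_eq_dim_ker k (d ≫ r) hker (discreteTopology_range k (d ≫ r))).symm

end K404.AntLinDim
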