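import Groth.Agent.AlgGrp.K404.CobExt
import Groth.Agent.Sga3B.TorusAlgClosed
import Groth.Agent.Sga3B.DSPts
import Groth.Agent.Sga3B.Parab.EtHom

/-! Cocycles with values in split tori; base change of the data. -/

set_option autoImplicit false
universe u

open CategoryTheory CategoryTheory.Limits MonoidalCategory CartesianMonoidalCategory MonObj GrpObj AlgebraicGeometry

namespace K404.CobDS

open K400.TorsExt CobExt Groth.Agent.Sga3B.DSPts

section
variable {S : Scheme.{u}}

/-- the coordinate characters of a split torus -/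
noncomputable def ξ (r : ℕ) (i : Fin r) : Red.DS S (Fin r → ℤ) ⟶ Red.Gm S :=
  Red.DSmap S (AddMonoidHom.single (fun _ : Fin r => ℤ) i)

instance isMonHom_DSmap' {M N : Type} [AddCommGroup M] [AddCommGroup N] (φ : M →+ N) :
    IsMonHom (Red.DSmap S φ) := by
  apply Groth.Agent.Sga3B.Pts.isMonHom_of_points
  intro X x y
  obtain ⟨χ, rfl⟩ := (dsEquiv X N).surjective x
  obtain ⟨χ', rfl⟩ := (dsEquiv X N).surjective y
  rw [← map_mul, dsEquiv_DSmap, dsEquiv_DSmap, dsEquiv_DSmap, ← map_mul]
  rfl

instance (r : ℕ) (i : Fin r) : IsMonHom (ξ (S := S) r i) := by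
  unfold ξ
  infer_instance

/-- the character of a torus with given coordinates -/
noncomputable def chr {A : Type*} [CommMonoid A] {r : ℕ} (c : Fin r → (Multiplicative ℤ →* A)) :
    Multiplicative (Fin r → ℤ) →* A where
  toFun m := ∏ i, c i (Multiplicative.ofAdd (m.toAdd i))
  map_one' := by
    simp
  map_mul' m n := by
    simp [Finset.prod_mul_distrib]

lemma chr_single {A : Type*} [CommMonoid A] {r : ℕ} (c : Fin r → (Multiplicative ℤ →* A)) (i : Fin r) :
    (chr c).comp (AddMonoidHom.toMultiplicative (AddMonoidHom.single (fun _ : Fin r => ℤ) i)) = c i := by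
  apply MonoidHom.ext
  intro m
  simp only [MonoidHom.comp_apply]
  change (∏ j, c j (Multiplicative.ofAdd ((Pi.single i m.toAdd : Fin r → ℤ) j))) = c i m
  rw [Finset.prod_eq_single i]
  · simp
  · intro j _ hj
    rw [Pi.single_eq_of_ne hj]
    simp
  · simp

lemma chr_ext {A : Type*} [CommMonoid A] {r : ℕ} {χ χ' : Multiplicative (Fin r → ℤ) →* A}
    (h : ∀ i, χ.comp (AddMonoidHom.toMultiplicative (AddMonoidHom.single (fun _ : Fin r => ℤ) i)) =
      χ'.comp (AddMonoidHom.toMultiplicative (AddMonoidHom.single (fun _ : Fin r => ℤ) i))) : χ = χ' := by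
  have key : ∀ ψ : Multiplicative (Fin r → ℤ) →* A,
      ψ = chr (fun i => ψ.comp (AddMonoidHom.toMultiplicative (AddMonoidHom.single (fun _ : Fin r => ℤ) i))) := by
    intro ψ
    apply MonoidHom.ext
    intro m
    change ψ m = ∏ i, ψ (Multiplicative.ofAdd (Pi.single i (m.toAdd i)))
    rw [← map_prod]
    congr 1
    apply Multiplicative.toAdd.injective
    rw [toAdd_prod]
    exact (Finset.univ_sum_single m.toAdd).symm
  rw [key χ, key χ']
  congr 1
  funext i
  exact h i

theorem cobProp_ds (hS : CobProp (Red.Gm S)) (r : ℕ) : CobProp (Red.DS S (Fin r → ℤ)) := by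
  refine CobExt.prod (fun _ : Fin r => Red.Gm S) (ξ r) (fun T f => ?_) (fun T g g' h => ?_) (fun _ => hS)
  · refine ⟨dsEquiv T (Fin r → ℤ) (chr fun i => dsChar (f i)), fun i => ?_⟩
    change dsEquiv T (Fin r → ℤ) (chr fun i => dsChar (f i)) ≫ Red.DSmap S _ = f i
    rw [dsEquiv_DSmap, chr_single]
    exact dsEquiv_dsChar _
  · apply (dsEquiv T (Fin r → ℤ)).symm.injective
    apply chr_ext
    intro i
    have h1 := congrArg dsChar (h i)
    unfold ξ at h1
    rw [dsChar_DSmap, dsChar_DSmap] at h1
    exact h1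

end

section field

variable {K : Type u} [Field K]

theorem cobProp_split {T : Over (Spec (CommRingCat.of K))} [GrpObj T] {r : ℕ}
    (h : Red.IsSplitTorusWith (Fin r → ℤ) T) : CobProp T := by
  obtain ⟨e⟩ := h
  exact (cobProp_ds cobProp_gm r).of_iso e

end field

section bc

variable {S S' : Scheme.{u}} (g : S' ⟶ S)

theorem isKernel_map {N G Q : Over S} [GrpObj Q] {i : N ⟶ G} {q : G ⟶ Q}
    (h : AlgGrp.IsKernel i q) :
    AlgGrp.IsKernel ((Over.pullback g).map i) ((Over.pullback g).map q : Red.bc g G ⟶ Red.bc g Q) := by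
  refine IsPullback.of_iso (h.map (Over.pullback g)) (Iso.refl _) (Iso.refl _)
    (Functor.Monoidal.εIso (Over.pullback g)).symm (Iso.refl _) ?_ ?_ ?_ ?_
  · simp
  · exact toUnit_unique _ _
  · simp
  · rw [Iso.symm_hom, Iso.refl_hom, Category.comp_id, Iso.eq_inv_comp]
    rfl

/-- `CobProp` after base change, for an extension. -/
theorem ext_bc {N G Q : Over S} [GrpObj N] [GrpObj G] [GrpObj Q] (i : N ⟶ G) [IsMonHom i] (q : G ⟶ Q) [IsMonHom q]
    [Flat q.left] [Surjective q.left] [IsAffineHom q.left] (hker : AlgGrp.IsKernel i q)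
    (hN : CobProp (Red.bc g N)) (hQ : CobProp (Red.bc g Q)) : CobProp (Red.bc g G) := by
  have h1 := Groth.Agent.Sga3B.Parab.EtHom.isPullback_map g q
  have h2 : Flat ((Over.pullback g).map q).left := MorphismProperty.of_isPullback (P := @Flat) h1 ‹_›
  have h3 : Surjective ((Over.pullback g).map q).left := MorphismProperty.of_isPullback (P := @Surjective) h1 ‹_›
  have h4 : IsAffineHom ((Over.pullback g).map q).left := MorphismProperty.of_isPullback (P := @IsAffineHom) h1 ‹_›
  exact CobExt.ext ((Over.pullback g).map i) ((Over.pullback g).map q) (isKernel_map g hker) hN hQ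

end bc

end K404.CobDS
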