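import Groth.Agent.AlgGrp.K400.TorsExt
import Groth.Agent.AlgGrp.K404.Desc
import Groth.Agent.AlgGrp.K404.Isotriv

/-! Cocycles with values in extensions and products are coboundaries. -/

set_option autoImplicit false
universe u

open CategoryTheory CategoryTheory.Limits MonoidalCategory CartesianMonoidalCategory MonObj GrpObj AlgebraicGeometry

namespace K404.CobExt

open Desc K400.TorsExt

variable {S : Scheme.{u}}

/-- Values of a cocycle on the diagonal. -/
lemma cocycle_diag {G P : Over S} [GrpObj G] {δ : P ⊗ P ⟶ G}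
    (hδ : ∀ (T : Over S) (x y z : T ⟶ P), (lift x y ≫ δ) * (lift y z ≫ δ) = lift x z ≫ δ) {T : Over S} (x : T ⟶ P) :
    lift x x ≫ δ = 1 := by
  have h := hδ T x x x
  exact mul_eq_left.mp h

/-- `CobProp` passes to extensions. -/
theorem ext {N G Q : Over S} [GrpObj N] [GrpObj G] [GrpObj Q] (i : N ⟶ G) [IsMonHom i] (q : G ⟶ Q) [IsMonHom q]
    [Flat q.left] [Surjective q.left] [IsAffineHom q.left] (hker : AlgGrp.IsKernel i q) (hN : CobProp N)
    (hQ : CobProp Q) : CobProp G := by
  intro P _ _ _ δ hδ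
  have hmi : Mono i := mono_ker hker
  obtain ⟨f₂, hf₂⟩ := hQ P (δ ≫ q) (fun T x y z => by
    rw [← Category.assoc, ← Category.assoc, ← Category.assoc, ← MonObj.mul_comp, hδ])
  let P' : Over S := pullback f₂ q
  let p : P' ⟶ P := pullback.fst f₂ q
  let g : P' ⟶ G := pullback.snd f₂ q
  have hpg : p ≫ f₂ = g ≫ q := pullback.condition
  have hpb : IsPullback p.left g.left f₂.left q.left := (IsPullback.of_hasPullback f₂ q).map (Over.forget _)
  have hp1 : Flat p.left := MorphismProperty.of_isPullback (P := @Flat) hpb.flip ‹_›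
  have hp2 : Surjective p.left := MorphismProperty.of_isPullback (P := @Surjective) hpb.flip ‹_›
  have hp3 : IsAffineHom p.left := MorphismProperty.of_isPullback (P := @IsAffineHom) hpb.flip ‹_›
  have hP1 : Flat P'.hom := by rw [← Over.w p]; infer_instance
  have hP2 : Surjective P'.hom := by rw [← Over.w p]; infer_instance
  have hP3 : IsAffineHom P'.hom := by rw [← Over.w p]; infer_instance
  -- the modified cocycle
  obtain ⟨δ', hδ'⟩ := exists_lift_ker hker
    ((fst P' P' ≫ g)⁻¹ * (lift (fst P' P' ≫ p) (snd P' P' ≫ p) ≫ δ) * (snd P' P' ≫ g)) (by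
      rw [MonObj.mul_comp, MonObj.mul_comp, GrpObj.inv_comp, Category.assoc, Category.assoc, Category.assoc, ← hpg,
        ← Category.assoc (fst P' P'), ← Category.assoc (snd P' P'), hf₂ _ (fst P' P' ≫ p) (snd P' P' ≫ p)]
      group)
  have hval : ∀ {T : Over S} (x y : T ⟶ P'), lift x y ≫ δ' ≫ i =
      (x ≫ g)⁻¹ * (lift (x ≫ p) (y ≫ p) ≫ δ) * (y ≫ g) := by
    intro T x y
    rw [hδ', MonObj.comp_mul, MonObj.comp_mul, GrpObj.comp_inv, ← Category.assoc, lift_fst, ← Category.assoc,
      ← Category.assoc, lift_snd, comp_lift, ← Category.assoc, ← Category.assoc, lift_fst, lift_snd]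
  obtain ⟨f', hf'⟩ := hN P' δ' (fun T x y z => by
    rw [← cancel_mono i, MonObj.mul_comp, Category.assoc, Category.assoc, Category.assoc, hval, hval, hval,
      ← hδ T (x ≫ p) (y ≫ p) (z ≫ p)]
    group)
  let F' : P' ⟶ G := g * (f' ≫ i)
  have hF' : ∀ {T : Over S} (x y : T ⟶ P'), x ≫ F' = (lift (x ≫ p) (y ≫ p) ≫ δ) * (y ≫ F') := by
    intro T x y
    have h1 := congrArg (· ≫ i) (hf' T x y)
    beta_reduce at h1
    rw [MonObj.mul_comp, Category.assoc, Category.assoc, Category.assoc, hval] at h1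
    simp only [F', MonObj.comp_mul]
    rw [h1]
    group
  have hqc : QuasiCompact p.left := inferInstance
  obtain ⟨F, hF⟩ := exists_desc p F' (fun T x y hxy => by
    rw [hF' x y, hxy, cocycle_diag hδ, _root_.one_mul])
  -- the identity on the universal pair
  have huniv : fst P P ≫ F = δ * (snd P P ≫ F) := by
    have h1 : Flat (p ⊗ₘ p).left := tensorHom_left_of (@Flat) p p hp1 hp1
    have hcomp : MorphismProperty.IsStableUnderComposition @Surjective.{u} :=
      (inferInstance : MorphismProperty.IsMultiplicative @Surjective.{u}).toIsStableUnderComposition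
    have h2 : Surjective (p ⊗ₘ p).left := tensorHom_left_of (@Surjective) p p hp2 hp2
    have h3 : QuasiCompact (p ⊗ₘ p).left := tensorHom_left_of (@QuasiCompact) p p hqc hqc
    have h4 : Epi (p ⊗ₘ p) := by
      have : Epi (p ⊗ₘ p).left := Flat.epi_of_flat_of_surjective _
      exact Over.epi_of_epi_left _
    rw [← cancel_epi (p ⊗ₘ p), MonObj.comp_mul, ← Category.assoc, tensorHom_fst, ← Category.assoc, tensorHom_snd,
      Category.assoc, Category.assoc, hF]
    have h5 := hF' (fst P' P') (snd P' P')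
    rw [h5]
    congr 2
  refine ⟨F, fun T x y => ?_⟩
  have h1 := congrArg (fun z => lift x y ≫ z) huniv
  simp only [MonObj.comp_mul] at h1
  rwa [← Category.assoc, lift_fst, ← Category.assoc, lift_snd] at h1

/-- `CobProp` for a group which is a product of groups with this property. -/
theorem prod {I : Type*} {G : Over S} [GrpObj G] (Q : I → Over S) [∀ i, GrpObj (Q i)] (ξ : ∀ i, G ⟶ Q i)
    [∀ i, IsMonHom (ξ i)] (h1 : ∀ (T : Over S) (f : ∀ i, T ⟶ Q i), ∃ g : T ⟶ G, ∀ i, g ≫ ξ i = f i)
    (h2 : ∀ (T : Over S) (g g' : T ⟶ G), (∀ i, g ≫ ξ i = g' ≫ ξ i) → g = g') (hQ : ∀ i, CobProp (Q i)) :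
    CobProp G := by
  intro P _ _ _ δ hδ
  have h3 : ∀ i, ∃ f : P ⟶ Q i, ∀ (T : Over S) (x y : T ⟶ P), x ≫ f = (lift x y ≫ δ ≫ ξ i) * (y ≫ f) := fun i =>
    hQ i P (δ ≫ ξ i) (fun T x y z => by
      rw [← Category.assoc, ← Category.assoc, ← Category.assoc, ← MonObj.mul_comp, hδ])
  choose f hf using h3
  obtain ⟨g, hg⟩ := h1 P f
  refine ⟨g, fun T x y => h2 T _ _ fun i => ?_⟩
  rw [MonObj.mul_comp, Category.assoc, Category.assoc, Category.assoc, hg, hf i T x y]

theorem of_isIso_hom {G : Over S} [GrpObj G] (h : IsIso G.hom) : CobProp G := by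
  intro P _ _ _ δ hδ
  refine ⟨1, fun T x y => ?_⟩
  ext1
  rw [← cancel_mono G.hom, Over.w, Over.w]

end K404.CobExt
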