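import Groth.Agent.AlgGrp.K404.CobDS
import Groth.Agent.AlgGrp.K404.DimKer
import Groth.Agent.Sga7.H738.GaBc
import Groth.Agent.Sga3.H783.GaGm
import Groth.Agent.Sga7.H740.GaGrp
import Groth.Agent.Sga3.H794.ChevInd
import Groth.Agent.AlgGrp.K414.UnipTor
import Groth.Agent.Sga3B.TorusIrr
import Groth.Agent.S3036
import Groth.Agent.Sga3.H830.CommAux

/-! Cocycles with values in connected commutative linear groups over an algebraically closed field. -/

set_option autoImplicit false
universe u

open CategoryTheory CategoryTheory.Limits MonoidalCategory CartesianMonoidalCategory MonObj GrpObj AlgebraicGeometry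

namespace K404.CommLin

open K400.TorsExt CobExt CobDS Groth.Agent

variable {k : Type u} [Field k]

/-- A non-trivial closed subgroup with a quotient: the set-up of the induction. -/
theorem step [IsAlgClosed k] (L N : Over (Spec (CommRingCat.of k))) [GrpObj L] [GrpObj N] [IsCommMonObj L] [Smooth L.hom]
    [ConnectedSpace ↥L.left] [IsAffine L.left] (i : N ⟶ L) [IsMonHom i] [IsClosedImmersion i.left]
    [Smooth N.hom] [ConnectedSpace ↥N.left] (hN : ¬ IsIso N.hom) {S' : Scheme.{u}} (f : S' ⟶ Spec (CommRingCat.of k))
    (hcob : CobProp (Red.bc f N))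
    (ih : ∀ (Q : Over (Spec (CommRingCat.of k))) (_ : GrpObj Q) (_ : IsCommMonObj Q) (_ : Smooth Q.hom)
      (_ : ConnectedSpace ↥Q.left) (_ : IsAffine Q.left), topologicalKrullDim Q.left < topologicalKrullDim L.left →
      CobProp (Red.bc f Q)) : CobProp (Red.bc f L) := by
  have hqc : QuasiCompact L.hom := quasiCompact_of_compactSpace L.hom
  have hnorm : AlgGrp.IsNormalHom i := by
    intro T g n
    exact ⟨n, by rw [_root_.mul_comm g, mul_inv_cancel_right]⟩
  obtain ⟨Q, _, q, hq1, hq2, hq3, hq4, hq5, hq6, hq7, hq8, hq9, -, hq10, hq11⟩ :=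
    QuoKit.exists_quotient k L N i hnorm
  have := hq9 inferInstance
  have := hq10 inferInstance
  have := hq11 inferInstance
  have hcomm : IsCommMonObj Q := by
    have hqc : QuasiCompact q.left := inferInstance
    have h1 : Flat (q ⊗ₘ q).left := Desc.tensorHom_left_of (@Flat) q q hq2 hq2
    have hcomp : MorphismProperty.IsStableUnderComposition @Surjective.{u} :=
      (inferInstance : MorphismProperty.IsMultiplicative @Surjective.{u}).toIsStableUnderComposition
    have h2 : Surjective (q ⊗ₘ q).left := Desc.tensorHom_left_of (@Surjective) q q hq3 hq3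
    have h3 : QuasiCompact (q ⊗ₘ q).left := Desc.tensorHom_left_of (@QuasiCompact) q q hqc hqc
    have h4 : Epi (q ⊗ₘ q) := by
      have : Epi (q ⊗ₘ q).left := Flat.epi_of_flat_of_surjective _
      exact Over.epi_of_epi_left _
    exact Sga3.H830.CommAux.isCommMonObj_of_epi q
  have hdim : topologicalKrullDim Q.left < topologicalKrullDim L.left := by
    have hNl : LocallyOfFiniteType N.hom := inferInstance
    have hNd := Sga3.H794.ChevInd.one_le_dim_of_not_isIso N hN
    have : QuasiCompact q.left := inferInstance
    exact Sga3.H794.ChevInd.dim_lt i q hq5 hNd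
  have hqa : IsAffineHom q.left := inferInstance
  exact ext_bc f i q hq5 hcob (ih Q inferInstance hcomm inferInstance inferInstance inferInstance hdim)

theorem not_isIso_ga (k : Type u) [Field k] : ¬ IsIso (Red.Ga (Spec (CommRingCat.of k))).hom := by
  intro h
  refine Sga7.H738.GaBc.ne_one_of_mono (𝟙 (Red.Ga (Spec (CommRingCat.of k)))) ?_
  ext1
  rw [← cancel_mono (Red.Ga (Spec (CommRingCat.of k))).hom, Over.w, Over.w]

open Books.AffBridge Books.AffBridge2 in
theorem cobProp_bc [IsAlgClosed k] (F : Type u) [Field F] (f : Spec (CommRingCat.of F) ⟶ Spec (CommRingCat.of k))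
    (L : Over (Spec (CommRingCat.of k))) [GrpObj L] [IsCommMonObj L] [Smooth L.hom]
    [ConnectedSpace ↥L.left] [IsAffine L.left] : CobProp (Red.bc f L) := by
  suffices H : ∀ (d : WithBot ℕ∞) (L : Over (Spec (CommRingCat.of k))) (_ : GrpObj L) (_ : IsCommMonObj L)
      (_ : Smooth L.hom) (_ : ConnectedSpace ↥L.left) (_ : IsAffine L.left), topologicalKrullDim L.left = d →
      CobProp (Red.bc f L) from
    H _ L inferInstance inferInstance inferInstance inferInstance inferInstance rfl
  intro d
  induction d using WellFoundedLT.induction with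
  | _ d ih =>
  intro L _ _ _ _ _ hd
  by_cases hiso : IsIso L.hom
  · have : IsIso (Red.bc f L).hom := by
      change IsIso (pullback.snd L.hom f)
      infer_instance
    exact CobExt.of_isIso_hom this
  by_cases hU : Red.HasNoSubtorus k L
  · obtain ⟨B, _, _, e, he, hB⟩ := K414.UnipTor.isUnip_of_hasNoSubtorus L hU
    have hBft : Algebra.FiniteType k B := by
      rw [← locallyOfFiniteType_specOver_iff, ← Over.w e.inv]
      have : IsIso e.inv.left := inferInstanceAs (IsIso ((Over.forget _).map e.inv))
      infer_instance
    have hfin : ¬ IsFinite L.hom := by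
      intro hf
      have h1 := DimKer.discreteTopology_of_isFinite k L
      have h2 := topologicalKrullDim_zero_of_discreteTopology L.left
      have h3 := Sga3.H794.ChevInd.one_le_dim_of_not_isIso L hiso
      exact absurd (h3.trans h2) (by decide)
    obtain ⟨j, hj, hj'⟩ := Sga7.H740.GaGrp.exists_ga_of_isUnipotent_of_not_isFinite L e hfin hB
    have hgs : Smooth (Red.Ga (Spec (CommRingCat.of k))).hom := Sga7.H738.GaBc.smooth_ga
    have hgi : IsIntegral (Red.Ga (Spec (CommRingCat.of k))).left := Sga3.H783.GaGm.isIntegral_ga k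
    have hgc : ConnectedSpace ↥(Red.Ga (Spec (CommRingCat.of k))).left := inferInstance
    exact step L _ j (not_isIso_ga k) f ((cobProp_ga).of_iso (Sga7.H738.GaBc.gaIso f))
      (fun Q _ _ _ _ _ hlt => ih _ (hd ▸ hlt) Q inferInstance inferInstance inferInstance inferInstance inferInstance rfl)
  · simp only [Red.HasNoSubtorus, not_forall] at hU
    obtain ⟨T, _, j, _, _, hT, hnt⟩ := hU
    have hTs : Smooth T.hom := Sga3B.TorusAlgClosed.smooth_of_isTorus hT
    have hTa : IsAffineHom T.hom := Sga3B.TorusAlgClosed.isAffineHom_of_isTorus hT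
    have hTirr := Sga3B.TorusIrr.geometricallyIrreducible_of_isTorus hT
    have : IrreducibleSpace T.left := GeometricallyIrreducible.irreducibleSpace_of_subsingleton T.hom
    have hTc : ConnectedSpace ↥T.left := inferInstance
    have hTaff : IsAffine T.left := isAffine_of_isAffineHom T.hom
    have hjq : QuasiCompact j.left := quasiCompact_of_compactSpace j.left
    have hjc : IsClosedImmersion j.left := S3036.result k T L j
    obtain ⟨r, hr⟩ := Sga3B.TorusAlgClosed.exists_isSplitTorusWith hT
    exact step L T j hnt f (cobProp_split (Sga3B.TorusAlgClosed.isSplitTorusWith_bc f hr))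
      (fun Q _ _ _ _ _ hlt => ih _ (hd ▸ hlt) Q inferInstance inferInstance inferInstance inferInstance inferInstance rfl)

end K404.CommLin
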