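import Groth.Agent.PicF.K245.GeomCR
import Groth.Agent.Books.BorelOrb

/-!
# Automorphisms modulo deformation

`Defm s g`: the automorphisms `s`, `g` of `X` are members of a family of automorphisms parametrized by a connected
scheme of finite type (the clause of S17481).  It is a congruence on `Aut X` and contains the translations of a
connected group.
-/

set_option autoImplicit false
universe u

open CategoryTheory CategoryTheory.Limits MonoidalCategory CartesianMonoidalCategory MonObj GrpObj AlgebraicGeometry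
open Groth.Agent.Books.BorelOrb

namespace K404.Defm

variable {k : Type u} [Field k] {X : Over (Spec (CommRingCat.of k))}

/-- The automorphisms `s` and `g` are members of one connected family. -/
def Defm (s g : X ≅ X) : Prop :=
  ∃ (T : Over (Spec (CommRingCat.of k))) (_ : ConnectedSpace ↥T.left)
    (_ : LocallyOfFiniteType T.hom) (_ : QuasiCompact T.hom) (φ : X ⊗ T ≅ X ⊗ T)
    (t₀ t₁ : 𝟙_ (Over (Spec (CommRingCat.of k))) ⟶ T),
    φ.hom ≫ snd X T = snd X T ∧
    lift (𝟙 X) (toUnit X ≫ t₀) ≫ φ.hom ≫ fst X T = s.hom ∧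
    lift (𝟙 X) (toUnit X ≫ t₁) ≫ φ.hom ≫ fst X T = g.hom

theorem symm {s g : X ≅ X} (h : Defm s g) : Defm g s := by
  obtain ⟨T, h1, h2, h3, φ, t₀, t₁, h4, h5, h6⟩ := h
  exact ⟨T, h1, h2, h3, φ, t₁, t₀, h4, h6, h5⟩

/-- point form -/
theorem at_point {T : Over (Spec (CommRingCat.of k))} (φ : X ⊗ T ⟶ X ⊗ T) (t : 𝟙_ (Over (Spec (CommRingCat.of k))) ⟶ T)
    (s : X ⟶ X) (h : φ ≫ snd X T = snd X T) (hs : lift (𝟙 X) (toUnit X ≫ t) ≫ φ ≫ fst X T = s)
    {W : Over (Spec (CommRingCat.of k))} (w : W ⟶ X) : lift w (toUnit W ≫ t) ≫ φ = lift (w ≫ s) (toUnit W ≫ t) := by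
  have e : lift w (toUnit W ≫ t) = w ≫ lift (𝟙 X) (toUnit X ≫ t) := by
    rw [comp_lift, Category.comp_id, ← Category.assoc, toUnit_unique (w ≫ toUnit X) (toUnit W)]
  ext1
  · rw [lift_fst, e, Category.assoc, Category.assoc, hs]
  · rw [lift_snd, Category.assoc, h, lift_snd]

theorem refl (s : X ≅ X) : Defm s s := by
  have hc : ConnectedSpace ↥(𝟙_ (Over (Spec (CommRingCat.of k)))).left :=
    inferInstanceAs (ConnectedSpace (Spec (CommRingCat.of k)))
  have h1 : LocallyOfFiniteType (𝟙_ (Over (Spec (CommRingCat.of k)))).hom :=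
    inferInstanceAs (LocallyOfFiniteType (𝟙 (Spec (CommRingCat.of k))))
  have h2 : QuasiCompact (𝟙_ (Over (Spec (CommRingCat.of k)))).hom :=
    inferInstanceAs (QuasiCompact (𝟙 (Spec (CommRingCat.of k))))
  refine ⟨𝟙_ _, hc, h1, h2, whiskerRightIso s _, 𝟙 _, 𝟙 _, toUnit_unique _ _, ?_, ?_⟩
  · simp
  · simp

theorem isPullback_prod (X Y : Over (Spec (CommRingCat.of k))) :
    IsPullback (fst X Y).left (snd X Y).left X.hom Y.hom :=
  IsPullback.of_hasPullback X.hom Y.hom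

theorem connectedSpace_tensor (T T' : Over (Spec (CommRingCat.of k))) [ConnectedSpace T.left]
    [ConnectedSpace T'.left] (t : 𝟙_ (Over (Spec (CommRingCat.of k))) ⟶ T) : ConnectedSpace (T ⊗ T').left := by
  have h : GeometricallyConnected T.hom := K245.GeomCR.geometricallyConnected_of_point T.hom
    t.left (Over.w t)
  exact inferInstanceAs (ConnectedSpace ↥(pullback T.hom T'.hom))

theorem comp {s g s' g' : X ≅ X} (h : Defm s g) (h' : Defm s' g') : Defm (s ≪≫ s') (g ≪≫ g') := by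
  obtain ⟨T, h1, h2, h3, φ, t₀, t₁, h4, h5, h6⟩ := h
  obtain ⟨T', h1', h2', h3', φ', t₀', t₁', h4', h5', h6'⟩ := h'
  have hc := connectedSpace_tensor T T' t₀
  have hlf : LocallyOfFiniteType (T ⊗ T').hom :=
    inferInstanceAs (LocallyOfFiniteType (pullback.fst T.hom T'.hom ≫ T.hom))
  have hqc : QuasiCompact (T ⊗ T').hom :=
    inferInstanceAs (QuasiCompact (pullback.fst T.hom T'.hom ≫ T.hom))
  -- `Φ₁ (x, t, t') = (φ (x, t), t')`
  have hφ : φ.inv ≫ snd X T = snd X T := by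
    rw [Iso.inv_comp_eq, h4]
  have hφ' : φ'.inv ≫ snd X T' = snd X T' := by
    rw [Iso.inv_comp_eq, h4']
  let a : X ⊗ (T ⊗ T') ⟶ X ⊗ T := lift (fst _ _) (snd _ _ ≫ fst _ _)
  let b : X ⊗ (T ⊗ T') ⟶ X ⊗ T' := lift (fst _ _) (snd _ _ ≫ snd _ _)
  let F (ψ : X ⊗ T ⟶ X ⊗ T) : X ⊗ (T ⊗ T') ⟶ X ⊗ (T ⊗ T') := lift (a ≫ ψ ≫ fst _ _) (snd _ _)
  let G (ψ : X ⊗ T' ⟶ X ⊗ T') : X ⊗ (T ⊗ T') ⟶ X ⊗ (T ⊗ T') := lift (b ≫ ψ ≫ fst _ _) (snd _ _)
  have hF : ∀ ψ ψ' : X ⊗ T ⟶ X ⊗ T, ψ ≫ snd _ _ = snd _ _ → F ψ ≫ F ψ' = F (ψ ≫ ψ') := by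
    intro ψ ψ' hψ
    have e : F ψ ≫ a = a ≫ ψ := by
      ext1
      · simp [F, a]
      · rw [Category.assoc, Category.assoc, hψ]
        simp [F, a]
    ext1
    · simp only [F, Category.assoc, lift_fst]
      rw [← Category.assoc (lift _ _) a]
      change (F ψ ≫ a) ≫ _ = _
      rw [e]
      simp only [Category.assoc]
    · simp [F]
  have hG : ∀ ψ ψ' : X ⊗ T' ⟶ X ⊗ T', ψ ≫ snd _ _ = snd _ _ → G ψ ≫ G ψ' = G (ψ ≫ ψ') := by
    intro ψ ψ' hψ
    have e : G ψ ≫ b = b ≫ ψ := by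
      ext1
      · simp [G, b]
      · rw [Category.assoc, Category.assoc, hψ]
        simp [G, b]
    ext1
    · simp only [G, Category.assoc, lift_fst]
      rw [← Category.assoc (lift _ _) b]
      change (G ψ ≫ b) ≫ _ = _
      rw [e]
      simp only [Category.assoc]
    · simp [G]
  have hF1 : F (𝟙 _) = 𝟙 _ := by
    ext1 <;> simp [F, a]
  have hG1 : G (𝟙 _) = 𝟙 _ := by
    ext1 <;> simp [G, b]
  have key : ∀ (t : 𝟙_ (Over (Spec (CommRingCat.of k))) ⟶ T) (t' : 𝟙_ (Over (Spec (CommRingCat.of k))) ⟶ T')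
      (σ σ' : X ≅ X), lift (𝟙 X) (toUnit X ≫ t) ≫ φ.hom ≫ fst X T = σ.hom →
      lift (𝟙 X) (toUnit X ≫ t') ≫ φ'.hom ≫ fst X T' = σ'.hom →
      lift (𝟙 X) (toUnit X ≫ lift t t') ≫ (F φ.hom ≫ G φ'.hom) ≫ fst X (T ⊗ T') = (σ ≪≫ σ').hom := by
    intro t t' σ σ' hσ hσ'
    have e1 : lift (𝟙 X) (toUnit X ≫ lift t t') ≫ F φ.hom = lift σ.hom (toUnit X ≫ lift t t') := by
      ext1
      · simp only [F, a, Category.assoc, lift_fst, ← hσ, ← Category.assoc, comp_lift, lift_snd, comp_toUnit]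
      · simp [F]
    have e2 : lift σ.hom (toUnit X ≫ lift t t') ≫ b = σ.hom ≫ lift (𝟙 X) (toUnit X ≫ t') := by
      ext1 <;> simp [b]
    rw [Category.assoc, ← Category.assoc, e1]
    simp only [G, lift_fst]
    rw [← Category.assoc, e2, Category.assoc, hσ', Iso.trans_hom]
  refine ⟨T ⊗ T', hc, hlf, hqc, ⟨F φ.hom ≫ G φ'.hom, G φ'.inv ≫ F φ.inv, ?_, ?_⟩, lift t₀ t₀', lift t₁ t₁', ?_,
    key _ _ _ _ h5 h5', key _ _ _ _ h6 h6'⟩
  · rw [Category.assoc, ← Category.assoc (G _), hG _ _ h4', Iso.hom_inv_id, hG1, Category.id_comp, hF _ _ h4,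
      Iso.hom_inv_id, hF1]
  · rw [Category.assoc, ← Category.assoc (F _), hF _ _ hφ, Iso.inv_hom_id, hF1, Category.id_comp, hG _ _ hφ',
      Iso.inv_hom_id, hG1]
  · simp [F, G]

theorem trans {s g h : X ≅ X} (h₁ : Defm s g) (h₂ : Defm g h) : Defm s h := by
  have := comp h₁ (comp (refl g.symm) h₂)
  simpa using this

theorem inv {s g : X ≅ X} (h : Defm s g) : Defm s.symm g.symm := by
  have := comp (comp (refl s.symm) h) (refl g.symm)
  simpa using symm this

variable {A : Over (Spec (CommRingCat.of k))} [GrpObj A] (a : AlgGrp.Action A X)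

/-- translation by a rational point -/
noncomputable def tIso (g : 𝟙_ (Over (Spec (CommRingCat.of k))) ⟶ A) : X ≅ X where
  hom := lift (toUnit X ≫ g) (𝟙 X) ≫ a.act
  inv := lift (toUnit X ≫ g⁻¹) (𝟙 X) ≫ a.act
  hom_inv_id := by
    change sm a _ _ ≫ sm a _ _ = _
    rw [comp_sm, Category.comp_id, ← Category.assoc, toUnit_unique (_ ≫ toUnit X) (toUnit X), ← mul_sm,
      ← MonObj.comp_mul, inv_mul_cancel, MonObj.comp_one, one_sm]
  inv_hom_id := by
    change sm a _ _ ≫ sm a _ _ = _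
    rw [comp_sm, Category.comp_id, ← Category.assoc, toUnit_unique (_ ≫ toUnit X) (toUnit X), ← mul_sm,
      ← MonObj.comp_mul, mul_inv_cancel, MonObj.comp_one, one_sm]

/-- Translations by a connected group are deformations of the identity. -/
theorem translation [ConnectedSpace A.left] [LocallyOfFiniteType A.hom] [QuasiCompact A.hom]
    (g : 𝟙_ (Over (Spec (CommRingCat.of k))) ⟶ A) : Defm (Iso.refl X) (tIso a g) := by
  refine ⟨A, ‹_›, ‹_›, ‹_›, ⟨lift (sm a (snd X A) (fst X A)) (snd X A), lift (sm a (snd X A)⁻¹ (fst X A)) (snd X A),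
    ?_, ?_⟩, η[A], g, ?_, ?_, ?_⟩
  · ext1
    · rw [Category.assoc, lift_fst, comp_sm, lift_fst, GrpObj.comp_inv, lift_snd, ← mul_sm, inv_mul_cancel, one_sm,
        Category.id_comp]
    · simp
  · ext1
    · rw [Category.assoc, lift_fst, comp_sm, lift_fst, lift_snd, ← mul_sm, mul_inv_cancel, one_sm,
        Category.id_comp]
    · simp
  · simp
  · simp only [lift_fst]
    rw [comp_sm, lift_snd, lift_fst, ← Hom.one_def, one_sm, Iso.refl_hom]
  · simp only [lift_fst]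
    rw [comp_sm, lift_snd, lift_fst]
    rfl

/-- Composition with translations does not change the deformation class. -/
theorem comp_translation [ConnectedSpace A.left] [LocallyOfFiniteType A.hom] [QuasiCompact A.hom]
    (γ : X ≅ X) (g : 𝟙_ (Over (Spec (CommRingCat.of k))) ⟶ A) : Defm γ (γ ≪≫ tIso a g) := by
  simpa using comp (refl γ) (translation a g)

theorem translation_comp [ConnectedSpace A.left] [LocallyOfFiniteType A.hom] [QuasiCompact A.hom]
    (γ : X ≅ X) (g : 𝟙_ (Over (Spec (CommRingCat.of k))) ⟶ A) : Defm γ (tIso a g ≪≫ γ) := by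
  simpa using comp (translation a g) (refl γ)

end K404.Defm
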