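import Groth.Prelude.Def_SGA7IX
import Groth.Agent.AlgGrp.K404.QuoKit
import Groth.Agent.AlgGrp.K404.DimKer
import Groth.Agent.S3023
import Groth.Agent.Sga3B.Pts
import Mathlib.AlgebraicGeometry.Morphisms.FlatMono
import Mathlib.AlgebraicGeometry.Morphisms.FlatDescent

/-! Factoring isogenies into purely inseparable and separable isogenies. -/

set_option autoImplicit false
universe u

open CategoryTheory CategoryTheory.Limits MonoidalCategory CartesianMonoidalCategory MonObj GrpObj AlgebraicGeometry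

namespace K404.EtConn

open Desc AbAff MulPb QuoKit DimKer Groth.Agent.Sga3B.KerGrp

variable (k : Type u) [Field k]

theorem flat_hom (G : Over (Spec (CommRingCat.of k))) : Flat G.hom := by
  have : Subsingleton (Spec (CommRingCat.of k)) := inferInstanceAs (Subsingleton (PrimeSpectrum k))
  infer_instance

theorem isLocallyNoetherian_left (G : Over (Spec (CommRingCat.of k))) [LocallyOfFiniteType G.hom] :
    IsLocallyNoetherian G.left := by
  have : IsNoetherianRing (CommRingCat.of k) := inferInstanceAs (IsNoetherianRing k)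
  exact LocallyOfFiniteType.isLocallyNoetherian (Y := Spec (CommRingCat.of k)) G.hom

set_option backward.isDefEq.respectTransparency false in
/-- A group scheme whose unit section is an open immersion is étale. -/
theorem etale_of_isOpenImmersion_one (X : Over (Spec (CommRingCat.of k))) [GrpObj X] [LocallyOfFiniteType X.hom]
    (h : IsOpenImmersion (η[X] : 𝟙_ (Over (Spec (CommRingCat.of k))) ⟶ X).left) : Etale X.hom := by
  have h1 := (Groth.Agent.Books.AntiAffine.isPullback_diag X).map (Over.forget _)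
  have h2 : IsOpenImmersion ((Over.forget _).map (lift (𝟙 X) (𝟙 X))) :=
    MorphismProperty.of_isPullback (P := @IsOpenImmersion) h1.flip (by dsimp; exact h)
  have h3 : (Over.forget _).map (lift (𝟙 X) (𝟙 X)) = pullback.diagonal X.hom := by
    apply pullback.hom_ext <;> simp
  have h4 : IsOpenImmersion (pullback.diagonal X.hom) := by
    rw [← h3]
    exact h2
  have h5 : FormallyUnramified X.hom := inferInstance
  have h6 := flat_hom k X
  have : IsNoetherianRing (CommRingCat.of k) := inferInstanceAs (IsNoetherianRing k)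
  have : IsLocallyNoetherian (Spec (CommRingCat.of k)) := inferInstance
  have h7 : LocallyOfFinitePresentation X.hom := LocallyOfFinitePresentation.iff_locallyOfFiniteType.2 ‹_›
  exact Etale.of_formallyUnramified_of_flat X.hom

/-- Lifting through open immersions. -/
theorem exists_lift_of_range {S : Scheme.{u}} {T U X : Over S} (u : U ⟶ X) [IsOpenImmersion u.left] (y : T ⟶ X)
    (h : Set.range y.left ⊆ Set.range u.left) : ∃ z : T ⟶ U, z ≫ u = y := by
  refine ⟨Over.homMk (IsOpenImmersion.lift u.left y.left h) ?_, ?_⟩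
  · rw [← Over.w u, IsOpenImmersion.lift_fac_assoc, Over.w]
  · ext1
    simp

theorem surjective_whiskerLeft {S : Scheme.{u}} {X Y : Over S} (f : X ⟶ Y) (Z : Over S) (h : Surjective f.left) :
    Surjective (Z ◁ f).left :=
  Groth.Agent.Books.AntiAffine.whiskerLeft_left_mem (@Surjective) f Z h

/-- One-point open subgroups of normal subgroups are normal. -/
theorem isNormalHom_of_onePoint {G F F0 : Over (Spec (CommRingCat.of k))} [GrpObj G] [GrpObj F] [GrpObj F0]
    (f : F ⟶ G) [IsMonHom f] [Mono f] (hf : AlgGrp.IsNormalHom f) (f0 : F0 ⟶ F) [IsMonHom f0] [IsOpenImmersion f0.left]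
    (h1 : Surjective (η[F0] : 𝟙_ (Over (Spec (CommRingCat.of k))) ⟶ F0).left) : AlgGrp.IsNormalHom (f0 ≫ f) := by
  -- the universal conjugation
  obtain ⟨c, hc⟩ := hf (G ⊗ F0) (fst G F0) (snd G F0 ≫ f0)
  have hs : Surjective (G ◁ (η[F0] : 𝟙_ (Over (Spec (CommRingCat.of k))) ⟶ F0)).left := surjective_whiskerLeft _ G h1
  have h2 : (G ◁ (η[F0] : 𝟙_ (Over (Spec (CommRingCat.of k))) ⟶ F0)) ≫ c = toUnit _ ≫ η[F] := by
    rw [← cancel_mono f, Category.assoc, ← hc, MonObj.comp_mul, MonObj.comp_mul, GrpObj.comp_inv, whiskerLeft_fst,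
      ← Category.assoc, ← Category.assoc, whiskerLeft_snd, Category.assoc, Category.assoc, Category.assoc,
      IsMonHom.one_hom, IsMonHom.one_hom]
    have : snd G (𝟙_ (Over (Spec (CommRingCat.of k)))) ≫ η[G] = 1 := by
      rw [← toUnit_unique (toUnit _) (snd G _)]; rfl
    rw [this, _root_.mul_one, mul_inv_cancel]
    rfl
  have h3 : Set.range c.left ⊆ Set.range f0.left := by
    have h4 : Set.range c.left = Set.range ((G ◁ (η[F0] : 𝟙_ (Over (Spec (CommRingCat.of k))) ⟶ F0)) ≫ c).left := by
      rw [Over.comp_left, Scheme.Hom.comp_base, TopCat.coe_comp, Set.range_comp, hs.surj.range_eq, Set.image_univ]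
    rw [h4, h2, ← IsMonHom.one_hom f0, ← Category.assoc, Over.comp_left, Scheme.Hom.comp_base, TopCat.coe_comp]
    exact Set.range_comp_subset_range _ _
  obtain ⟨d, hd⟩ := exists_lift_of_range f0 c h3
  intro T g n
  refine ⟨lift g n ≫ d, ?_⟩
  have h5 : lift g n ≫ (d ≫ f0 ≫ f) = lift g n ≫ (fst G F0 * ((snd G F0 ≫ f0) ≫ f) * (fst G F0)⁻¹) := by
    rw [hc, ← Category.assoc d, hd]
  rw [MonObj.comp_mul, MonObj.comp_mul, GrpObj.comp_inv, lift_fst] at h5
  simp only [Category.assoc, lift_snd_assoc] at h5 ⊢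
  exact h5.symm


theorem exists_kernel {S : Scheme.{u}} {G H : Over S} [GrpObj G] [GrpObj H] (φ : G ⟶ H) [IsMonHom φ]
    [IsSeparated H.hom] : ∃ (F : Over S) (_ : GrpObj F) (f : F ⟶ G), IsMonHom f ∧ AlgGrp.IsKernel f φ ∧
      IsClosedImmersion f.left := by
  obtain ⟨_, hfm⟩ := exists_grpObj φ
  exact ⟨kerObj φ, _, kerι φ, hfm, isPullback_ker φ, inferInstance⟩

theorem isIso_left {S : Scheme.{u}} {G H : Over S} (e : G ≅ H) : IsIso e.hom.left :=
  inferInstanceAs (IsIso ((Over.forget _).mapIso e).hom)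

theorem kernel_iso {S : Scheme.{u}} {G Q N N' : Over S} [GrpObj Q] {q : G ⟶ Q} {n : N ⟶ G} {n' : N' ⟶ G}
    (h : AlgGrp.IsKernel n q) (h' : AlgGrp.IsKernel n' q) : Nonempty (N ≅ N') :=
  ⟨h.isoIsPullback _ _ h'⟩

/-- S14759 -/
theorem main (G H : Over (Spec (CommRingCat.of k))) [GrpObj G] [GrpObj H]
    [QuasiCompact G.hom] [LocallyOfFiniteType G.hom] [QuasiCompact H.hom] [LocallyOfFiniteType H.hom]
    (φ : G ⟶ H) [IsMonHom φ] (hφ : SGA7.IsIsogenyOver φ) :
    ∃ (Q : Over (Spec (CommRingCat.of k))) (_ : GrpObj Q) (ψ : G ⟶ Q) (χ : Q ⟶ H),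
      IsMonHom ψ ∧ IsMonHom χ ∧ ψ ≫ χ = φ ∧ SGA7.IsIsogenyOver ψ ∧ SGA7.IsIsogenyOver χ ∧
      (∀ (N : Over (Spec (CommRingCat.of k))) (n : N ⟶ G), AlgGrp.IsKernel n ψ → ConnectedSpace ↥N.left) ∧
      (∀ (N : Over (Spec (CommRingCat.of k))) (n : N ⟶ Q), AlgGrp.IsKernel n χ → Etale N.hom) := by
  have hHsep : IsSeparated H.hom := Groth.Agent.Books.AntiAffine.isSeparated_hom H
  -- the kernel
  obtain ⟨F, _, f, hfmon, hK, hfcl⟩ := exists_kernel φ
  have hFfin : IsFinite F.hom := hφ.2 F f hK
  have hfmono : Mono f := Groth.Agent.Books.AlgPtsGrp.mono_of_isClosedImmersion f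
  have hFn : AlgGrp.IsNormalHom f := Groth.Agent.Sga3.H821.AffProper.isNormalHom_of_isKernel k f φ hK
  have hFd := discreteTopology_of_isFinite k F
  have hFa : IsAffine F.left := isAffine_of_isAffineHom F.hom
  have hFn' := isLocallyNoetherian_left k F
  -- its identity component
  obtain ⟨F0, _, f0, h01, h02, h03, h04⟩ := Groth.Agent.S3023.result k F
  have hf0m : Mono f0.left := inferInstance
  have hf0m' : Mono f0 := Groth.Agent.Books.AlgPtsGrp.mono_of_isClosedImmersion f0
  have hf0lfp : LocallyOfFinitePresentation f0.left := LocallyOfFinitePresentation.iff_locallyOfFiniteType.2 inferInstance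
  have hf0o : IsOpenImmersion f0.left := IsOpenImmersion.of_flat_of_mono f0.left
  have h01' := h01
  have hf0r : ∀ pt : ↥(𝟙_ (Over (Spec (CommRingCat.of k)))).left, Set.range f0.left = {η[F].left pt} := by
    intro pt
    exact (h04 pt).trans (connectedComponent_eq_singleton _)
  let pt0 : ↥(𝟙_ (Over (Spec (CommRingCat.of k)))).left := (IsLocalRing.closedPoint k : PrimeSpectrum k)
  have hη0 : Surjective (η[F0] : 𝟙_ (Over (Spec (CommRingCat.of k))) ⟶ F0).left := by
    refine ⟨fun x => ⟨pt0, ?_⟩⟩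
    have h1 : f0.left x ∈ ({η[F].left pt0} : Set F.left) := by
      rw [← hf0r]
      exact Set.mem_range_self x
    apply f0.left.isOpenEmbedding.injective
    rw [Set.mem_singleton_iff.mp h1, ← IsMonHom.one_hom f0]
    rfl
  have hn := isNormalHom_of_onePoint k f hFn f0 hη0
  have hf0f : IsClosedImmersion (f0 ≫ f).left := by rw [Over.comp_left]; infer_instance
  obtain ⟨Q, _, ψ, q1, q2, q3, q4, q5, q6, q7, q8, q9, q10, q11, q12⟩ := exists_quotient k G F0 (f0 ≫ f) hn
  have hψqc : QuasiCompact ψ.left := by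
    have : QuasiCompact (ψ.left ≫ Q.hom) := by rw [Over.w]; infer_instance
    exact QuasiCompact.of_comp ψ.left Q.hom
  obtain ⟨χ, hχ1, hχ2⟩ := Desc.exists_desc_hom (f0 ≫ f) ψ q5 φ (by
    rw [Category.assoc, ker_eq_one hK, MonObj.comp_one])
  have hF0fin : IsFinite F0.hom := by rw [← Over.w f0]; infer_instance
  -- the kernel of `χ`
  obtain ⟨X, _, x, hxmon, hX, hxcl⟩ := exists_kernel χ
  have hxmono : Mono x := Groth.Agent.Books.AlgPtsGrp.mono_of_isClosedImmersion x
  obtain ⟨p, hp⟩ := exists_lift_ker hX (f ≫ ψ) (by rw [Category.assoc, hχ2, ker_eq_one hK])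
  have hpb : IsPullback f p ψ x := by
    refine Isotriv.isPullback_of_points hp.symm (fun T g y hgy => ?_) (fun T a a' h1 h2 => ?_)
    · obtain ⟨z, hz⟩ := exists_lift_ker hK g (by rw [← hχ2, ← Category.assoc, hgy, ker_comp hX])
      exact ⟨z, hz, by rw [← cancel_mono x, Category.assoc, hp, ← Category.assoc, hz, hgy]⟩
    · rwa [cancel_mono] at h1
  have hpb' : IsPullback f.left p.left ψ.left x.left := hpb.map (Over.forget _)
  have hp1 : Flat p.left := MorphismProperty.of_isPullback (P := @Flat) hpb' ‹_›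
  have hp2 : Surjective p.left := MorphismProperty.of_isPullback (P := @Surjective) hpb' ‹_›
  have hp3 : QuasiCompact p.left := MorphismProperty.of_isPullback (P := @QuasiCompact) hpb' ‹_›
  have hpm : IsMonHom p := Groth.Agent.Sga3B.Pts.isMonHom_of_points p (fun T a b => by
    rw [← cancel_mono x, Category.assoc, hp, ← Category.assoc, MonObj.mul_comp a b f, MonObj.mul_comp _ _ ψ,
      MonObj.mul_comp (a ≫ p) (b ≫ p) x, Category.assoc, Category.assoc, Category.assoc, Category.assoc, hp])
  have hXft : LocallyOfFiniteType X.hom := by rw [← Over.w x]; infer_instance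
  have hXqc : QuasiCompact X.hom := by rw [← Over.w x]; infer_instance
  have hXsep : IsSeparated X.hom := by rw [← Over.w x]; infer_instance
  have hXa : IsAffine X.left := Groth.Agent.Sga3.H821.AffProper.isAffine_of_flat_surjective k F X p
  have hXuc : UniversallyClosed X.hom := by
    have h' : UniversallyClosed (p.left ≫ X.hom) := by
      rw [Over.w]; infer_instance
    exact UniversallyClosed.of_comp_surjective p.left X.hom
  have hXp : IsProper X.hom := { }
  have hXfin : IsFinite X.hom := IsFinite.iff_isProper_and_isAffineHom.2 ⟨inferInstance, inferInstance⟩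
  -- `F0` is the kernel of `p`
  have hk0 : AlgGrp.IsKernel f0 p := by
    refine Isotriv.isPullback_of_points ?_ (fun T y z hyz => ?_) (fun T a a' h1 h2 => ?_)
    · rw [← cancel_mono x, Category.assoc, hp, ← Category.assoc, ker_eq_one q5, Category.assoc, IsMonHom.one_hom]
      rfl
    · obtain ⟨w, hw⟩ := exists_lift_ker q5 (y ≫ f) (by
        rw [Category.assoc, ← hp, ← Category.assoc, hyz, Category.assoc, IsMonHom.one_hom,
          ← toUnit_unique (toUnit T) z]; rfl)
      exact ⟨w, by rw [← cancel_mono f, Category.assoc, hw], toUnit_unique _ _⟩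
    · rwa [← cancel_mono f0]
  have hk0' : IsPullback f0.left (toUnit F0).left p.left (η[X] : 𝟙_ (Over (Spec (CommRingCat.of k))) ⟶ X).left :=
    hk0.map (Over.forget _)
  have hηo : IsOpenImmersion (η[X] : 𝟙_ (Over (Spec (CommRingCat.of k))) ⟶ X).left :=
    MorphismProperty.of_isPullback_of_descendsAlong (P := @IsOpenImmersion) (Q := @Surjective ⊓ @Flat ⊓ @QuasiCompact)
      hk0' ⟨⟨hp2, hp1⟩, hp3⟩ hf0o
  have hXet : Etale X.hom := etale_of_isOpenImmersion_one k X hηo
  have hs : Surjective φ.left := hφ.1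
  refine ⟨Q, _, ψ, χ, q1, hχ1, hχ2, ⟨q3, fun N n hN => ?_⟩, ⟨?_, fun N n hN => ?_⟩, fun N n hN => ?_, fun N n hN => ?_⟩
  · obtain ⟨e⟩ := kernel_iso hN q5
    have := isIso_left e
    rw [← Over.w e.hom]
    infer_instance
  · have : Surjective (ψ.left ≫ χ.left) := by rw [← Over.comp_left, hχ2]; exact hs
    exact Surjective.of_comp ψ.left χ.left
  · obtain ⟨e⟩ := kernel_iso hN hX
    have := isIso_left e
    rw [← Over.w e.hom]
    infer_instance
  · obtain ⟨e⟩ := kernel_iso hN q5
    have h1 : ConnectedSpace F0.left := by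
      have : ConnectedSpace (𝟙_ (Over (Spec (CommRingCat.of k)))).left :=
        inferInstanceAs (ConnectedSpace (Spec (CommRingCat.of k)))
      exact hη0.surj.connectedSpace (η[F0] : 𝟙_ (Over (Spec (CommRingCat.of k))) ⟶ F0).left.continuous
    have := isIso_left e.symm
    have h2 : Surjective e.symm.hom.left := inferInstance
    exact h2.surj.connectedSpace e.symm.hom.left.continuous
  · obtain ⟨e⟩ := kernel_iso hN hX
    have := isIso_left e
    rw [← Over.w e.hom]
    infer_instance

end K404.EtConn
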