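import Groth.Agent.SGA3.K209.WordBC
import Mathlib.AlgebraicGeometry.ZariskisMainTheorem

/-!
# The subgroup generated by a finite geometrically reduced scheme in a commutative torsion group is finite
-/

set_option autoImplicit false
universe u
open CategoryTheory MonoidalCategory CartesianMonoidalCategory MonObj GrpObj
open AlgebraicGeometry TopologicalSpace
open scoped Pointwise

namespace K404.FinGen

open K209.Words K209.WordSch K209.WordBC Groth.Agent.Sga3.H782 Groth.Agent.Sga3.H782.Points

variable {k : Type u} [Field k]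

instance isLocallyArtinian_spec : IsLocallyArtinian (Spec (CommRingCat.of k)) := by
  have : IsArtinianRing (CommRingCat.of k) := inferInstanceAs (IsArtinianRing k)
  infer_instance

/-- A scheme of finite type over a field with finitely many points is finite over the field. -/
theorem isFinite_of_finite {X : Scheme.{u}} (f : X ⟶ Spec (CommRingCat.of k)) [LocallyOfFiniteType f]
    [QuasiCompact f] (h : Finite X) : IsFinite f := by
  have : LocallyQuasiFinite f := LocallyQuasiFinite.of_finite_preimage_singleton f (fun x => Set.toFinite _)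
  exact IsFinite.of_locallyQuasiFinite f

theorem finite_of_isFinite {X : Scheme.{u}} (f : X ⟶ Spec (CommRingCat.of k)) [IsFinite f] : Finite X := by
  have h : (f ⁻¹' {IsLocalRing.closedPoint k}).Finite := f.finite_preimage_singleton _
  have h2 : (Set.univ : Set X).Finite := by
    refine h.subset ?_
    intro x _
    exact Subsingleton.elim (α := PrimeSpectrum k) _ _
  exact Set.finite_univ_iff.mp h2

instance isFinite_P (X : Over (Spec (CommRingCat.of k))) [IsFinite X.hom] (n : ℕ) : IsFinite (P X n).hom := by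
  induction n with
  | zero => change IsFinite (𝟙 (Spec (CommRingCat.of k))); infer_instance
  | succ n ih =>
    change IsFinite (X ⊗ P X n).hom
    rw [Over.tensorObj_hom]; infer_instance

/-- Powers of a finite symmetric set containing the unit fill a finite subgroup. -/
theorem exists_pow_eq_closure {Γ : Type*} [Group Γ] {Y : Set Γ} (hY : Y⁻¹ = Y) (h1 : 1 ∈ Y)
    (hf : (Subgroup.closure Y : Set Γ).Finite) : ∃ N : ℕ, 1 ≤ N ∧ Y ^ N = (Subgroup.closure Y : Set Γ) := by
  classical
  have hmono : ∀ {a b : ℕ}, a ≤ b → Y ^ a ⊆ Y ^ b := fun h => Set.pow_subset_pow_right h1 h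
  have h2 : ∀ g ∈ (Subgroup.closure Y : Set Γ), ∃ n : ℕ, g ∈ Y ^ n := fun g hg => (mem_closure_iff_exists_pow hY).1 hg
  choose! n hn using h2
  refine ⟨(hf.toFinset.sup n) + 1, by omega, ?_⟩
  apply Set.Subset.antisymm
  · intro g hg
    exact (mem_closure_iff_exists_pow hY).2 ⟨_, hg⟩
  · intro g hg
    exact hmono ((Finset.le_sup (f := n) (hf.mem_toFinset.2 hg)).trans (Nat.le_succ _)) (hn g hg)

/-- A finitely generated subgroup of a commutative group of finite exponent is finite. -/
theorem finite_closure {Γ : Type*} [CommGroup Γ] {Y : Set Γ} (hY : Y.Finite) {m : ℕ} (hm : 0 < m)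
    (h : ∀ g : Γ, g ^ m = 1) : (Subgroup.closure Y : Set Γ).Finite := by
  have hfg : Group.FG (Subgroup.closure Y) := by
    rw [Group.fg_iff_subgroup_fg]
    exact ⟨hY.toFinset, by simp⟩
  have ht : IsMulTorsion (Subgroup.closure Y) := by
    intro g
    rw [isOfFinOrder_iff_pow_eq_one]
    exact ⟨m, hm, Subtype.ext (h g.1)⟩
  have : Finite (Subgroup.closure Y) := CommGroup.finite_of_fg_isMulTorsion _ ht
  exact Set.toFinite _

theorem pow_eq_one_bc {S S' : Scheme.{u}} (σ : S' ⟶ S) {G : Over S} [GrpObj G] {m : ℕ}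
    (hG : ∀ (T : Over S) (g : T ⟶ G), g ^ m = 1) {T : Over S'} (g : T ⟶ Red.bc σ G) : g ^ m = 1 := by
  apply (Groth.Agent.Sga3B.BcPts.bcMulEquiv σ T G).symm.injective
  rw [map_pow, map_one]
  exact hG _ _

/-- The subgroup generated by a finite geometrically reduced scheme containing the unit, in a commutative
group of finite exponent, is finite. -/
theorem exists_finite_grp {G X : Over (Spec (CommRingCat.of k))} [GrpObj G] [IsCommMonObj G]
    [LocallyOfFiniteType G.hom] [IsSeparated G.hom] [IsFinite X.hom] [GeometricallyReduced X.hom] (f : X ⟶ G)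
    (x₀ : 𝟙_ (Over (Spec (CommRingCat.of k))) ⟶ X) (hx₀ : x₀ ≫ f = 1) {m : ℕ} (hm : 0 < m)
    (hG : ∀ (T : Over (Spec (CommRingCat.of k))) (g : T ⟶ G), g ^ m = 1) :
    ∃ (Z : Over (Spec (CommRingCat.of k))) (_ : GrpObj Z) (i : Z ⟶ G) (f' : X ⟶ Z), IsMonHom i ∧
      IsClosedImmersion i.left ∧ IsFinite Z.hom ∧ f' ≫ i = f := by
  let K := AlgebraicClosure k
  let σ : Spec (CommRingCat.of K) ⟶ Spec (CommRingCat.of k) := Spec.map (CommRingCat.ofHom (algebraMap k K))
  obtain ⟨φ, hφ⟩ : ∃ φ, φ = (Over.pullback σ).map f := ⟨_, rfl⟩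
  have hXf : IsFinite (Red.bc σ X).hom := inferInstanceAs (IsFinite (Limits.pullback.snd X.hom σ))
  have hXl : LocallyOfFiniteType (Red.bc σ X).hom := inferInstance
  have hGl : LocallyOfFiniteType (Red.bc σ G).hom :=
    inferInstanceAs (LocallyOfFiniteType (Limits.pullback.snd G.hom σ))
  have hGs : IsSeparated (Red.bc σ G).hom :=
    inferInstanceAs (IsSeparated (Limits.pullback.snd G.hom σ))
  have hfin : Finite (Red.bc σ X).left := finite_of_isFinite (Red.bc σ X).hom
  have hfinP : Finite (Pts (Red.bc σ X)) := Finite.of_injective _ ev_injective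
  have hYfin : (Y φ).Finite := by
    have h1 : Y φ ⊆ Set.range (fun x : Pts (Red.bc σ X) => x ≫ φ) ∪
        Set.range (fun x : Pts (Red.bc σ X) => (x ≫ φ)⁻¹) := by
      rintro g ⟨x, hx | hx⟩
      · exact Or.inl ⟨x, hx.symm⟩
      · exact Or.inr ⟨x, hx.symm⟩
    exact ((Set.finite_range _).union (Set.finite_range _)).subset h1
  have hcomm : IsCommMonObj (Red.bc σ G) := inferInstance
  have hx₀' : ∃ y : 𝟙_ (Over (Spec (CommRingCat.of K))) ⟶ Red.bc σ X, y ≫ φ = 1 := by
    let u := toUnit ((Over.map σ).obj (𝟙_ (Over (Spec (CommRingCat.of K))))) ≫ x₀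
    refine ⟨Groth.Agent.Sga3B.BcPts.bcEquiv σ _ X u, ?_⟩
    rw [hφ, ← Groth.Agent.Sga3B.BcPts.bcEquiv_comp, Category.assoc, hx₀, MonObj.comp_one]
    exact Groth.Agent.Sga3B.BcPts.bcEquiv_one σ
  have h1Y : (1 : Pts (Red.bc σ G)) ∈ Y φ := by
    obtain ⟨y, hy⟩ := hx₀'
    exact ⟨y, Or.inl hy.symm⟩
  have hcl : (Subgroup.closure (Y φ) : Set (Pts (Red.bc σ G))).Finite :=
    finite_closure (Γ := Pts (Red.bc σ G)) hYfin hm (fun g => pow_eq_one_bc σ hG g)
  obtain ⟨N, hN1, hN⟩ := exists_pow_eq_closure (inv_Y φ) h1Y hcl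
  have hclosed : IsClosed (W φ N) := by
    rw [W_eq]
    refine isClosed_iUnion_of_finite (fun ε => ?_)
    have h1 : IsFinite (P (Red.bc σ X) N).hom := inferInstance
    have h2 : IsFinite ((uw φ N ε).left ≫ (Red.bc σ G).hom) := by rw [Over.w]; exact h1
    have h3 : IsFinite (uw φ N ε).left := IsFinite.of_comp _ (Red.bc σ G).hom
    exact (uw φ N ε).left.isClosedMap.isClosed_range
  have hF : IsSubgrpSet σ G (W f N) := isSubgrpSet_W f (by rw [← hφ]; exact hclosed) (by rw [← hφ]; exact hN)
  obtain ⟨Z, hZ, i, hi1, hi2, hi3, hi4, hi5⟩ := hF.exists_grp (cover_W f N)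
  have hfN : Set.range f.left.base ⊆ W f N := (range_subset_W_one f).trans (W_mono f x₀ hx₀ hN1)
  obtain ⟨f', hf'⟩ := hi5 X f inferInstance hfN
  refine ⟨Z, hZ, i, f', hi1, hi2, ?_, hf'⟩
  have hWfin : (W f N).Finite := by
    rw [W_eq]
    refine Set.finite_iUnion (fun ε => ?_)
    have : Finite (P X N).left := finite_of_isFinite (P X N).hom
    exact Set.finite_range _
  have hZfin : Finite Z.left := by
    have h1 : (Set.range i.left.base).Finite := by rw [hi4]; exact hWfin
    have h2 : Finite (Set.range i.left.base) := h1.to_subtype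
    exact Finite.of_injective (Set.rangeFactorization i.left.base)
      (Set.rangeFactorization_injective.2 i.left.isEmbedding.injective)
  have hZl : LocallyOfFiniteType Z.hom := by rw [← Over.w i]; infer_instance
  have hZq : QuasiCompact Z.hom := by
    have : CompactSpace Z.left := Finite.compactSpace
    exact (quasiCompact_iff_compactSpace Z.hom).2 this
  exact isFinite_of_finite Z.hom hZfin

end K404.FinGen
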