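import Groth.Agent.AlgGrp.K404.FinGen
import Groth.Agent.AlgGrp.K404.EtConn
import Groth.Agent.AlgGrp.K397.Pre
import Groth.Agent.TateLoc.K114.FrobSeq
import Groth.Agent.AlgGrp.K406.SepPts
import Groth.Agent.Sga7.H756.RevIsog
import Groth.Agent.S1628
import Groth.Agent.Sga3.H830.CommAux
import Groth.Agent.AlgSp.K619.EtField
import Groth.Agent.AlgGrp.K414.MultExact
import Groth.Agent.S0084
import Groth.Agent.WittGrp.K719.GrpHom

/-!
# Finite subgroups meeting the components of a commutative algebraic group (S13381)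
-/

set_option autoImplicit false
universe u
open CategoryTheory CategoryTheory.Limits MonoidalCategory CartesianMonoidalCategory MonObj GrpObj
open AlgebraicGeometry TopologicalSpace

namespace K404.FinMeet

open K404.Desc K404.EtConn K404.FinGen

variable {k : Type u} [Field k]

/-- Every algebraic group has a smooth quotient by a finite infinitesimal subgroup. -/
theorem exists_smooth (G : Over (Spec (CommRingCat.of k))) [GrpObj G] [LocallyOfFiniteType G.hom] :
    ∃ (Q : Over (Spec (CommRingCat.of k))) (_ : GrpObj Q) (q : G ⟶ Q), IsMonHom q ∧ Smooth Q.hom ∧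
      Surjective q.left ∧ Flat q.left ∧ LocallyOfFinitePresentation q.left ∧ IsFinite q.left ∧
      UniversallyInjective q.left := by
  obtain ⟨p, hp⟩ := CharP.exists k
  rcases CharP.char_is_prime_or_zero k p with h | h
  · have : Fact p.Prime := ⟨h⟩
    exact K114.FrobSmooth.exists_smooth p G
  · subst h
    have : CharZero k := CharP.charP_to_charZero k
    have hG : Smooth G.hom := Groth.Agent.S0353.result k G
    exact ⟨G, inferInstance, 𝟙 G, inferInstance, hG, inferInstanceAs (Surjective (𝟙 G.left)),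
      inferInstanceAs (Flat (𝟙 G.left)), inferInstanceAs (LocallyOfFinitePresentation (𝟙 G.left)),
      inferInstanceAs (IsFinite (𝟙 G.left)), inferInstanceAs (UniversallyInjective (𝟙 G.left))⟩

theorem pow_eq_one_of_epi {G Q : Over (Spec (CommRingCat.of k))} [GrpObj G] [GrpObj Q] (q : G ⟶ Q) [IsMonHom q]
    [Epi q] {m : ℕ} (hG : ∀ (T : Over (Spec (CommRingCat.of k))) (g : T ⟶ G), g ^ m = 1)
    (T : Over (Spec (CommRingCat.of k))) (g : T ⟶ Q) : g ^ m = 1 := by
  have h1 : (𝟙 Q) ^ m = 1 := by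
    rw [← cancel_epi q, MonObj.comp_pow, MonObj.comp_one, Category.comp_id]
    have h2 : q ^ m = ((𝟙 G) ^ m) ≫ q := by
      rw [MonObj.pow_comp, Category.id_comp]
    rw [h2, hG, MonObj.one_comp]
  have h3 : g ≫ ((𝟙 Q) ^ m) = g ^ m := by rw [MonObj.comp_pow, Category.comp_id]
  rw [← h3, h1, MonObj.comp_one]

/-- The quotient of a commutative group is commutative. -/
theorem comm_of_cover {G Q : Over (Spec (CommRingCat.of k))} [GrpObj G] [GrpObj Q] [IsCommMonObj G] (q : G ⟶ Q)
    [IsMonHom q] [Surjective q.left] [Flat q.left] [QuasiCompact q.left] : IsCommMonObj Q := by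
  have h : (@Surjective ⊓ @Flat ⊓ @QuasiCompact : MorphismProperty Scheme.{u}) (q ⊗ₘ q).left :=
    tensorHom_left_of _ q q ⟨⟨‹_›, ‹_›⟩, ‹_›⟩ ⟨⟨‹_›, ‹_›⟩, ‹_›⟩
  have h1 : Surjective (q ⊗ₘ q).left := h.1.1
  have h2 : Flat (q ⊗ₘ q).left := h.1.2
  have h3 : QuasiCompact (q ⊗ₘ q).left := h.2
  have : Epi (q ⊗ₘ q) := epi_of (q ⊗ₘ q)
  exact Groth.Agent.Sga3.H830.CommAux.isCommMonObj_of_epi q

theorem etale_coprodDesc {T T₁ T₂ : Scheme.{u}} (φ₁ : T₁ ⟶ T) (φ₂ : T₂ ⟶ T) [Etale φ₁] [Etale φ₂] :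
    Etale (coprod.desc φ₁ φ₂) := by
  refine IsZariskiLocalAtSource.of_openCover (P := @Etale) (coprodOpenCover.{u, u} T₁ T₂) ?_
  rintro (_ | _)
  · change Etale (coprod.inl ≫ coprod.desc φ₁ φ₂)
    rw [coprod.inl_desc]
    infer_instance
  · change Etale (coprod.inr ≫ coprod.desc φ₁ φ₂)
    rw [coprod.inr_desc]
    infer_instance

/-- A nonempty open subset of a smooth commutative group of finite exponent meets a finite closed subgroup. -/
theorem exists_of_smooth (Q : Over (Spec (CommRingCat.of k))) [GrpObj Q] [IsCommMonObj Q] [Smooth Q.hom]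
    [IsSeparated Q.hom] {m : ℕ} (hm : 0 < m)
    (hQ : ∀ (T : Over (Spec (CommRingCat.of k))) (g : T ⟶ Q), g ^ m = 1) (V : Q.left.Opens)
    (hV : (V : Set Q.left).Nonempty) :
    ∃ (Z : Over (Spec (CommRingCat.of k))) (_ : GrpObj Z) (i : Z ⟶ Q), IsMonHom i ∧
      IsClosedImmersion i.left ∧ IsFinite Z.hom ∧ (Set.range i.left ∩ V).Nonempty := by
  have hne : Nonempty V := hV.to_subtype
  obtain ⟨L, _, _, p, hL1, hL2, hp⟩ := K406.SepPts.exists_finite_separable k (V.ι ≫ Q.hom)
  let l : Spec (CommRingCat.of L) ⟶ Spec (CommRingCat.of k) := Spec.map (CommRingCat.ofHom (algebraMap k L))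
  have hlf : IsFinite l := by
    rw [IsFinite.SpecMap_iff]
    exact RingHom.finite_algebraMap.mpr inferInstance
  have hls : Etale l := by
    have h1 : Algebra.FormallyEtale k L := Algebra.FormallyEtale.of_isSeparable k L
    have h2 : Algebra.FinitePresentation k L := Algebra.FinitePresentation.of_finiteType.mp inferInstance
    have h3 : Algebra.Etale k L := { }
    rw [HasRingHomProperty.Spec_iff (P := @Etale)]
    exact RingHom.etale_algebraMap.mpr h3
  let X : Over (Spec (CommRingCat.of k)) := Over.mk (coprod.desc l (𝟙 (Spec (CommRingCat.of k))))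
  have hXf : IsFinite X.hom := inferInstanceAs (IsFinite (coprod.desc l (𝟙 (Spec (CommRingCat.of k)))))
  have hXe : Etale X.hom := etale_coprodDesc l (𝟙 (Spec (CommRingCat.of k)))
  have hXs : Smooth X.hom := inferInstance
  have hXr : GeometricallyReduced X.hom := by
    let _ : X.left.Over (Spec (CommRingCat.of k)) := ⟨X.hom⟩
    have : Smooth (X.left ↘ Spec (CommRingCat.of k)) := hXs
    exact (Groth.Agent.S1628.result k X.left).1
  have hη : (η[Q] : 𝟙_ (Over (Spec (CommRingCat.of k))) ⟶ Q).left ≫ Q.hom = 𝟙 (Spec (CommRingCat.of k)) :=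
    Over.w (η[Q] : 𝟙_ (Over (Spec (CommRingCat.of k))) ⟶ Q)
  let ηl : Spec (CommRingCat.of k) ⟶ Q.left := (η[Q] : 𝟙_ (Over (Spec (CommRingCat.of k))) ⟶ Q).left
  let f : X ⟶ Q := Over.homMk (coprod.desc (p ≫ V.ι) ηl) (by
    apply coprod.hom_ext
    · rw [coprod.inl_desc_assoc, Category.assoc, hp]
      exact (coprod.inl_desc _ _).symm
    · rw [coprod.inr_desc_assoc, hη]
      exact (coprod.inr_desc _ _).symm)
  let x₀ : 𝟙_ (Over (Spec (CommRingCat.of k))) ⟶ X := Over.homMk (coprod.inr (X := Spec (CommRingCat.of L))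
    (Y := Spec (CommRingCat.of k))) (coprod.inr_desc _ _)
  have hx₀ : x₀ ≫ f = 1 := by
    rw [← MonObj.one_eq_one]
    ext1
    exact coprod.inr_desc _ _
  obtain ⟨Z, hZ, i, f', h1, h2, h3, h4⟩ := exists_finite_grp f x₀ hx₀ hm hQ
  refine ⟨Z, hZ, i, h1, h2, h3, ?_⟩
  let pt : Spec (CommRingCat.of L) := IsLocalRing.closedPoint L
  refine ⟨i.left (f'.left ((coprod.inl : Spec (CommRingCat.of L) ⟶ X.left) pt)), ⟨_, rfl⟩, ?_⟩
  have h5 : ((coprod.inl : Spec (CommRingCat.of L) ⟶ X.left) ≫ f'.left) ≫ i.left = p ≫ V.ι := by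
    rw [Category.assoc, ← Over.comp_left, h4]
    exact coprod.inl_desc _ _
  have h6 : i.left (f'.left ((coprod.inl : Spec (CommRingCat.of L) ⟶ X.left) pt)) = V.ι (p pt) := by
    rw [← Scheme.Hom.comp_apply, ← Scheme.Hom.comp_apply, ← Scheme.Hom.comp_apply, ← Category.assoc, h5]
  rw [h6]
  exact (p pt).2

/-- The power maps of a commutative algebraic group: some power factors through the identity component. -/
theorem exists_pow_factor (G : Over (Spec (CommRingCat.of k))) [GrpObj G] [IsCommMonObj G]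
    [LocallyOfFiniteType G.hom] [QuasiCompact G.hom] :
    ∃ (G0 : Over (Spec (CommRingCat.of k))) (_ : GrpObj G0) (i : G0 ⟶ G) (n : ℕ) (r : G ⟶ G0), IsMonHom i ∧
      1 ≤ n ∧ GeometricallyConnected G0.hom ∧ r ≫ i = (𝟙 G) ^ n := by
  obtain ⟨G0, _, i, h1, h2, h3, h4⟩ := Groth.Agent.S3023.result k G
  have hGn := isLocallyNoetherian_left k G
  have hm : Mono i.left := inferInstance
  have hlfp : LocallyOfFinitePresentation i.left := LocallyOfFinitePresentation.iff_locallyOfFiniteType.2 inferInstance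
  have ho : IsOpenImmersion i.left := IsOpenImmersion.of_flat_of_mono i.left
  let pt0 : ↥(𝟙_ (Over (Spec (CommRingCat.of k)))).left := (IsLocalRing.closedPoint k : PrimeSpectrum k)
  have hconn : ConnectedSpace G0.left := by
    have h5 : _root_.IsConnected (Set.range i.left.base) := by
      rw [h4 pt0]
      exact isConnected_connectedComponent
    have h6 : _root_.IsConnected (i.left.base ⁻¹' (Set.range i.left.base)) := by
      refine h5.preimage_of_isOpenMap i.left.isOpenEmbedding.injective i.left.isOpenEmbedding.isOpenMap subset_rfl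
    rw [Set.preimage_range] at h6
    exact connectedSpace_iff_univ.mpr h6
  have hgc : GeometricallyConnected G0.hom :=
    Groth.Agent.S3023.geometricallyConnected_of_point G0.hom (η[G0] : 𝟙_ (Over (Spec (CommRingCat.of k))) ⟶ G0).left
      (Over.w (η[G0] : 𝟙_ (Over (Spec (CommRingCat.of k))) ⟶ G0))
  obtain ⟨F, _, q, q1, q2, q3, q4, q5, q6, q7, q8, -⟩ := QuoKit.exists_quotient k G G0 i
    (K414.MultExact.isNormalHom_of_comm i)
  have hqc : QuasiCompact q.left := by
    have : QuasiCompact (q.left ≫ F.hom) := by rw [Over.w]; infer_instance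
    exact QuasiCompact.of_comp q.left F.hom
  have hk0' : IsPullback i.left (toUnit G0).left q.left (η[F] : 𝟙_ (Over (Spec (CommRingCat.of k))) ⟶ F).left :=
    q5.map (Over.forget _)
  have hηo : IsOpenImmersion (η[F] : 𝟙_ (Over (Spec (CommRingCat.of k))) ⟶ F).left :=
    MorphismProperty.of_isPullback_of_descendsAlong (P := @IsOpenImmersion) (Q := @Surjective ⊓ @Flat ⊓ @QuasiCompact)
      hk0' ⟨⟨q3, q2⟩, hqc⟩ ho
  have het : Etale F.hom := etale_of_isOpenImmersion_one k F hηo
  have hFl : LocallyQuasiFinite F.hom := K619.EtField.locallyQuasiFinite_of_etale F.hom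
  have hFf : IsFinite F.hom := IsFinite.of_locallyQuasiFinite F.hom
  obtain ⟨n, hn, hn'⟩ := Groth.Agent.Sga7.H756.RevIsog.exists_pow_eq_one k F
  obtain ⟨r, hr⟩ := exists_lift_ker q5 ((𝟙 G) ^ n) (by
    have e1 : ((𝟙 G) ^ n) ≫ q = q ≫ ((𝟙 F) ^ n) := by
      rw [MonObj.pow_comp, MonObj.comp_pow, Category.id_comp, Category.comp_id]
    rw [e1, hn', MonObj.comp_one])
  exact ⟨G0, _, i, n, r, h1, hn, hgc, hr⟩

/-- The torsion of a commutative algebraic group meets every open and closed subset. -/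
theorem exists_torsion_meet (G : Over (Spec (CommRingCat.of k))) [GrpObj G] [IsCommMonObj G]
    [LocallyOfFiniteType G.hom] [QuasiCompact G.hom] :
    ∃ m : ℕ, 1 ≤ m ∧ ∀ U : Set G.left, IsClopen U → U.Nonempty →
      ∃ (T : Over (Spec (CommRingCat.of k))) (c : T ⟶ G) (z : T.left), c ^ m = 1 ∧ c.left z ∈ U := by
  obtain ⟨G0, _, i, n, r, hi, hn, hgc, hr⟩ := exists_pow_factor G
  have hGsep : IsSeparated G.hom := Groth.Agent.Books.AntiAffine.isSeparated_hom G
  have hGn := isLocallyNoetherian_left k G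
  have hcs : CompactSpace G.left := (quasiCompact_iff_compactSpace G.hom).mp inferInstance
  have hN0 : IsNoetherian G.left := { }
  -- the images of the iterated power maps
  have hclosed : ∀ j : ℕ, IsClosed (Set.range (((𝟙 G) ^ (n ^ j) : G ⟶ G).left)) := by
    intro j
    have hmon : IsMonHom ((𝟙 G) ^ (n ^ j) : G ⟶ G) := K719.GrpHom.isMonHom_pow (𝟙 G) _
    obtain ⟨C, _, p, c, h1, h2, h3, h4, h5, h6, h7, -⟩ := MulPb.exists_image k G G ((𝟙 G) ^ (n ^ j) : G ⟶ G)
    have : Set.range (((𝟙 G) ^ (n ^ j) : G ⟶ G).left) = Set.range c.left := by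
      rw [← h3, Over.comp_left, Scheme.Hom.comp_base, TopCat.coe_comp, Set.range_comp, h5.surj.range_eq, Set.image_univ]
    rw [this]
    exact c.left.isClosedEmbedding.isClosed_range
  let R : ℕ → Closeds G.left := fun j => ⟨Set.range (((𝟙 G) ^ (n ^ j) : G ⟶ G).left), hclosed j⟩
  have hmul : ∀ a b : ℕ, ((𝟙 G) ^ (n ^ (a + b)) : G ⟶ G) = ((𝟙 G) ^ (n ^ a)) ≫ ((𝟙 G) ^ (n ^ b)) := by
    intro a b
    rw [MonObj.comp_pow, Category.comp_id, ← _root_.pow_mul, ← _root_.pow_add]
  have hanti : ∀ a b : ℕ, R (a + b) ≤ R b := by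
    intro a b x hx
    obtain ⟨y, hy⟩ := hx
    refine ⟨((𝟙 G) ^ (n ^ a) : G ⟶ G).left y, ?_⟩
    rw [← hy, hmul a b, Over.comp_left, Scheme.Hom.comp_apply]
  obtain ⟨N, hN1, hN⟩ : ∃ N, 1 ≤ N ∧ R (N + N) = R N := by
    have hwf : WellFounded ((· < ·) : Closeds G.left → Closeds G.left → Prop) := wellFounded_lt
    obtain ⟨C, ⟨N, hN1, rfl⟩, hmin⟩ := hwf.has_min {C | ∃ j, 1 ≤ j ∧ R j = C} ⟨R 1, 1, le_rfl, rfl⟩
    refine ⟨N, hN1, ?_⟩
    by_contra hne
    exact hmin (R (N + N)) ⟨N + N, by omega, rfl⟩ (lt_of_le_of_ne (hanti N N) hne)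
  obtain ⟨M, hM⟩ : ∃ M : G ⟶ G, M = (𝟙 G) ^ (n ^ N) := ⟨_, rfl⟩
  have hMmon : IsMonHom M := by rw [hM]; exact K719.GrpHom.isMonHom_pow (𝟙 G) _
  have hMM : (𝟙 G) ^ (n ^ (N + N)) = M ≫ M := by rw [hmul, hM]
  have hpow : ∀ {T : Over (Spec (CommRingCat.of k))} (g : T ⟶ G), g ≫ M = g ^ (n ^ N) := by
    intro T g
    rw [hM, MonObj.comp_pow, Category.comp_id]
  obtain ⟨r', hr'⟩ : ∃ r' : G ⟶ G0, r' ≫ i = M := by
    refine ⟨((𝟙 G) ^ (n ^ (N - 1))) ≫ r, ?_⟩
    rw [Category.assoc, hr, MonObj.comp_pow, Category.comp_id, hM, ← _root_.pow_mul, ← _root_.pow_succ]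
    congr 2
    omega
  refine ⟨n ^ N, Nat.one_le_pow _ _ hn, fun U hU hne => ?_⟩
  obtain ⟨u, hu⟩ := hne
  obtain ⟨w, hw⟩ : ∃ w, (M ≫ M).left w = M.left u := by
    have h1 : M.left u ∈ R N := ⟨u, by rw [hM]⟩
    rw [← hN] at h1
    obtain ⟨w, hw⟩ := h1
    exact ⟨w, by rw [← hw, hMM]⟩
  let T : Over (Spec (CommRingCat.of k)) := Over.mk (pullback.fst M.left (M ≫ M).left ≫ G.hom)
  let a : T ⟶ G := Over.homMk (pullback.fst M.left (M ≫ M).left)
  let b : T ⟶ G := Over.homMk (pullback.snd M.left (M ≫ M).left) (by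
    change pullback.snd M.left (M ≫ M).left ≫ G.hom = pullback.fst M.left (M ≫ M).left ≫ G.hom
    conv_lhs => rw [← Over.w (M ≫ M), ← Category.assoc, ← pullback.condition, Category.assoc, Over.w])
  have hab : a ≫ M = b ≫ M ≫ M := by
    ext1
    exact pullback.condition
  obtain ⟨z, hz1, hz2⟩ := Scheme.Pullback.exists_preimage_pullback (f := M.left) (g := (M ≫ M).left) u w hw.symm
  refine ⟨T, a * (b ≫ M)⁻¹, z, ?_, ?_⟩
  · rw [← hpow, MonObj.mul_comp, GrpObj.inv_comp, Category.assoc, hab, mul_inv_cancel]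
  · obtain ⟨Φ, hΦ⟩ : ∃ Φ : T ⊗ G0 ⟶ G, Φ = (fst T G0 ≫ a) * (snd T G0 ≫ i)⁻¹ := ⟨_, rfl⟩
    have hΦl : ∀ y : T ⟶ G0, lift (𝟙 T) y ≫ Φ = a * (y ≫ i)⁻¹ := by
      intro y
      rw [hΦ, MonObj.comp_mul, GrpObj.comp_inv, lift_fst_assoc, lift_snd_assoc, Category.id_comp]
    have hS : _root_.IsConnected ((fst T G0).left ⁻¹' {z}) :=
      Scheme.Hom.isConnected_preimage_singleton (f := pullback.fst T.hom G0.hom) z
    have hmem : ∀ y : T ⟶ G0, (lift (𝟙 T) y).left z ∈ (fst T G0).left ⁻¹' {z} := by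
      intro y
      change (fst T G0).left ((lift (𝟙 T) y).left z) = z
      rw [← Scheme.Hom.comp_apply, ← Over.comp_left, lift_fst]
      rfl
    have hval : ∀ y : T ⟶ G0, Φ.left ((lift (𝟙 T) y).left z) = (a * (y ≫ i)⁻¹).left z := by
      intro y
      rw [← hΦl, Over.comp_left, Scheme.Hom.comp_apply]
    have himg : _root_.IsPreconnected (Φ.left '' ((fst T G0).left ⁻¹' {z})) :=
      hS.isPreconnected.image _ Φ.left.continuous.continuousOn
    have h1 : (Φ.left '' ((fst T G0).left ⁻¹' {z}) ∩ U).Nonempty := by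
      refine ⟨_, ⟨_, hmem 1, rfl⟩, ?_⟩
      rw [hval, MonObj.one_comp, inv_one, _root_.mul_one]
      have : a.left z = u := hz1
      rw [this]
      exact hu
    have h2 := himg.subset_isClopen hU h1
    have h3 := h2 ⟨_, hmem (b ≫ r'), rfl⟩
    rw [hval, Category.assoc, hr'] at h3
    exact h3

/-- Every open and closed subset of a commutative algebraic group meets a finite closed subgroup. -/
theorem exists_finite_meet (G : Over (Spec (CommRingCat.of k))) [GrpObj G] [IsCommMonObj G]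
    [LocallyOfFiniteType G.hom] [QuasiCompact G.hom] (U : Set G.left) (hU : IsClopen U) (hne : U.Nonempty) :
    ∃ (E : Over (Spec (CommRingCat.of k))) (_ : GrpObj E) (e : E ⟶ G), IsMonHom e ∧ IsClosedImmersion e.left ∧
      IsFinite E.hom ∧ (Set.range e.left ∩ U).Nonempty := by
  have hGsep : IsSeparated G.hom := Groth.Agent.Books.AntiAffine.isSeparated_hom G
  obtain ⟨m, hm, hmeet⟩ := exists_torsion_meet G
  obtain ⟨T, c, z, hc, hz⟩ := hmeet U hU hne
  have hmon : IsMonHom ((𝟙 G) ^ m : G ⟶ G) := K719.GrpHom.isMonHom_pow (𝟙 G) _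
  obtain ⟨K, _, κ, hκm, hκ, hκc⟩ := EtConn.exists_kernel ((𝟙 G) ^ m : G ⟶ G)
  have hκmono : Mono κ := mono_ker hκ
  have hKc : IsCommMonObj K := Groth.Agent.Sga3.H830.CommAux.isCommMonObj_of_mono κ
  have hKl : LocallyOfFiniteType K.hom := by rw [← Over.w κ]; infer_instance
  have hKq : QuasiCompact K.hom := by rw [← Over.w κ]; infer_instance
  have hKm : ∀ (T : Over (Spec (CommRingCat.of k))) (g : T ⟶ K), g ^ m = 1 := by
    intro T g
    rw [← cancel_mono κ, MonObj.pow_comp, MonObj.one_comp]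
    have h1 := ker_comp hκ g
    rwa [MonObj.comp_pow, Category.comp_id] at h1
  obtain ⟨y, hy⟩ := exists_lift_ker hκ c (by rw [MonObj.comp_pow, Category.comp_id, hc])
  obtain ⟨Q, _, q, q1, q2, q3, q4, q5, q6, q7⟩ := exists_smooth K
  have hQc : IsCommMonObj Q := comm_of_cover q
  have hQs : IsSeparated Q.hom := Groth.Agent.Books.AntiAffine.isSeparated_hom Q
  have hqe : Epi q := epi_of q
  let V : Q.left.Opens := ⟨q.left '' (κ.left ⁻¹' U), q.left.isOpenMap _ (hU.isOpen.preimage κ.left.continuous)⟩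
  have hV : (V : Set Q.left).Nonempty := by
    refine ⟨_, ⟨y.left z, ?_, rfl⟩⟩
    change κ.left (y.left z) ∈ U
    rw [← Scheme.Hom.comp_apply, ← Over.comp_left, hy]
    exact hz
  obtain ⟨Z, _, i, i1, i2, i3, ⟨_, ⟨z0, rfl⟩, hz0⟩⟩ := exists_of_smooth Q hm (pow_eq_one_of_epi q hKm) V hV
  obtain ⟨u, hu, hu'⟩ := hz0
  have himono : Mono i := Groth.Agent.Books.AlgPtsGrp.mono_of_isClosedImmersion i
  obtain ⟨E, _, e, p, e1, e2, e3⟩ := K397.Pre.exists_preimage q i
  have e4 : IsPullback e.left p.left q.left i.left := e3.map (Over.forget _)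
  have hec : IsClosedImmersion e.left := MorphismProperty.of_isPullback (P := @IsClosedImmersion) e4.flip i2
  have hpf : IsFinite p.left := MorphismProperty.of_isPullback (P := @IsFinite) e4 q6
  refine ⟨E, _, e ≫ κ, inferInstance, ?_, ?_, ?_⟩
  · rw [Over.comp_left]; infer_instance
  · rw [← Over.w p]; infer_instance
  · obtain ⟨t, ht, -⟩ := Scheme.exists_preimage_of_isPullback e4 u z0 hu'
    refine ⟨_, ⟨t, rfl⟩, ?_⟩
    rw [Over.comp_left, Scheme.Hom.comp_apply, ht]
    exact hu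

/-- Two finite subgroups are contained in a finite subgroup. -/
theorem exists_sup (G : Over (Spec (CommRingCat.of k))) [GrpObj G] [IsCommMonObj G]
    [LocallyOfFiniteType G.hom] {E1 E2 : Over (Spec (CommRingCat.of k))} [GrpObj E1] [GrpObj E2]
    (e1 : E1 ⟶ G) (e2 : E2 ⟶ G) [IsMonHom e1] [IsMonHom e2] [IsFinite E1.hom] [IsFinite E2.hom] :
    ∃ (E : Over (Spec (CommRingCat.of k))) (_ : GrpObj E) (e : E ⟶ G), IsMonHom e ∧ IsClosedImmersion e.left ∧
      IsFinite E.hom ∧ Set.range e1.left ⊆ Set.range e.left ∧ Set.range e2.left ⊆ Set.range e.left := by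
  have hGsep : IsSeparated G.hom := Groth.Agent.Books.AntiAffine.isSeparated_hom G
  obtain ⟨u, hu⟩ : ∃ u : E1 ⊗ E2 ⟶ G, u = (fst E1 E2 ≫ e1) * (snd E1 E2 ≫ e2) := ⟨_, rfl⟩
  have hcu : ∀ {T : Over (Spec (CommRingCat.of k))} (g : T ⟶ E1 ⊗ E2),
      g ≫ u = (g ≫ fst E1 E2 ≫ e1) * (g ≫ snd E1 E2 ≫ e2) := by
    intro T g
    rw [hu, MonObj.comp_mul]
  have hum : IsMonHom u := Groth.Agent.Sga3B.Pts.isMonHom_of_points u (fun T x y => by
    rw [hcu, hcu, hcu, MonObj.mul_comp, MonObj.mul_comp]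
    exact mul_mul_mul_comm _ _ _ _)
  have hf : IsFinite (E1 ⊗ E2).hom := by
    rw [Over.tensorObj_hom]; infer_instance
  obtain ⟨C, _, p, c, h1, h2, h3, h4, h5, h6, h7, h8, h9, -⟩ := MulPb.exists_image k (E1 ⊗ E2) G u
  have hfin : Finite (E1 ⊗ E2).left := finite_of_isFinite (E1 ⊗ E2).hom
  have hfin' : Finite C.left := Finite.of_surjective _ h5.surj
  refine ⟨C, _, c, h2, h7, isFinite_of_finite C.hom hfin', ?_, ?_⟩
  · rintro _ ⟨x, rfl⟩
    have h10 : e1 = (lift (𝟙 E1) 1 ≫ p) ≫ c := by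
      rw [Category.assoc, h3, hcu, lift_fst_assoc, lift_snd_assoc, Category.id_comp, MonObj.one_comp, _root_.mul_one]
    rw [h10, Over.comp_left, Scheme.Hom.comp_apply]
    exact ⟨_, rfl⟩
  · rintro _ ⟨x, rfl⟩
    have h10 : e2 = (lift 1 (𝟙 E2) ≫ p) ≫ c := by
      rw [Category.assoc, h3, hcu, lift_fst_assoc, lift_snd_assoc, Category.id_comp, MonObj.one_comp, _root_.one_mul]
    rw [h10, Over.comp_left, Scheme.Hom.comp_apply]
    exact ⟨_, rfl⟩

/-- Finitely many open and closed subsets meet one finite closed subgroup. -/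
theorem exists_finite_meet_all (G : Over (Spec (CommRingCat.of k))) [GrpObj G] [IsCommMonObj G]
    [LocallyOfFiniteType G.hom] [QuasiCompact G.hom] (s : Set (Set G.left)) (hs : s.Finite)
    (h : ∀ U ∈ s, IsClopen U ∧ U.Nonempty) :
    ∃ (E : Over (Spec (CommRingCat.of k))) (_ : GrpObj E) (e : E ⟶ G), IsMonHom e ∧ IsClosedImmersion e.left ∧
      IsFinite E.hom ∧ ∀ U ∈ s, (Set.range e.left ∩ U).Nonempty := by
  induction s, hs using Set.Finite.induction_on with
  | empty =>
    obtain ⟨E, gE, e, h1, h2, h3, -⟩ := exists_finite_meet G Set.univ isClopen_univ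
      ⟨(η[G] : 𝟙_ (Over (Spec (CommRingCat.of k))) ⟶ G).left (IsLocalRing.closedPoint k : PrimeSpectrum k), trivial⟩
    exact ⟨E, gE, e, h1, h2, h3, fun U hU => absurd hU (Set.notMem_empty U)⟩
  | @insert U s hU hs ih =>
    obtain ⟨E1, g1, e1, h1, h2, h3, h4⟩ := ih (fun W hW => h W (Set.mem_insert_of_mem _ hW))
    obtain ⟨E2, g2, e2, h1', h2', h3', h4'⟩ := exists_finite_meet G U (h U (Set.mem_insert _ _)).1
      (h U (Set.mem_insert _ _)).2
    obtain ⟨E, gE, e, k1, k2, k3, k4, k5⟩ := exists_sup G e1 e2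
    refine ⟨E, gE, e, k1, k2, k3, fun W hW => ?_⟩
    rcases Set.mem_insert_iff.mp hW with rfl | hW
    · exact h4'.mono (Set.inter_subset_inter_left _ k5)
    · exact (h4 W hW).mono (Set.inter_subset_inter_left _ k4)

theorem finite_components {T : Type*} [TopologicalSpace T] [NoetherianSpace T] :
    (Set.range (fun x : T => connectedComponent x)).Finite ∧ ∀ x : T, IsClopen (connectedComponent x) := by
  have hf : (irreducibleComponents T).Finite := NoetherianSpace.finite_irreducibleComponents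
  have h1 : (Set.range (fun x : T => connectedComponent x)).Finite := by
    have hf' : Finite (irreducibleComponents T) := hf.to_subtype
    have hne : ∀ Z : irreducibleComponents T, (Z : Set T).Nonempty := fun Z => Z.2.1.nonempty
    refine (Set.finite_range (fun Z : irreducibleComponents T => connectedComponent (hne Z).some)).subset ?_
    rintro _ ⟨x, rfl⟩
    let Z : irreducibleComponents T := ⟨irreducibleComponent x, irreducibleComponent_mem_irreducibleComponents x⟩
    refine ⟨Z, ?_⟩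
    have h1 : (hne Z).some ∈ irreducibleComponent x := (hne Z).some_mem
    have h2 : irreducibleComponent x ⊆ connectedComponent x :=
      irreducibleComponent_subset_connectedComponent
    exact (connectedComponent_eq (h2 h1)).symm
  refine ⟨h1, fun x => ⟨isClosed_connectedComponent, ?_⟩⟩
  have h2 : (connectedComponent x)ᶜ = ⋃ C ∈ (Set.range (fun x : T => connectedComponent x)) \ {connectedComponent x}, C := by
    ext y
    rw [Set.mem_iUnion₂]
    constructor
    · intro hy
      refine ⟨connectedComponent y, ⟨⟨y, rfl⟩, fun h => hy ?_⟩, mem_connectedComponent⟩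
      rw [← Set.mem_singleton_iff.mp h]
      exact mem_connectedComponent
    · rintro ⟨_, ⟨⟨z, rfl⟩, hz⟩, hy⟩ hyx
      apply hz
      rw [Set.mem_singleton_iff]
      change connectedComponent z = connectedComponent x
      rw [connectedComponent_eq hy, connectedComponent_eq hyx]
  rw [← isClosed_compl_iff, h2]
  refine (h1.subset Set.sdiff_subset).isClosed_biUnion ?_
  rintro _ ⟨⟨z, rfl⟩, -⟩
  exact isClosed_connectedComponent

/-- S13381. -/
theorem main (G : Over (Spec (CommRingCat.of k))) [GrpObj G] [IsCommMonObj G] [LocallyOfFiniteType G.hom]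
    [QuasiCompact G.hom] :
    ∃ (E Q : Over (Spec (CommRingCat.of k))) (_ : GrpObj E) (_ : GrpObj Q) (i : E ⟶ G) (q : G ⟶ Q)
      (_ : IsMonHom i) (_ : IsMonHom q),
      Mono i ∧ IsFinite E.hom ∧ AlgGrp.IsKernel i q ∧ Flat q.left ∧ Surjective q.left ∧
        Smooth Q.hom ∧ ConnectedSpace Q.left := by
  have hGn := isLocallyNoetherian_left k G
  have hcs : CompactSpace G.left := (quasiCompact_iff_compactSpace G.hom).mp inferInstance
  have hN0 : IsNoetherian G.left := { }
  have hcf := (finite_components (T := G.left)).1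
  obtain ⟨E, gE, e, h1, h2, h3, h4⟩ := exists_finite_meet_all G (Set.range (fun x : G.left => connectedComponent x)) hcf
    (by
      rintro _ ⟨x, rfl⟩
      exact ⟨finite_components.2 x, x, mem_connectedComponent⟩)
  obtain ⟨Q0, _, q0, q1, q2, q3, q4, q5, q6, q7, q8, -⟩ := QuoKit.exists_quotient k G E e
    (K414.MultExact.isNormalHom_of_comm e)
  have hqc0 : QuasiCompact q0.left := by
    have : QuasiCompact (q0.left ≫ Q0.hom) := by rw [Over.w]; infer_instance
    exact QuasiCompact.of_comp q0.left Q0.hom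
  have hone : ∀ x ∈ Set.range e.left, q0.left x = (η[Q0] : 𝟙_ (Over (Spec (CommRingCat.of k))) ⟶ Q0).left
      (IsLocalRing.closedPoint k : PrimeSpectrum k) := by
    rintro _ ⟨t, rfl⟩
    rw [← Scheme.Hom.comp_apply, ← Over.comp_left, q5.w, Over.comp_left, Scheme.Hom.comp_apply]
    congr 1
    exact Subsingleton.elim (α := PrimeSpectrum k) _ _
  have hconn0 : ConnectedSpace Q0.left := by
    have hmem : ∀ W : Set Q0.left, IsClopen W → W.Nonempty →
        (η[Q0] : 𝟙_ (Over (Spec (CommRingCat.of k))) ⟶ Q0).left (IsLocalRing.closedPoint k : PrimeSpectrum k) ∈ W := by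
      intro W hW hWne
      obtain ⟨w, hw⟩ := hWne
      obtain ⟨x, rfl⟩ := q3.surj w
      have h5 : IsClopen (q0.left ⁻¹' W) := hW.preimage q0.left.continuous
      obtain ⟨t, ht1, ht2⟩ := h4 _ ⟨x, rfl⟩
      have h6 : t ∈ q0.left ⁻¹' W := h5.connectedComponent_subset hw ht2
      rw [← hone t ht1]
      exact h6
    have hpre : PreconnectedSpace Q0.left := by
      rw [preconnectedSpace_iff_clopen]
      intro W hW
      by_contra hne
      rw [not_or] at hne
      have h5 := hmem W hW (Set.nonempty_iff_ne_empty.mpr hne.1)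
      have h6 := hmem Wᶜ hW.compl (Set.nonempty_compl.mpr hne.2)
      exact h6 h5
    exact { toNonempty := ⟨(η[Q0] : 𝟙_ (Over (Spec (CommRingCat.of k))) ⟶ Q0).left
      (IsLocalRing.closedPoint k : PrimeSpectrum k)⟩ }
  have hq0f : IsFinite q0.left := by
    have h5 := (MulPb.isPullback_mul (C := Scheme.{u}) q5 (j := 𝟙 G)).map (Over.forget _)
    have h6 : IsFinite (fst G E).left := inferInstanceAs (IsFinite (pullback.fst G.hom E.hom))
    have := Groth.Agent.S0084.result.{u}
    have h7 : IsPullback (fst G E).left ((𝟙 G ⊗ₘ e) ≫ μ[G]).left (𝟙 G ≫ q0).left q0.left := h5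
    rw [Category.id_comp] at h7
    exact MorphismProperty.of_isPullback_of_descendsAlong (P := @IsFinite) (Q := @Surjective ⊓ @Flat ⊓ @QuasiCompact)
      h7 ⟨⟨q3, q2⟩, hqc0⟩ h6
  obtain ⟨Q, _, r, r1, r2, r3, r4, r5, r6, r7⟩ := exists_smooth Q0
  have hQs : IsSeparated Q.hom := Groth.Agent.Books.AntiAffine.isSeparated_hom Q
  have hm : IsMonHom (q0 ≫ r) := inferInstance
  obtain ⟨N, _, n, n1, n2, n3⟩ := EtConn.exists_kernel (q0 ≫ r)
  have hqf : IsFinite (q0 ≫ r).left := by rw [Over.comp_left]; infer_instance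
  have hN : IsFinite N.hom := by
    have h5 : IsPullback n.left (toUnit N).left (q0 ≫ r).left
      (η[Q] : 𝟙_ (Over (Spec (CommRingCat.of k))) ⟶ Q).left := n2.map (Over.forget _)
    have h6 : IsFinite (toUnit N).left := MorphismProperty.of_isPullback (P := @IsFinite) h5 hqf
    have h7 : (toUnit N).left = N.hom := by simp
    rwa [h7] at h6
  refine ⟨N, Q, _, _, n, q0 ≫ r, n1, hm, mono_ker n2, hN, n2, ?_, ?_, r2, ?_⟩
  · rw [Over.comp_left]; infer_instance
  · rw [Over.comp_left]; infer_instance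
  · exact r3.surj.connectedSpace r.left.continuous

end K404.FinMeet
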