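import Groth.Agent.AlgGrp.K398.Rosen
import Groth.Agent.AlgGrp.K398.AffMax
import Groth.Agent.AlgGrp.K404.AbAff
import Groth.Agent.AlgGrp.K404.QuoKit
import Groth.Agent.AlgGrp.K411.IsogWord
import Groth.Agent.Sga3.H830.CommAux

/-! The centre and the linear part generate a connected group. -/

set_option autoImplicit false
universe u

open CategoryTheory CategoryTheory.Limits MonoidalCategory CartesianMonoidalCategory MonObj GrpObj AlgebraicGeometry

namespace K404.GAnt

open Groth.Agent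

variable (k : Type u) [Field k]

/-- the anti-affine part is central -/
theorem commute {G M Q : Over (Spec (CommRingCat.of k))} [GrpObj G] [GrpObj M] [GrpObj Q]
    [LocallyOfFiniteType G.hom] [QuasiCompact G.hom] [ConnectedSpace G.left] {n : M ⟶ G} {q : G ⟶ Q}
    (hs : K398.Affin.IsAffSeq n q) {T : Over (Spec (CommRingCat.of k))} (x : T ⟶ M) (g : T ⟶ G) :
    (x ≫ n) * g = g * (x ≫ n) := by
  have := hs.homN
  have := hs.anti
  exact QuoKit.commute_of_antiAffine k G M (K398.AntiAff.bijective_of_isIso (G := M) inferInstance) n x g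

theorem centre_mul [IsAlgClosed k]
    (G : Over (Spec (CommRingCat.of k))) [GrpObj G] [Smooth G.hom] [QuasiCompact G.hom] [ConnectedSpace ↥G.left]
    (N : Over (Spec (CommRingCat.of k))) [GrpObj N] (i : N ⟶ G) [IsMonHom i] [IsClosedImmersion i.left]
    [Smooth N.hom] [ConnectedSpace ↥N.left] [IsAffine N.left]
    (hNmax : ∀ (N' : Over (Spec (CommRingCat.of k))) [GrpObj N'] (i' : N' ⟶ G) [IsMonHom i'] [IsClosedImmersion i'.left]
      [Smooth N'.hom] [ConnectedSpace ↥N'.left] [IsAffine N'.left], AlgGrp.IsNormalHom i' → ∃ f : N' ⟶ N, f ≫ i = i')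
    (Z : Over (Spec (CommRingCat.of k))) [GrpObj Z] (j : Z ⟶ G) (hZ : Red.IsCentre j) :
    Surjective ((j ⊗ₘ i) ≫ μ[G]).left ∧ (IsCommMonObj G ↔ IsCommMonObj N) := by
  obtain ⟨A, _, α, hα1, hα2, hα3, hα4, hα5, hα6, hα7⟩ := K398.AffMax.exists_proper_quotient k G N i hNmax
  obtain ⟨M, Q, _, _, n, q, hs⟩ := K398.Affin.exists_affSeq G
  have hs1 := K398.Rosen.surjective_mul i α hα4 hs
  have hn := hs.homN
  have hcomm : ∀ {T : Over (Spec (CommRingCat.of k))} (x : T ⟶ M) (g : T ⟶ G), (x ≫ n) * g = g * (x ≫ n) :=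
    fun x g => commute k hs x g
  have hf : IsMonHom ((i ⊗ₘ n) ≫ μ[G]) := AbAff.isMonHom_mul i n (fun T x y => (hcomm y (x ≫ i)).symm)
  refine ⟨?_, fun hG => ?_, fun hN' => ?_⟩
  · obtain ⟨m, hm⟩ := (hZ.2.2 M n).mpr (fun X' x h => by rw [Category.comp_id]; exact hcomm x h)
    have h2 : lift (snd N M ≫ m) (fst N M) ≫ (j ⊗ₘ i) ≫ μ[G] = (i ⊗ₘ n) ≫ μ[G] := by
      rw [AbAff.lift_mulMap, Category.assoc, hm, hcomm, ← AbAff.lift_mulMap, lift_fst_snd, Category.id_comp]
    have h3 : Surjective ((lift (snd N M ≫ m) (fst N M)).left ≫ ((j ⊗ₘ i) ≫ μ[G]).left) := by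
      rw [← Over.comp_left, h2]
      exact hs1
    exact Surjective.of_comp (lift (snd N M ≫ m) (fst N M)).left ((j ⊗ₘ i) ≫ μ[G]).left
  · have hmi : Mono i := Books.AlgPtsGrp.mono_of_isClosedImmersion i
    exact Sga3.H830.CommAux.isCommMonObj_of_mono i
  · have hM := hs.comm
    have hNM : IsCommMonObj (N ⊗ M) := inferInstance
    exact AlgGrp.K411.IsogWord.isCommMonObj_of_surjective ((i ⊗ₘ n) ≫ μ[G]) hNM

end K404.GAnt
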