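import Groth.Agent.AlgGrp.K404.CobExt
import Groth.Prelude.Def_ActBC
import Groth.Agent.Sga3B.BcIso
import Mathlib.AlgebraicGeometry.SpreadingOut
import Mathlib.AlgebraicGeometry.FunctionField

/-! Generic sections of torsors from triviality over the function field. -/

set_option autoImplicit false
universe u

open CategoryTheory CategoryTheory.Limits MonoidalCategory CartesianMonoidalCategory MonObj GrpObj AlgebraicGeometry

namespace K404.GenSec

open K400.TorsExt Groth.Agent

theorem torProp_of_cobProp {K : Type u} [Field K] {G : Over (Spec (CommRingCat.of K))} [GrpObj G] [IsAffineHom G.hom]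
    (h : CobProp G) : TorProp G := by
  have h1 : IsIso (𝟙 G : G ⟶ G).left := inferInstanceAs (IsIso (𝟙 G.left))
  have hk : AlgGrp.IsKernel (η[G] : 𝟙_ (Over (Spec (CommRingCat.of K))) ⟶ G) (𝟙 G) := by
    have h2 : toUnit (𝟙_ (Over (Spec (CommRingCat.of K)))) = 𝟙 _ := toUnit_unique _ _
    unfold AlgGrp.IsKernel
    rw [h2]
    exact IsPullback.of_vert_isIso ⟨by simp⟩
  have h3 : IsIso (𝟙_ (Over (Spec (CommRingCat.of K)))).hom := inferInstanceAs (IsIso (𝟙 _))
  exact TorProp.ext η[G] (𝟙 G) hk h (TorProp.of_trivial h3)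

theorem exists_section {k : Type u} [Field k] (L : Over (Spec (CommRingCat.of k))) [GrpObj L] [IsAffine L.left]
    {X Y : Scheme.{u}} (qY : Y ⟶ Spec (CommRingCat.of k)) [IsIntegral Y]
    (π : X ⟶ Y) [Surjective π] [LocallyOfFiniteType π]
    (a : AlgGrp.Action (Red.bc qY L) (Over.mk π))
    (htors : IsIso (lift a.act (snd (Red.bc qY L) (Over.mk π))))
    (hcob : ∀ (F : Type u) [Field F] (f : Spec (CommRingCat.of F) ⟶ Spec (CommRingCat.of k)), CobProp (Red.bc f L)) :
    ∃ U : Y.Opens, (U : Set ↥Y).Nonempty ∧ ∃ s : (↑U : Scheme.{u}) ⟶ X, s ≫ π = U.ι := by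
  let η' : Spec (CommRingCat.of Y.functionField) ⟶ Y := Y.fromSpecStalk (genericPoint Y)
  have h1 : CobProp (Red.bc η' (Red.bc qY L)) :=
    (hcob Y.functionField (η' ≫ qY)).of_iso (Sga3B.BcIso.bcCompIso η' qY L).symm
  have ha0 : IsAffineHom (L.hom : L.left ⟶ Spec (CommRingCat.of k)) := inferInstance
  have ha1 : IsAffineHom (Red.bc qY L).hom :=
    MorphismProperty.pullback_snd (P := @IsAffineHom) L.hom qY ha0
  have ha2 : IsAffineHom (Red.bc η' (Red.bc qY L)).hom := by
    change IsAffineHom (pullback.snd (Red.bc qY L).hom η')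
    infer_instance
  have h2 := torProp_of_cobProp h1
  have hne : Nonempty ↥(Red.bc η' (Over.mk π)).left := by
    have : Surjective (Red.bc η' (Over.mk π)).hom := by
      change Surjective (pullback.snd π η')
      infer_instance
    obtain ⟨x, -⟩ := (Red.bc η' (Over.mk π)).hom.surjective (IsLocalRing.closedPoint Y.functionField)
    exact ⟨x⟩
  obtain ⟨s⟩ := h2 (Red.bc η' (Over.mk π)) (a.bc η') hne (NonAbH1.isPseudoTorsorSch_bc η' htors)
  let t : Spec (Y.presheaf.stalk (genericPoint Y)) ⟶ X := s.left ≫ pullback.fst π η'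
  have ht : t ≫ π = Y.fromSpecStalk (genericPoint Y) := by
    have h3 : s.left ≫ pullback.snd π η' = 𝟙 _ := Over.w s
    simp only [t]
    rw [Category.assoc, pullback.condition, reassoc_of% h3]
  obtain ⟨U, hxU, f, -, hf⟩ := spread_out_of_isGermInjective' (𝟙 Y) π t (by rw [ht, Category.comp_id])
  exact ⟨U, ⟨_, hxU⟩, f, by rw [hf, Category.comp_id]⟩

end K404.GenSec
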