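import Groth.Agent.S3028
import Groth.Agent.S3031
import Groth.Agent.S5364
import Groth.Agent.S3972
import Groth.Agent.S8093
import Groth.Agent.Sga3.H827.ImgTorus
import Groth.Agent.Sga3.H830.CommAux
import Groth.Agent.AlgGrp.K402.Comm
import Groth.Agent.AlgGrp.K402.Isog
import Groth.Agent.AlgGrp.K404.QuoKit
import Groth.Agent.AlgGrp.K404.AntLin
import Groth.Agent.AlgGrp.K414.UnipTor
import Groth.Agent.AlgGrp.K398.Pts

/-! The smallest normal connected subgroup with semi-abelian quotient. -/

set_option autoImplicit false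
universe u

open CategoryTheory CategoryTheory.Limits MonoidalCategory CartesianMonoidalCategory MonObj GrpObj AlgebraicGeometry

namespace K404.Gug

open Desc QuoKit MulPb Groth.Agent Groth.Agent.Sga3B.KerGrp

variable {k : Type u} [Field k]

/-- The derived group of a smooth connected group is smooth and connected. -/
theorem smooth_connected_derived (G : Over (Spec (CommRingCat.of k))) [GrpObj G] [Smooth G.hom] [QuasiCompact G.hom]
    [ConnectedSpace ↥G.left]
    (D : Over (Spec (CommRingCat.of k))) [GrpObj D] (d : D ⟶ G) [IsMonHom d] [IsClosedImmersion d.left]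
    (hD : ∀ (T : Over (Spec (CommRingCat.of k))) (g g' : T ⟶ G), ∃ m : T ⟶ D, g * g' * g⁻¹ * g'⁻¹ = m ≫ d)
    (hDmin : ∀ (D' : Over (Spec (CommRingCat.of k))) [GrpObj D'] (d' : D' ⟶ G) [IsMonHom d'] [IsClosedImmersion d'.left],
      AlgGrp.IsNormalHom d' → (∀ (T : Over (Spec (CommRingCat.of k))) (g g' : T ⟶ G), ∃ m : T ⟶ D', g * g' * g⁻¹ * g'⁻¹ = m ≫ d') →
      ∃ f : D ⟶ D', f ≫ d' = d) : Smooth D.hom ∧ ConnectedSpace ↥D.left := by
  have h1 : Smooth (G ⊗ G).hom := by
    have : Smooth (pullback.fst G.hom G.hom ≫ G.hom) := inferInstance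
    exact this
  have h2 : GeometricallyReduced (G ⊗ G).hom := Flat2B.SmoothGeom.geometricallyReduced_of_smooth _
  have h2' : GeometricallyReduced G.hom := Flat2B.SmoothGeom.geometricallyReduced_of_smooth _
  have h3 : ConnectedSpace ↥(G ⊗ G).left := K402.Isog.connectedSpace_tensor G G
  let c : G ⊗ G ⟶ G := (fst G G ≫ 𝟙 G) * (snd G G ≫ 𝟙 G) * (fst G G ≫ 𝟙 G)⁻¹ * (snd G G ≫ 𝟙 G)⁻¹
  have hc : ∀ {T : Over (Spec (CommRingCat.of k))} (g g' : T ⟶ G), lift g g' ≫ c = g * g' * g⁻¹ * g'⁻¹ := by
    intro T g g'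
    simp only [c]
    rw [MonObj.comp_mul, MonObj.comp_mul, MonObj.comp_mul, GrpObj.comp_inv, GrpObj.comp_inv, ← Category.assoc,
      ← Category.assoc, lift_fst, lift_snd, Category.comp_id, Category.comp_id]
  obtain ⟨Γ, _, i, hi, hic, ⟨f', hf'⟩, hΓ, hmin⟩ := Groth.Agent.S3028.result k G (G ⊗ G) c
  have hΓl : LocallyOfFiniteType Γ.hom := by rw [← Over.w i]; infer_instance
  have hΓc : ConnectedSpace Γ.left := by
    refine Groth.Agent.S3031.result k G (G ⊗ G) (lift 1 1) c ?_ Γ i ⟨f', hf'⟩ hmin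
    rw [hc]
    simp only [_root_.mul_one, inv_one]
    rfl
  have hid : AlgGrp.IsNormalHom (𝟙 G) := fun T g n => ⟨g * (n ≫ 𝟙 G) * g⁻¹, by rw [Category.comp_id (g * (n ≫ 𝟙 G) * g⁻¹)]⟩
  have hidc : IsClosedImmersion (𝟙 G : G ⟶ G).left := inferInstanceAs (IsClosedImmersion (𝟙 G.left))
  have hΓn : AlgGrp.IsNormalHom i := Groth.Agent.S5364.result k G G G (𝟙 G) (𝟙 G) hid hid Γ i ⟨f', hf'⟩ hmin
  have hΓs : Smooth Γ.hom := by
    have : GrpObj (Over.mk Γ.hom) := (inferInstance : GrpObj Γ)
    exact smooth_of_grpObj Γ.hom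
  have hmi : Mono i := Books.AlgPtsGrp.mono_of_isClosedImmersion i
  have hmd : Mono d := Books.AlgPtsGrp.mono_of_isClosedImmersion d
  obtain ⟨a, ha⟩ := hDmin Γ i hΓn (fun T g g' => ⟨lift g g' ≫ f', by rw [Category.assoc, hf', hc]⟩)
  obtain ⟨b, hb⟩ := hmin D inferInstance d inferInstance inferInstance (by
    obtain ⟨m, hm⟩ := hD (G ⊗ G) (fst G G) (snd G G)
    exact ⟨m, by rw [← hm, ← hc, lift_fst_snd, Category.id_comp]⟩)
  have e1 : a ≫ b = 𝟙 _ := by rw [← cancel_mono d, Category.assoc, hb, ha, Category.id_comp]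
  have e2 : b ≫ a = 𝟙 _ := by rw [← cancel_mono i, Category.assoc, ha, hb, Category.id_comp]
  have hai : IsIso a := ⟨b, e1, e2⟩
  have hal : IsIso a.left := inferInstanceAs (IsIso ((Over.forget _).map a))
  constructor
  · rw [← Over.w a]
    infer_instance
  · have hbi : IsIso b := ⟨a, e2, e1⟩
    have hbl : IsIso b.left := inferInstanceAs (IsIso ((Over.forget _).map b))
    exact b.left.surjective.connectedSpace b.left.continuous

/-- Homomorphisms from a geometrically unipotent smooth connected group to a torus are trivial. -/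
theorem hom_unip_torus (U T : Over (Spec (CommRingCat.of k))) [GrpObj U] [GrpObj T] [Smooth U.hom] [IsAffine U.left]
    [ConnectedSpace ↥U.left] (hU : K414.Unip.IsUnip U) (hT : Red.IsTorus T) (f : U ⟶ T) [IsMonHom f] : f = 1 := by
  have hTs : Smooth T.hom := K402.Tori.smooth hT
  have hTa : IsAffine T.left := K402.Tori.isAffine hT
  have hUq : QuasiCompact U.hom := quasiCompact_of_compactSpace U.hom
  obtain ⟨C, _, p, c, h1, h2, h3, h4, h5, h6, h7⟩ := K398.Pts.exists_image f
  have hCa : IsAffine C.left := isAffine_of_isAffineHom c.left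
  have hCu : K414.Unip.IsUnip C := K414.Unip.isUnip_of_surjective hU p
  have hCm : SGA3x.IsMultTypeFT C := K543.MultSub.isMultTypeFT_of_closed
    (K543.MultSub.isMultTypeFT_of_isTorus hT) c
  have h8 : (𝟙 C : C ⟶ C) = 1 := K414.Unip.hom_eq_one hCm hCu (𝟙 C)
  rw [← h3, ← Category.comp_id p, h8, MonObj.comp_one, MonObj.one_comp]

/-- Quotients of commutative groups are commutative. -/
theorem isCommMonObj_of_quotient {G Q : Over (Spec (CommRingCat.of k))} [GrpObj G] [IsCommMonObj G] [GrpObj Q]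
    (q : G ⟶ Q) [IsMonHom q] [Flat q.left] [Surjective q.left] [QuasiCompact q.left] : IsCommMonObj Q := by
  have h1 : Flat (q ⊗ₘ q).left := tensorHom_left_of (@Flat) q q inferInstance inferInstance
  have hcomp : MorphismProperty.IsStableUnderComposition @Surjective.{u} :=
    (inferInstance : MorphismProperty.IsMultiplicative @Surjective.{u}).toIsStableUnderComposition
  have h2 : Surjective (q ⊗ₘ q).left := tensorHom_left_of (@Surjective) q q inferInstance inferInstance
  have h3 : QuasiCompact (q ⊗ₘ q).left := tensorHom_left_of (@QuasiCompact) q q inferInstance inferInstance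
  have h4 : Epi (q ⊗ₘ q) := by
    have : Epi (q ⊗ₘ q).left := Flat.epi_of_flat_of_surjective _
    exact Over.epi_of_epi_left _
  refine K402.Comm.isCommMonObj_of_points Q (fun T a b => ?_)
  have key : fst Q Q * snd Q Q = snd Q Q * fst Q Q := by
    rw [← cancel_epi (q ⊗ₘ q), MonObj.comp_mul, MonObj.comp_mul, tensorHom_fst, tensorHom_snd, ← MonObj.mul_comp,
      ← MonObj.mul_comp, mul_comm]
  have h6 := congrArg (lift a b ≫ ·) key
  simpa only [MonObj.comp_mul, lift_fst, lift_snd] using h6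

/-- Commutative quotients of `G` which kill the unipotent radical of the affine part are semi-abelian. -/
theorem semiAb_of_comm [PerfectField k]
    {G : Over (Spec (CommRingCat.of k))} [GrpObj G] [Smooth G.hom] [QuasiCompact G.hom] [ConnectedSpace ↥G.left]
    {N : Over (Spec (CommRingCat.of k))} [GrpObj N] (i : N ⟶ G) [IsMonHom i] [IsClosedImmersion i.left]
    [Smooth N.hom] [IsAffine N.left] [ConnectedSpace ↥N.left]
    {A : Over (Spec (CommRingCat.of k))} [GrpObj A] (q : G ⟶ A) [IsMonHom q] [Surjective q.left] [Flat q.left]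
    [IsProper A.hom] (hq : AlgGrp.IsKernel i q)
    {R : Over (Spec (CommRingCat.of k))} [GrpObj R] (u : R ⟶ N) (hR : Par.IsUnipotentRadical u)
    {B : Over (Spec (CommRingCat.of k))} [GrpObj B] [IsCommMonObj B] [Smooth B.hom] [QuasiCompact B.hom]
    (β : G ⟶ B) [IsMonHom β] [Surjective β.left] [Flat β.left] (hβ : u ≫ i ≫ β = 1) : K402.SemiAb.SemiAb B := by
  have hR' := hR
  obtain ⟨hu1, hu2, hu3, hu4, hu5, hu6, -⟩ := hR'
  have hNq : QuasiCompact N.hom := quasiCompact_of_compactSpace N.hom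
  have hBsep : IsSeparated B.hom := Books.AntiAffine.isSeparated_hom B
  have hBc : ConnectedSpace B.left := K402.Quo.connected_of_surjective β
  obtain ⟨L, _, p, l, r1, r2, r3, r4, r5, r6, r7, r8, r9, r10, r11, r12, r13⟩ := exists_image k N B (i ≫ β)
  have hLs : Smooth L.hom := K402.Quo.smooth_of_quotient p
  have hLc := r12 inferInstance
  have hLa := r13 inferInstance
  have hLm : Mono l := Books.AlgPtsGrp.mono_of_isClosedImmersion l
  have hLcomm : ∀ (X : Over (Spec (CommRingCat.of k))) (a b : X ⟶ L), a * b = b * a := by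
    intro X a b
    rw [← cancel_mono l, MonObj.mul_comp, MonObj.mul_comp, mul_comm]
  obtain ⟨Nb, _, n, b1, b2, b3, b4, b5, b6, b7, b8, b9, b10, b11, b12⟩ := exists_quotient k N R u hu3
  have hNbs := b9 inferInstance
  have hNr : Red.IsReductive Nb := Groth.Agent.S8093.result k N R u hR Nb n b5
  have hqn : QuasiCompact n.left := K398.Pts.quasiCompact_left n
  obtain ⟨ψ, hψ1, hψ2⟩ := exists_desc_hom u n b5 p (by
    rw [← cancel_mono l, Category.assoc, r3, hβ, MonObj.one_comp])
  obtain ⟨C, _, f₀, -, -, -, c1, c2, c3, c4, -, -, -, -, -, c5, -⟩ := Groth.Agent.S3972.result Nb hNr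
  obtain ⟨f', hf', -⟩ := c5 L ψ hLcomm
  have hCq := K402.Tori.quasiCompact c2
  have hCs := K402.Tori.smooth c2
  have hf0q : QuasiCompact f₀.left := K398.Pts.quasiCompact_left f₀
  have hf0e : EffectiveEpi f₀.left := inferInstance
  have hf0 : Epi f₀ := epi_of f₀
  have hf'm : IsMonHom f' := by
    have h4 : Epi (f₀ ⊗ₘ f₀) := by
      have hcomp : MorphismProperty.IsStableUnderComposition @Surjective.{u} :=
        (inferInstance : MorphismProperty.IsMultiplicative @Surjective.{u}).toIsStableUnderComposition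
      have h1 : Flat (f₀ ⊗ₘ f₀).left := tensorHom_left_of (@Flat) f₀ f₀ inferInstance inferInstance
      have h2 : Surjective (f₀ ⊗ₘ f₀).left := tensorHom_left_of (@Surjective) f₀ f₀ c4 c4
      have h3 : QuasiCompact (f₀ ⊗ₘ f₀).left := tensorHom_left_of (@QuasiCompact) f₀ f₀ hf0q hf0q
      have : Epi (f₀ ⊗ₘ f₀).left := Flat.epi_of_flat_of_surjective _
      exact Over.epi_of_epi_left _
    refine ⟨?_, ?_⟩
    · rw [← IsMonHom.one_hom f₀, Category.assoc, hf', IsMonHom.one_hom]
    · rw [← cancel_epi (f₀ ⊗ₘ f₀), ← Category.assoc, ← IsMonHom.mul_hom f₀, Category.assoc, hf',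
        IsMonHom.mul_hom, ← Category.assoc, tensorHom_comp_tensorHom, hf']
  have hf's : Surjective f'.left := by
    have h5 : Surjective ((n ≫ f₀) ≫ f').left := by
      rw [Category.assoc, hf', hψ2]; infer_instance
    rw [Over.comp_left] at h5
    exact Surjective.of_comp (n ≫ f₀).left f'.left
  have hLred : IsReduced L.left := Etcore.SmoothRed.isReduced_of_smooth L.hom
  have hf'f : Flat f'.left := K398.Pts.flat_of_surjective f'
  have hLT : Red.IsTorus L := Sga3.H827.ImgTorus.isTorus_of_factor f' c2 f' (𝟙 L) (Category.comp_id _)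
  have hLn : AlgGrp.IsNormalHom l := fun T g n => ⟨n, by rw [mul_comm g, mul_inv_cancel_right]⟩
  obtain ⟨A', _, a, e1, e2, e3, e4, e5, e6, e7, e8, e9, e10, e11, e12⟩ := exists_quotient k B L l hLn
  have hA's := e9 inferInstance
  have hA'c := e11 inferInstance
  have hqq : QuasiCompact q.left := K398.Pts.quasiCompact_left q
  obtain ⟨χ, hχ1, hχ2⟩ := exists_desc_hom i q hq (β ≫ a) (by
    rw [← Category.assoc, ← r3, Category.assoc, ker_eq_one e5, MonObj.comp_one])
  have hχs : Surjective χ.left := by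
    have h5 : Surjective (q ≫ χ).left := by
      rw [hχ2, Over.comp_left]; infer_instance
    rw [Over.comp_left] at h5
    exact Surjective.of_comp q.left χ.left
  have hA'p : IsProper A'.hom := K398.Pts.isProper_of_surjective χ
  exact ⟨L, inferInstance, l, A', inferInstance, a, r2, r7, hLT, e1, e3, e2, e5, hA'p, hA's, hA'c⟩

/-- The main construction: a smooth connected normal subgroup with underlying set `R_u(N) [G, G]` and semi-abelian
quotient. -/
theorem exists_subgroup [PerfectField k]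
    (G : Over (Spec (CommRingCat.of k))) [GrpObj G] [Smooth G.hom] [QuasiCompact G.hom] [ConnectedSpace ↥G.left]
    (N : Over (Spec (CommRingCat.of k))) [GrpObj N] (i : N ⟶ G) [IsMonHom i] [IsClosedImmersion i.left]
    [Smooth N.hom] [IsAffine N.left] [ConnectedSpace ↥N.left]
    (A : Over (Spec (CommRingCat.of k))) [GrpObj A] (q : G ⟶ A) [IsMonHom q] [Surjective q.left] [Flat q.left]
    [IsProper A.hom] [Smooth A.hom] [ConnectedSpace ↥A.left] (hq : AlgGrp.IsKernel i q)
    (R : Over (Spec (CommRingCat.of k))) [GrpObj R] (u : R ⟶ N) (hR : Par.IsUnipotentRadical u) [ConnectedSpace ↥R.left]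
    (D : Over (Spec (CommRingCat.of k))) [GrpObj D] (d : D ⟶ G) [IsMonHom d] [IsClosedImmersion d.left]
    (hDn : AlgGrp.IsNormalHom d) [Smooth D.hom] [ConnectedSpace ↥D.left]
    (hD : ∀ (T : Over (Spec (CommRingCat.of k))) (g g' : T ⟶ G), ∃ m : T ⟶ D, g * g' * g⁻¹ * g'⁻¹ = m ≫ d) :
    ∃ (E B : Over (Spec (CommRingCat.of k))) (_ : GrpObj E) (_ : GrpObj B) (e : E ⟶ G) (β : G ⟶ B), IsMonHom e ∧
      IsClosedImmersion e.left ∧ AlgGrp.IsNormalHom e ∧ Smooth E.hom ∧ ConnectedSpace ↥E.left ∧ IsMonHom β ∧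
      Flat β.left ∧ Surjective β.left ∧ AlgGrp.IsKernel e β ∧ K402.SemiAb.SemiAb B ∧
      Set.range ⇑e.left = Set.range ⇑(((u ≫ i) ⊗ₘ d) ≫ μ[G]).left := by
  have hR' := hR
  obtain ⟨hu1, hu2, hu3, hu4, hu5, hu6, -⟩ := hR
  have hmi : Mono i := Books.AlgPtsGrp.mono_of_isClosedImmersion i
  -- `G₁ = G / D`
  obtain ⟨G₁, _, π, p1, p2, p3, p4, p5, p6, p7, p8, p9, p10, p11, -⟩ := exists_quotient k G D d hDn
  have hG₁s := p9 inferInstance
  have hG₁c := p11 inferInstance
  have hG₁comm : IsCommMonObj G₁ := by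
    have hqc : QuasiCompact π.left := K398.Pts.quasiCompact_left π
    have h1 : Flat (π ⊗ₘ π).left := tensorHom_left_of (@Flat) π π p2 p2
    have hcomp : MorphismProperty.IsStableUnderComposition @Surjective.{u} :=
      (inferInstance : MorphismProperty.IsMultiplicative @Surjective.{u}).toIsStableUnderComposition
    have h2 : Surjective (π ⊗ₘ π).left := tensorHom_left_of (@Surjective) π π p3 p3
    have h3 : QuasiCompact (π ⊗ₘ π).left := tensorHom_left_of (@QuasiCompact) π π hqc hqc
    have h4 : Epi (π ⊗ₘ π) := by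
      have : Epi (π ⊗ₘ π).left := Flat.epi_of_flat_of_surjective _
      exact Over.epi_of_epi_left _
    refine K402.Comm.isCommMonObj_of_points G₁ (fun T a b => ?_)
    have key : fst G₁ G₁ * snd G₁ G₁ = snd G₁ G₁ * fst G₁ G₁ := by
      rw [← cancel_epi (π ⊗ₘ π), MonObj.comp_mul, MonObj.comp_mul, tensorHom_fst, tensorHom_snd, ← MonObj.mul_comp,
        ← MonObj.mul_comp]
      obtain ⟨m, hm⟩ := hD _ (fst G G) (snd G G)
      have h5 := congrArg (· ≫ π) hm
      beta_reduce at h5
      rw [Category.assoc, ker_eq_one p5, MonObj.comp_one, MonObj.mul_comp, MonObj.mul_comp, GrpObj.inv_comp,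
        GrpObj.inv_comp, mul_inv_eq_one, mul_inv_eq_iff_eq_mul, MonObj.mul_comp] at h5
      rw [MonObj.mul_comp, MonObj.mul_comp, h5]
    have h6 := congrArg (lift a b ≫ ·) key
    simpa only [MonObj.comp_mul, lift_fst, lift_snd] using h6
  have hRa : IsAffine R.left := isAffine_of_isAffineHom u.left
  obtain ⟨R₁, _, p, ρ, r1, r2, r3, r4, r5, r6, r7, r8, r9, r10, r11, r12, r13⟩ := exists_image k R G₁ (u ≫ i ≫ π)
  have hR₁s : Smooth R₁.hom := K402.Quo.smooth_of_quotient p
  have hR₁c := r12 inferInstance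
  have hmρ : Mono ρ := Books.AlgPtsGrp.mono_of_isClosedImmersion ρ
  have hRn : AlgGrp.IsNormalHom ρ := fun T g n => ⟨n, by rw [mul_comm g, mul_inv_cancel_right]⟩
  obtain ⟨B, _, β₁, b1, b2, b3, b4, b5, b6, b7, b8, b9, b10, b11, b12⟩ := exists_quotient k G₁ R₁ ρ hRn
  have hBs := b9 inferInstance
  have hBc := b11 inferInstance
  have hBcomm : IsCommMonObj B := by
    have hq1 : QuasiCompact β₁.left := K398.Pts.quasiCompact_left β₁
    exact isCommMonObj_of_quotient β₁
  obtain ⟨β, hβ⟩ : ∃ β : G ⟶ B, β = π ≫ β₁ := ⟨_, rfl⟩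
  have hβm : IsMonHom β := by rw [hβ]; infer_instance
  have hβf : Flat β.left := by rw [hβ, Over.comp_left]; infer_instance
  have hβs : Surjective β.left := by rw [hβ, Over.comp_left]; infer_instance
  obtain ⟨_, he⟩ := exists_grpObj β
  have hE : AlgGrp.IsKernel (kerι β) β := isPullback_ker β
  have hen : AlgGrp.IsNormalHom (kerι β) := Sga3.H821.AffProper.isNormalHom_of_isKernel k _ β hE
  obtain ⟨w, hw⟩ := exists_lift_ker b5 (kerι β ≫ π) (by rw [Category.assoc, ← hβ, ker_eq_one hE])
  have hsq : IsPullback (kerι β) w π ρ := by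
    refine Isotriv.isPullback_of_points hw.symm (fun T x y hxy => ?_) (fun T e e' h1 h2 => ?_)
    · obtain ⟨z, hz⟩ := exists_lift_ker hE x (by
        rw [hβ, ← Category.assoc, hxy, Category.assoc, ker_eq_one b5, MonObj.comp_one])
      refine ⟨z, hz, ?_⟩
      rw [← cancel_mono ρ, Category.assoc, hw, ← Category.assoc, hz, hxy]
    · rwa [cancel_mono] at h1
  have hπs : Smooth π.left := (Sga3.H821.ExtConn.smooth_connected d π p5).1
  have hws : Smooth w.left := MorphismProperty.of_isPullback (P := @Smooth) (hsq.map (Over.forget _)) hπs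
  have hEs : Smooth (kerObj β).hom := by
    have : Smooth (w.left ≫ R₁.hom) := inferInstance
    rwa [Over.w] at this
  have hmul := isPullback_mul (C := Scheme.{u}) p5 (j := u ≫ i)
  obtain ⟨t, ht⟩ := exists_lift_ker hE (((u ≫ i) ⊗ₘ d) ≫ μ[G]) (by
    rw [hβ, ← Category.assoc, ← hmul.w, Category.assoc u i π, ← r3, Category.assoc, Category.assoc, ker_eq_one b5,
      MonObj.comp_one, MonObj.comp_one])
  have htp : IsPullback t (fst R D) w p := by
    refine IsPullback.of_right (h₁₂ := kerι β) (v₁₃ := π) (h₂₂ := ρ) ?_ ?_ hsq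
    · rw [ht, r3, ← Category.assoc]
      exact hmul.flip
    · rw [← cancel_mono ρ, Category.assoc, hw, ← Category.assoc, ht, ← hmul.w, Category.assoc (fst R D) p ρ, r3,
        Category.assoc u i π]
  have hts : Surjective t.left := MorphismProperty.of_isPullback (P := @Surjective) (htp.map (Over.forget _)).flip r5
  have hRD : ConnectedSpace ↥(R ⊗ D).left := K402.Isog.connectedSpace_tensor R D
  have hEc : ConnectedSpace ↥(kerObj β).left := t.left.surjective.connectedSpace t.left.continuous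
  refine ⟨kerObj β, B, inferInstance, inferInstance, kerι β, β, he, inferInstance, hen, hEs, hEc, hβm, hβf, hβs, hE,
    ?_, ?_⟩
  · refine semiAb_of_comm i q hq u hR' β ?_
    rw [hβ, ← Category.assoc i, ← Category.assoc u, ← r3, Category.assoc, ker_eq_one b5, MonObj.comp_one]
  · rw [← ht, Over.comp_left, Scheme.Hom.comp_base, TopCat.coe_comp, Set.range_comp, t.left.surjective.range_eq,
      Set.image_univ]

end K404.Gug
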