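import Groth.Agent.AGF.K494.RadSch
import Groth.Agent.AGF.K494.RadRed
import Groth.Agent.AlgGrp.K404.Desc
import Groth.Agent.AlgGrp.K404.AbAff

/-! The unipotent radical over a perfect field; factoring through a subgroup after a covering. -/

set_option autoImplicit false
universe u

open CategoryTheory CategoryTheory.Limits MonoidalCategory CartesianMonoidalCategory MonObj GrpObj AlgebraicGeometry
open Groth.Agent.Sga3B.RG.BrPts Groth.Agent.Sga3B.RootBridge989 Groth.Agent.Sga3B.RG.BcPt
open Groth.Agent.Agf.H604.SemiDesc Groth.Agent.Agf.H604.BcSub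
open K494.BcDict K494.RadPt K494.RadSch
open TensorProduct

namespace K404.URad

/-- Existence of the unipotent radical of a smooth connected affine group over a perfect field. -/
theorem exists_isUnipotentRadical (k : Type u) [Field k] [PerfectField k]
    (G : Over (Spec (CommRingCat.of k))) [GrpObj G] [IsAffine G.left] [Smooth G.hom] [ConnectedSpace G.left] :
    ∃ (U : Over (Spec (CommRingCat.of k))) (_ : GrpObj U) (u : U ⟶ G), Par.IsUnipotentRadical u := by
  obtain ⟨A, _, _, e, he, hft⟩ := K494.RadRed.exists_hopf_ft k G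
  have hne' : Nonempty ↥(Spec (CommRingCat.of k)) := inferInstanceAs (Nonempty (PrimeSpectrum k))
  obtain ⟨s⟩ := hne'
  have hred : _root_.IsReduced (Groth.Agent.Agf.H612.GalMain.Om k s ⊗[k] A) := isReduced_tensor e
  obtain ⟨N, hN⟩ := exists_isURad (Groth.Agent.Agf.H612.GalMain.Om k s) (Groth.Agent.Agf.H612.GalMain.Om k s ⊗[k] A)
  obtain ⟨R', _, r', hr', hcl', hsm', hpts⟩ := exists_sub e hN.isCl hN.gal_mem
  have hconn' : ConnectedSpace R'.left :=
    K494.BcDict.connectedSpace_of_isConn e r' hcl' (by rw [hpts]; exact hN.isConn)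
  have haff : IsAffine R'.left := isAffine_of_isAffineHom r'.left
  have hsub : Subsingleton (Spec (CommRingCat.of k)) := inferInstanceAs (Subsingleton (PrimeSpectrum k))
  refine ⟨R', inferInstance, r', hr', hcl', (isNormalHom_iff e r' hcl').2 (by rw [hpts]; exact hN.normal), hsm',
    inferInstance, fun s' => ?_, ?_⟩
  · obtain rfl : s' = s := hsub.elim _ _
    refine ⟨Groth.Agent.Agf.H614.FieldGlue.connectedSpace_bc R' (Red.geomPt s'), ?_⟩
    exact (K494.RadSch.hasNoSubtorus_iff e s' r' hcl').2 (by rw [hpts]; exact hN.isUnip)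
  · intro U' _ u' _ hcl hn hs hq hfib
    have hconn : ConnectedSpace U'.left := by
      have h4 : Surjective (Red.geomPt s) := Groth.Agent.Agf.H614.FieldGlue.surjective_geomPt s
      have h5 : Surjective (Limits.pullback.fst U'.hom (Red.geomPt s)) := inferInstance
      have h6 : ConnectedSpace ↥(Limits.pullback U'.hom (Red.geomPt s)) := (hfib s).1
      exact h5.surj.connectedSpace (Limits.pullback.fst U'.hom (Red.geomPt s)).continuous
    refine K494.BcDict.exists_factor (K := Groth.Agent.Agf.H612.GalMain.Om k s) e u' r' hcl' ?_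
    rw [hpts]
    exact hN.le _ ((isNormalHom_iff e u' hcl).1 hn) (isCl_gmPts e u' hcl) (isConn_gmPts e u' hcl)
      ((K494.RadSch.hasNoSubtorus_iff e s u' hcl).1 (hfib s).2)

/-- A morphism factors through a monomorphism if it does so after a covering. -/
theorem exists_factor_of_cover {S : Scheme.{u}} {X' X G K : Over S} (c : X' ⟶ X) [EffectiveEpi c.left] (x : X ⟶ G)
    (d : K ⟶ G) [Mono d] (y : X' ⟶ K) (h : c ≫ x = y ≫ d) : ∃ z : X ⟶ K, z ≫ d = x := by
  obtain ⟨z, hz⟩ := Desc.exists_desc c y (fun T a b hab => by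
    rw [← cancel_mono d, Category.assoc, Category.assoc, ← h, ← Category.assoc, hab, Category.assoc])
  have := Desc.epi_of c
  exact ⟨z, by rw [← cancel_epi c, ← Category.assoc, hz, h]⟩

end K404.URad
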