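import Groth.Agent.AlgGrp.K404.Gug
import Groth.Agent.AlgGrp.K404.URad
import Groth.Agent.S8092
import Groth.Agent.S6096
import Groth.Agent.S7997
import Groth.Agent.S4147
import Groth.Agent.RedSub.K197.Rad
import Groth.Agent.Sga3.H828.TorMain
import Groth.Agent.Sga3.H799.Bc
import Groth.Agent.SGA3x.K14.RedCentreField
import Groth.Agent.AGF.K493.CentTor

/-! Maximal tori of the radical and the coradical of a smooth connected affine group over a perfect field. -/

set_option autoImplicit false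
universe u

open CategoryTheory CategoryTheory.Limits MonoidalCategory CartesianMonoidalCategory MonObj GrpObj AlgebraicGeometry

namespace K404.Gug2

open _root_.K404.Desc QuoKit MulPb Groth.Agent Groth.Agent.Sga3B.KerGrp AbAff

/-- Homomorphisms from a semisimple group to a commutative group are trivial. -/
theorem hom_eq_one_of_isSemisimple {S : Scheme.{u}} {G A : Over S} [GrpObj G] [GrpObj A] (hG : Red.IsSemisimple G)
    (f : G ⟶ A) [IsMonHom f] (hA : ∀ (X : Over S) (a b : X ⟶ A), a * b = b * a) : f = 1 := by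
  obtain ⟨C, _, f₀, D, _, d, -, -, -, -, -, -, -, -, hk, -, hi⟩ :=
    Groth.Agent.S3972.result G ⟨hG.1, hG.2.1, fun s => (hG.2.2 s).1⟩
  have h1 := hk A f hA
  have h2 := hi hG
  rw [← Category.id_comp f, ← IsIso.inv_hom_id d, Category.assoc, h1, MonObj.comp_one]

section field

variable {k : Type u} [Field k]

/-- The image of a normal subgroup under a quotient map is normal. -/
theorem isNormalHom_image {G Q N C : Over (Spec (CommRingCat.of k))} [GrpObj G] [GrpObj Q] [GrpObj N] [GrpObj C]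
    (q : G ⟶ Q) [IsMonHom q] [Flat q.left] [Surjective q.left] [QuasiCompact q.left] (i : N ⟶ G)
    (hn : AlgGrp.IsNormalHom i) (p : N ⟶ C) [Flat p.left] [Surjective p.left] [QuasiCompact p.left]
    (c : C ⟶ Q) [Mono c] (h : p ≫ c = i ≫ q) : AlgGrp.IsNormalHom c := by
  have h1 : Flat (q ⊗ₘ p).left := tensorHom_left_of (@Flat) q p inferInstance inferInstance
  have hcomp : MorphismProperty.IsStableUnderComposition @Surjective.{u} :=
    (inferInstance : MorphismProperty.IsMultiplicative @Surjective.{u}).toIsStableUnderComposition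
  have h2 : Surjective (q ⊗ₘ p).left := tensorHom_left_of (@Surjective) q p inferInstance inferInstance
  have h3 : QuasiCompact (q ⊗ₘ p).left := tensorHom_left_of (@QuasiCompact) q p inferInstance inferInstance
  obtain ⟨y, hy⟩ := hn _ (fst G N) (snd G N)
  obtain ⟨z, hz⟩ := URad.exists_factor_of_cover (q ⊗ₘ p) (fst Q C * (snd Q C ≫ c) * (fst Q C)⁻¹) c (y ≫ p) (by
    rw [Category.assoc, h, ← Category.assoc, ← hy, MonObj.comp_mul, MonObj.comp_mul, GrpObj.comp_inv,
      MonObj.mul_comp, MonObj.mul_comp, GrpObj.inv_comp, ← Category.assoc, tensorHom_fst, tensorHom_snd,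
      Category.assoc, h, Category.assoc])
  intro T g x
  refine ⟨lift g x ≫ z, ?_⟩
  rw [Category.assoc, hz, MonObj.comp_mul, MonObj.comp_mul, GrpObj.comp_inv, lift_fst, lift_snd_assoc]

/-- Kernels of homomorphisms from the affine part to commutative groups contain all the commutators. -/
theorem exists_commutator
    {G : Over (Spec (CommRingCat.of k))} [GrpObj G] [Smooth G.hom] [QuasiCompact G.hom] [ConnectedSpace ↥G.left]
    {N : Over (Spec (CommRingCat.of k))} [GrpObj N] (i : N ⟶ G) [IsMonHom i]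
    {A : Over (Spec (CommRingCat.of k))} [GrpObj A] (q : G ⟶ A) [IsMonHom q] [Surjective q.left] [Flat q.left]
    [IsProper A.hom] [Smooth A.hom] [ConnectedSpace ↥A.left] (hq : AlgGrp.IsKernel i q)
    {C K : Over (Spec (CommRingCat.of k))} [GrpObj C] (φ : N ⟶ C) [IsMonHom φ]
    (hC : ∀ (X : Over (Spec (CommRingCat.of k))) (a b : X ⟶ C), a * b = b * a) (κ : K ⟶ N) (hκ : AlgGrp.IsKernel κ φ)
    (T : Over (Spec (CommRingCat.of k))) (g g' : T ⟶ G) : ∃ m : T ⟶ K, g * g' * g⁻¹ * g'⁻¹ = m ≫ κ ≫ i := by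
  have hmi : Mono i := mono_ker hq
  have hmκ : Mono κ := mono_ker hκ
  obtain ⟨M, H', _, _, m, ρ, a1, a2, a3, a4, a5, a6, a7, a8, hM, a10, a11⟩ := exists_hull k G
  have hgi : GeometricallyIntegral A.hom := GeoInt.geometricallyIntegral A
  have hcomm : IsCommMonObj A := isCommMonObj_of_isProper_of_geometricallyIntegral A
  have hs : Surjective (m ≫ q).left := AntLin.surjective_of_hull k m ρ a6 q
  have hMq : QuasiCompact M.hom := by rw [← Over.w m]; infer_instance
  have hqc : QuasiCompact (m ≫ q).left := K398.Pts.quasiCompact_left (m ≫ q)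
  have hAr : IsReduced A.left := Etcore.SmoothRed.isReduced_of_smooth A.hom
  have hf : Flat (m ≫ q).left := K398.Pts.flat_of_surjective (m ≫ q)
  have hpb := (isPullback_mul (C := Scheme.{u}) hq (j := m)).map (Over.forget _)
  have h1 : Flat ((m ⊗ₘ i) ≫ μ[G]).left := MorphismProperty.of_isPullback (P := @Flat) hpb hf
  have h2 : Surjective ((m ⊗ₘ i) ≫ μ[G]).left := MorphismProperty.of_isPullback (P := @Surjective) hpb hs
  have h3 : QuasiCompact ((m ⊗ₘ i) ≫ μ[G]).left := MorphismProperty.of_isPullback (P := @QuasiCompact) hpb hqc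
  obtain ⟨c, hc⟩ : ∃ c, c = (m ⊗ₘ i) ≫ μ[G] := ⟨_, rfl⟩
  rw [← hc] at h1 h2 h3
  have h4 : Flat (c ⊗ₘ c).left := tensorHom_left_of (@Flat) c c h1 h1
  have hcomp : MorphismProperty.IsStableUnderComposition @Surjective.{u} :=
    (inferInstance : MorphismProperty.IsMultiplicative @Surjective.{u}).toIsStableUnderComposition
  have h5 : Surjective (c ⊗ₘ c).left := tensorHom_left_of (@Surjective) c c h2 h2
  have h6 : QuasiCompact (c ⊗ₘ c).left := tensorHom_left_of (@QuasiCompact) c c h3 h3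
  obtain ⟨n, hn⟩ : ∃ n : (M ⊗ N) ⊗ (M ⊗ N) ⟶ N, n = fst _ _ ≫ snd M N := ⟨_, rfl⟩
  obtain ⟨n', hn'⟩ : ∃ n' : (M ⊗ N) ⊗ (M ⊗ N) ⟶ N, n' = snd _ _ ≫ snd M N := ⟨_, rfl⟩
  obtain ⟨y, hy⟩ := exists_lift_ker hκ (n * n' * n⁻¹ * n'⁻¹) (by
    rw [MonObj.mul_comp, MonObj.mul_comp, MonObj.mul_comp, GrpObj.inv_comp, GrpObj.inv_comp, hC _ (n ≫ φ),
      mul_inv_cancel_right, mul_inv_cancel])
  have key : (c ⊗ₘ c) ≫ (fst G G * snd G G * (fst G G)⁻¹ * (snd G G)⁻¹) = y ≫ κ ≫ i := by
    rw [← Category.assoc, hy, MonObj.comp_mul, MonObj.comp_mul, MonObj.comp_mul, GrpObj.comp_inv, GrpObj.comp_inv,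
      tensorHom_fst, tensorHom_snd, hc, comp_mulMap, comp_mulMap, MonObj.mul_comp, MonObj.mul_comp, MonObj.mul_comp,
      GrpObj.inv_comp, GrpObj.inv_comp, hn, hn', Category.assoc, Category.assoc]
    obtain ⟨a, ha⟩ : ∃ a, a = fst (M ⊗ N) (M ⊗ N) ≫ fst M N ≫ m := ⟨_, rfl⟩
    obtain ⟨a', ha'⟩ : ∃ a', a' = snd (M ⊗ N) (M ⊗ N) ≫ fst M N ≫ m := ⟨_, rfl⟩
    obtain ⟨b, hb⟩ : ∃ b, b = fst (M ⊗ N) (M ⊗ N) ≫ snd M N ≫ i := ⟨_, rfl⟩
    obtain ⟨b', hb'⟩ : ∃ b', b' = snd (M ⊗ N) (M ⊗ N) ≫ snd M N ≫ i := ⟨_, rfl⟩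
    have ca : ∀ g, a * g = g * a := fun g => by
      rw [ha, ← Category.assoc]; exact commute_of_antiAffine k G M hM m _ g
    have ca' : ∀ g, a' * g = g * a' := fun g => by
      rw [ha', ← Category.assoc]; exact commute_of_antiAffine k G M hM m _ g
    rw [← ha, ← ha', ← hb, ← hb', ca b, ca' b']
    calc b * a * (b' * a') * (b * a)⁻¹ * (b' * a')⁻¹ = b * (a * (b' * a')) * a⁻¹ * b⁻¹ * a'⁻¹ * b'⁻¹ := by group
      _ = b * ((b' * a') * a) * a⁻¹ * b⁻¹ * a'⁻¹ * b'⁻¹ := by rw [ca]
      _ = b * b' * (a' * b⁻¹) * a'⁻¹ * b'⁻¹ := by group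
      _ = b * b' * (b⁻¹ * a') * a'⁻¹ * b'⁻¹ := by rw [ca']
      _ = b * b' * b⁻¹ * b'⁻¹ := by group
  have hm : Mono (κ ≫ i) := mono_comp κ i
  obtain ⟨z, hz⟩ := URad.exists_factor_of_cover (c ⊗ₘ c) _ (κ ≫ i) y key
  refine ⟨lift g g' ≫ z, ?_⟩
  rw [Category.assoc, hz]
  simp only [MonObj.comp_mul, GrpObj.comp_inv, lift_fst, lift_snd]

/-- The radical maps onto every commutative quotient. -/
theorem surjective_radical [PerfectField k]
    {N : Over (Spec (CommRingCat.of k))} [GrpObj N] [Smooth N.hom] [IsAffine N.left] [ConnectedSpace ↥N.left]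
    {R : Over (Spec (CommRingCat.of k))} [GrpObj R] (r : R ⟶ N) [IsMonHom r] [IsClosedImmersion r.left]
    [Smooth R.hom] [ConnectedSpace ↥R.left] (hRs : Red.IsSolvableGrp R) (hRn : AlgGrp.IsNormalHom r)
    (hRmax : ∀ (R₁ : Over (Spec (CommRingCat.of k))) [GrpObj R₁] (r₁ : R₁ ⟶ N) [IsMonHom r₁] [IsClosedImmersion r₁.left],
      Smooth R₁.hom → ConnectedSpace ↥R₁.left → Red.IsSolvableGrp R₁ → AlgGrp.IsNormalHom r₁ → ∃ f : R₁ ⟶ R, f ≫ r = r₁)
    {C : Over (Spec (CommRingCat.of k))} [GrpObj C] [IsCommMonObj C] [LocallyOfFiniteType C.hom] [QuasiCompact C.hom]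
    (φ : N ⟶ C) [IsMonHom φ] [Surjective φ.left] : Surjective (r ≫ φ).left := by
  have hNq : QuasiCompact N.hom := quasiCompact_of_compactSpace N.hom
  have hRa : IsAffine R.left := isAffine_of_isAffineHom r.left
  have hRq : QuasiCompact R.hom := quasiCompact_of_compactSpace R.hom
  have hCsep : IsSeparated C.hom := Books.AntiAffine.isSeparated_hom C
  obtain ⟨C', _, p, c, r1, r2, r3, r4, r5, r6, r7, r8, r9, r10, r11, r12, r13⟩ := exists_image k R C (r ≫ φ)
  have hcn : AlgGrp.IsNormalHom c := fun T g n => ⟨n, by rw [mul_comm g, mul_inv_cancel_right]⟩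
  obtain ⟨Q', _, β, b1, b2, b3, b4, b5, b6, b7, b8, b9, b10, b11, b12⟩ := exists_quotient k C C' c hcn
  obtain ⟨Ns, _, ν, n1, n2, n3, n4, n5, n6, n7, n8, n9, n10, n11, n12⟩ := exists_quotient k N R r hRn
  have hNss := n9 inferInstance
  have hNs : Red.IsSemisimple Ns := Groth.Agent.S8092.result k N R r inferInstance hRs hRn
    (fun R' _ r' _ h1 h2 h3 h4 h5 => hRmax R' r' h2 h3 h4 h5) Ns ν n5
  have hνq : QuasiCompact ν.left := K398.Pts.quasiCompact_left ν
  have hβq : QuasiCompact β.left := K398.Pts.quasiCompact_left β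
  have hQc : IsCommMonObj Q' := Gug.isCommMonObj_of_quotient β
  obtain ⟨ψ, hψ1, hψ2⟩ := exists_desc_hom r ν n5 (φ ≫ β) (by
    rw [← Category.assoc, ← r3, Category.assoc, ker_eq_one b5, MonObj.comp_one])
  have h1 : φ ≫ β = 1 := by
    rw [← hψ2, hom_eq_one_of_isSemisimple hNs ψ (fun X a b => mul_comm a b), MonObj.comp_one]
  have h2 : Surjective (φ ≫ β).left := by rw [Over.comp_left]; infer_instance
  have h3 : Surjective (η[Q'] : 𝟙_ (Over (Spec (CommRingCat.of k))) ⟶ Q').left := by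
    rw [h1, Hom.one_def, Over.comp_left] at h2
    exact Surjective.of_comp (toUnit N).left (η[Q'] : 𝟙_ (Over (Spec (CommRingCat.of k))) ⟶ Q').left
  have h4 : Surjective c.left := MorphismProperty.of_isPullback (P := @Surjective) (b5.map (Over.forget _)).flip h3
  rw [← r3, Over.comp_left]
  infer_instance

/-- Maximal tori map onto quotients which are tori. -/
theorem surjective_maximalTorus {R C T : Over (Spec (CommRingCat.of k))} [GrpObj R] [GrpObj C] [GrpObj T]
    [Smooth R.hom] [QuasiCompact R.hom] (f : R ⟶ C) [IsMonHom f] [Surjective f.left] (hC : Red.IsTorus C)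
    (t : T ⟶ R) (hT : Red.IsMaximalTorus t) : Surjective (t ≫ f).left := by
  have hCs := K402.Tori.smooth hC
  have hCq := K402.Tori.quasiCompact hC
  have hCsep : IsSeparated C.hom := Books.AntiAffine.isSeparated_hom C
  have hRsep : IsSeparated R.hom := Books.AntiAffine.isSeparated_hom R
  have hG : SGA3x.HasMaxTorusFpqcLocally R :=
    ⟨_, 𝟙 _, inferInstance, inferInstance, fun V hV => ⟨V, hV.isCompact, by simp⟩, Red.bc (𝟙 _) T, inferInstance,
      (Over.pullback (𝟙 _)).map t, Sga3.H799.Bc.isMaximalTorus_bc (𝟙 _) hT⟩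
  obtain ⟨T', _, i', v, h1, h2, h3, h4, h5⟩ := Groth.Agent.S4147.result (Spec (CommRingCat.of k)) R C hG f
    (fun s => MorphismProperty.of_isPullback (P := @Surjective) (Sga3B.Parab.EtHom.isPullback_map (Red.geomPt s) f)
      inferInstance) T t hT
  have hne' : Nonempty ↥(Spec (CommRingCat.of k)) := inferInstanceAs (Nonempty (PrimeSpectrum k))
  obtain ⟨s⟩ := hne'
  have hm1 := h1.1
  have hm2 := h1.2.1
  have h6 : IsIso ((Over.pullback (Red.geomPt s)).map i') :=
    h1.2.2.2 s (Red.geomFibre s C) (𝟙 _) ((Over.pullback (Red.geomPt s)).map i')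
      (Sga3B.TorusBc.isTorus_bc (Red.geomPt s) hC) (Category.comp_id _)
  have h7 : Surjective ((Over.pullback (Red.geomPt s)).map i').left := by
    have : IsIso ((Over.pullback (Red.geomPt s)).map i').left := inferInstanceAs (IsIso ((Over.forget _).map ((Over.pullback (Red.geomPt s)).map i')))
    infer_instance
  have h8 : Surjective i'.left := K402.Quo.of_bc_map (Red.geomPt s) @Surjective i' h7
  rw [← h3, Over.comp_left]
  infer_instance

/-- A maximal torus of the radical embeds in the quotient by the unipotent radical. -/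
theorem mono_torus {T N U Nb : Over (Spec (CommRingCat.of k))} [GrpObj T] [GrpObj N] [GrpObj U] [GrpObj Nb]
    (hT : Red.IsTorus T) (t : T ⟶ N) [IsMonHom t] [Mono t] (u : U ⟶ N) [IsMonHom u] (hU : K414.Unip.IsUnip U)
    [LocallyOfFiniteType Nb.hom] (n : N ⟶ Nb) [IsMonHom n] (hn : AlgGrp.IsKernel u n) : Mono (t ≫ n) := by
  have hsep : IsSeparated Nb.hom := Books.AntiAffine.isSeparated_hom Nb
  have hmu : Mono u := mono_ker hn
  obtain ⟨_, hW⟩ := exists_grpObj (t ≫ n)
  have hWk : AlgGrp.IsKernel (kerι (t ≫ n)) (t ≫ n) := isPullback_ker (t ≫ n)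
  have hWm : SGA3x.IsMultTypeFT (kerObj (t ≫ n)) :=
    K543.MultSub.isMultTypeFT_of_closed (K543.MultSub.isMultTypeFT_of_isTorus hT) (kerι (t ≫ n))
  obtain ⟨w, hw⟩ := exists_lift_ker hn (kerι (t ≫ n) ≫ t) (by rw [Category.assoc, ker_eq_one hWk])
  have hwt : IsMonHom (w ≫ u) := by rw [hw]; infer_instance
  have hwm : IsMonHom w := K402.Comm.isMonHom_of_comp_mono w u
  have h1 : kerι (t ≫ n) = 1 := by
    rw [← cancel_mono t, ← hw, K414.Unip.hom_eq_one hWm hU w, MonObj.one_comp, MonObj.one_comp]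
  constructor
  intro X a b hab
  obtain ⟨z, hz⟩ := exists_lift_ker hWk (a * b⁻¹) (by rw [MonObj.mul_comp, GrpObj.inv_comp, hab, mul_inv_cancel])
  rw [h1, MonObj.comp_one] at hz
  exact (mul_inv_eq_one.mp hz.symm)

/-- A maximal torus of the radical maps to the coradical with finite kernel. -/
theorem isFinite_toCoradical [PerfectField k]
    {N : Over (Spec (CommRingCat.of k))} [GrpObj N] [Smooth N.hom] [IsAffine N.left] [ConnectedSpace ↥N.left]
    {R : Over (Spec (CommRingCat.of k))} [GrpObj R] (r : R ⟶ N) [IsMonHom r] [IsClosedImmersion r.left]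
    [Smooth R.hom] [ConnectedSpace ↥R.left] (hRs : Red.IsSolvableGrp R) (hRn : AlgGrp.IsNormalHom r)
    {T : Over (Spec (CommRingCat.of k))} [GrpObj T] (t : T ⟶ R) (hT : Red.IsTorus T) [IsMonHom t] [Mono t]
    {U Nb : Over (Spec (CommRingCat.of k))} [GrpObj U] [GrpObj Nb] (u : U ⟶ N) [IsMonHom u]
    (hU : K414.Unip.IsUnip U) (n : N ⟶ Nb) [IsMonHom n] [Flat n.left] [Surjective n.left] (hn : AlgGrp.IsKernel u n)
    (hNb : Red.IsReductive Nb) {C D : Over (Spec (CommRingCat.of k))} [GrpObj C] [GrpObj D] (f₀ : Nb ⟶ C) [IsMonHom f₀]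
    [Smooth f₀.left] [Surjective f₀.left] (hC : ∀ (X : Over (Spec (CommRingCat.of k))) (a b : X ⟶ C), a * b = b * a)
    (d : D ⟶ Nb) [IsMonHom d] (hd : AlgGrp.IsKernel d f₀) (hk : RedSub.KilledByCommutative d) :
    IsFinite (t ≫ r ≫ n ≫ f₀).left := by
  have hNq : QuasiCompact N.hom := quasiCompact_of_compactSpace N.hom
  have hRa : IsAffine R.left := isAffine_of_isAffineHom r.left
  have hRq : QuasiCompact R.hom := quasiCompact_of_compactSpace R.hom
  have hTq := K402.Tori.quasiCompact hT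
  have hNbs : Smooth Nb.hom := hNb.2.1
  have hNba : IsAffine Nb.left := K494.RadRed.isAffine_of_isReductive hNb
  have hNbc : ConnectedSpace ↥Nb.left := K494.RadRed.connectedSpace_of_isReductive hNb
  have hNbsep : IsSeparated Nb.hom := Books.AntiAffine.isSeparated_hom Nb
  obtain ⟨Rb, _, p, c, r1, r2, r3, r4, r5, r6, r7, r8, r9, r10, r11, r12, r13⟩ := exists_image k R Nb (r ≫ n)
  have hRbs : Smooth Rb.hom := K402.Quo.smooth_of_quotient p
  have hRbc := r12 inferInstance
  have hmc : Mono c := Books.AlgPtsGrp.mono_of_isClosedImmersion c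
  have hsolv : Red.IsSolvableGrp Rb := Groth.Agent.S7997.result k R Rb p hRs
  have hnq : QuasiCompact n.left := K398.Pts.quasiCompact_left n
  have hpq : QuasiCompact p.left := K398.Pts.quasiCompact_left p
  have hnorm : AlgGrp.IsNormalHom c := isNormalHom_image n r hRn p c r3
  have hRbT : Red.IsTorus Rb := K494.RadRed.isTorus_of_solvable_normal hNb c r7 hsolv hnorm
  obtain ⟨Z, _, j, z1, z2, z3, z4⟩ := K14.RedCentreField.exists_centre Nb
  have hZ : Red.IsCentre j := by
    refine ⟨z1, z3, fun X g => ?_⟩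
    rw [z4]
    constructor
    · intro h X' x h'
      rw [Category.comp_id]
      exact h X' x h'
    · intro h X' x h'
      have := h X' x h'
      rwa [Category.comp_id] at this
  have hZm := K493.CentTor.isMultTypeFT_centre hNb j hZ
  obtain ⟨Tz, _, rz, hrz, hle⟩ := Sga3.H828.TorMain.exists_maximalTorus Z hZm
  obtain ⟨c', hc'⟩ := (z4 _ c).2 (fun X x g =>
    K494.RadRed.central_of_normal_torus c r7 hRbT hnorm X x g)
  have hc't : IsMonHom (c' ≫ j) := by rw [hc']; infer_instance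
  have hc'm : IsMonHom c' := K402.Comm.isMonHom_of_comp_mono c' j
  have hc'mono : Mono c' := by
    have : Mono (c' ≫ j) := by rw [hc']; infer_instance
    exact mono_of_mono c' j
  obtain ⟨f, hf⟩ := hle Rb c' hRbT
  have hrz1 := hrz.1
  have hrz2 := hrz.2.1
  have hquot : RedSub.IsQuotient d f₀ := by
    refine ⟨inferInstance, inferInstance, inferInstance, ?_⟩
    have h1 := isPullback_mul (C := Scheme.{u}) hd (j := 𝟙 Nb)
    rw [Category.id_comp] at h1
    convert h1 using 2
    simp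
  have hfin := (Groth.Agent.S6096.result hNb d f₀ hC hd hquot hk j hZ rz hrz).2.2
  have hTz : Red.IsTorus Tz := hrz.2.2.1
  have hTza := K402.Tori.isAffine hTz
  have hTzs := K402.Tori.smooth hTz
  have heq : (t ≫ p ≫ f) ≫ rz ≫ j = (t ≫ r) ≫ n := by
    simp only [Category.assoc]
    rw [← Category.assoc f rz j, hf, hc', r3]
  have hmt : Mono (t ≫ r) := by
    have : Mono r := Books.AlgPtsGrp.mono_of_isClosedImmersion r
    exact mono_comp t r
  have hm1 : Mono ((t ≫ r) ≫ n) := mono_torus hT (t ≫ r) u hU n hn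
  have hfm : IsMonHom f := by
    have : IsMonHom (f ≫ rz) := by rw [hf]; infer_instance
    exact K402.Comm.isMonHom_of_comp_mono f rz
  have hm2 : Mono (t ≫ p ≫ f) := by
    have : Mono ((t ≫ p ≫ f) ≫ rz ≫ j) := by rw [heq]; exact hm1
    exact mono_of_mono _ (rz ≫ j)
  have hq : QuasiCompact (t ≫ p ≫ f).left := K398.Pts.quasiCompact_left _
  have hcl : IsClosedImmersion (t ≫ p ≫ f).left := K207.AffTarget.isClosedImmersion_of_mono k T Tz (t ≫ p ≫ f)
  have heq2 : t ≫ r ≫ n ≫ f₀ = (t ≫ p ≫ f) ≫ rz ≫ j ≫ f₀ := by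
    have := congrArg (· ≫ f₀) heq
    simpa only [Category.assoc] using this.symm
  rw [heq2, Over.comp_left]
  infer_instance

/-- Quotients in which all the commutators become trivial are commutative. -/
theorem isCommMonObj_of_commutators {G Q : Over (Spec (CommRingCat.of k))} [GrpObj G] [GrpObj Q] (π : G ⟶ Q)
    [IsMonHom π] [Flat π.left] [Surjective π.left] [QuasiCompact π.left]
    (h : ∀ (T : Over (Spec (CommRingCat.of k))) (g g' : T ⟶ G), (g * g' * g⁻¹ * g'⁻¹) ≫ π = 1) : IsCommMonObj Q := by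
  have h1 : Flat (π ⊗ₘ π).left := tensorHom_left_of (@Flat) π π inferInstance inferInstance
  have hcomp : MorphismProperty.IsStableUnderComposition @Surjective.{u} :=
    (inferInstance : MorphismProperty.IsMultiplicative @Surjective.{u}).toIsStableUnderComposition
  have h2 : Surjective (π ⊗ₘ π).left := tensorHom_left_of (@Surjective) π π inferInstance inferInstance
  have h3 : QuasiCompact (π ⊗ₘ π).left := tensorHom_left_of (@QuasiCompact) π π inferInstance inferInstance
  have h4 : Epi (π ⊗ₘ π) := by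
    have : Epi (π ⊗ₘ π).left := Flat.epi_of_flat_of_surjective _
    exact Over.epi_of_epi_left _
  refine K402.Comm.isCommMonObj_of_points Q (fun T a b => ?_)
  have key : fst Q Q * snd Q Q = snd Q Q * fst Q Q := by
    rw [← cancel_epi (π ⊗ₘ π), MonObj.comp_mul, MonObj.comp_mul, tensorHom_fst, tensorHom_snd, ← MonObj.mul_comp,
      ← MonObj.mul_comp]
    have h5 := h _ (fst G G) (snd G G)
    rw [MonObj.mul_comp, MonObj.mul_comp, GrpObj.inv_comp, GrpObj.inv_comp, mul_inv_eq_one, mul_inv_eq_iff_eq_mul,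
      MonObj.mul_comp] at h5
    rw [MonObj.mul_comp, MonObj.mul_comp, h5]
  have h6 := congrArg (lift a b ≫ ·) key
  simpa only [MonObj.comp_mul, lift_fst, lift_snd] using h6

end field

end K404.Gug2
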