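import Groth.Agent.AlgGrp.K404.EtConn
import Groth.Agent.AlgGrp.K404.DimKer
import Groth.Agent.Sga3.H739.ImageFl
import Groth.Agent.Sga3B.RG.BrPts
import Groth.Agent.FlatB.GeomRed
import Groth.Agent.Books.AlgPtsSmooth
import Groth.Agent.S4141

/-! Images of linear parts under quotient maps. -/

set_option autoImplicit false
universe u

open CategoryTheory CategoryTheory.Limits MonoidalCategory CartesianMonoidalCategory MonObj GrpObj AlgebraicGeometry

namespace K404.LinImg

open Desc AbAff MulPb QuoKit DimKer EtConn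

variable (k : Type u) [Field k]

theorem quasiCompact_left {G H : Over (Spec (CommRingCat.of k))} (f : G ⟶ H) [QuasiCompact G.hom] [IsSeparated H.hom] :
    QuasiCompact f.left := by
  have : QuasiCompact (f.left ≫ H.hom) := by rw [Over.w]; infer_instance
  exact QuasiCompact.of_comp f.left H.hom

/-- The identity component as an open and closed subgroup. -/
theorem exists_idComp (G : Over (Spec (CommRingCat.of k))) [GrpObj G] [Smooth G.hom] :
    ∃ (G0 : Over (Spec (CommRingCat.of k))) (_ : GrpObj G0) (i : G0 ⟶ G), IsMonHom i ∧ IsClosedImmersion i.left ∧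
      IsOpenImmersion i.left ∧ Smooth G0.hom ∧ ConnectedSpace G0.left ∧
      (∀ pt : ↥(𝟙_ (Over (Spec (CommRingCat.of k)))).left, Set.range i.left = connectedComponent (η[G].left pt)) := by
  obtain ⟨G0, _, i, h1, h2, h3, h4⟩ := Groth.Agent.S3023.result k G
  have hn := isLocallyNoetherian_left k G
  have hlfp : LocallyOfFinitePresentation i.left := LocallyOfFinitePresentation.iff_locallyOfFiniteType.2 inferInstance
  have ho : IsOpenImmersion i.left := IsOpenImmersion.of_flat_of_mono i.left
  have hs : Smooth G0.hom := by rw [← Over.w i]; infer_instance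
  let pt0 : ↥(𝟙_ (Over (Spec (CommRingCat.of k)))).left := (IsLocalRing.closedPoint k : PrimeSpectrum k)
  have hc : ConnectedSpace G0.left := by
    have h5 : _root_.IsConnected (Set.range i.left) := by
      rw [h4 pt0]
      exact isConnected_connectedComponent
    have h6 : ConnectedSpace (Set.range i.left) := isConnected_iff_connectedSpace.mp h5
    let e := i.left.isClosedEmbedding.isEmbedding.toHomeomorph
    exact e.symm.surjective.connectedSpace e.symm.continuous
  exact ⟨G0, _, i, h1, h2, ho, hs, hc, h4⟩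

/-- Homomorphisms from connected groups land in the identity component. -/
theorem range_subset_idComp {H G : Over (Spec (CommRingCat.of k))} [GrpObj H] [GrpObj G] [ConnectedSpace H.left]
    (f : H ⟶ G) (hf : η[H] ≫ f = η[G]) (pt : ↥(𝟙_ (Over (Spec (CommRingCat.of k)))).left) :
    Set.range f.left ⊆ connectedComponent (η[G].left pt) := by
  refine (isPreconnected_range f.left.continuous).subset_connectedComponent ?_
  rw [← hf]
  exact ⟨η[H].left pt, rfl⟩

/-- The linear part of the identity component of a smooth group is normal in the whole group, so it is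
the largest smooth connected affine normal subgroup of the whole group. -/
theorem exists_linearPart_data [IsAlgClosed k] (G : Over (Spec (CommRingCat.of k))) [GrpObj G] [Smooth G.hom]
    [QuasiCompact G.hom] (NG : Over (Spec (CommRingCat.of k))) [GrpObj NG] (iG : NG ⟶ G) [IsMonHom iG]
    [IsClosedImmersion iG.left] [Smooth NG.hom] [ConnectedSpace ↥NG.left] [IsAffine NG.left]
    (hNGmax : ∀ (N' : Over (Spec (CommRingCat.of k))) [GrpObj N'] (i' : N' ⟶ G) [IsMonHom i'] [IsClosedImmersion i'.left]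
      [Smooth N'.hom] [ConnectedSpace ↥N'.left] [IsAffine N'.left], AlgGrp.IsNormalHom i' → ∃ f : N' ⟶ NG, f ≫ iG = i') :
    ∃ (G0 : Over (Spec (CommRingCat.of k))) (_ : GrpObj G0) (i : G0 ⟶ G) (L : Over (Spec (CommRingCat.of k)))
      (_ : GrpObj L) (l : L ⟶ G0) (A : Over (Spec (CommRingCat.of k))) (_ : GrpObj A) (q : G0 ⟶ A),
      IsMonHom i ∧ IsClosedImmersion i.left ∧
      IsOpenImmersion i.left ∧ Smooth G0.hom ∧ ConnectedSpace G0.left ∧
      (∀ pt : ↥(𝟙_ (Over (Spec (CommRingCat.of k)))).left, Set.range i.left = connectedComponent (η[G].left pt)) ∧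
      IsMonHom l ∧ IsMonHom q ∧ AlgGrp.IsKernel l q ∧ IsProper A.hom ∧ ∃ a : L ⟶ NG, a ≫ iG = l ≫ i := by
  obtain ⟨G0, _, i, h1, h2, h3, h4, h5, h6⟩ := exists_idComp k G
  have hG0qc : QuasiCompact G0.hom := by rw [← Over.w i]; infer_instance
  obtain ⟨L, _, l, A, _, q, l1, l2, l3, l4, l5, l6, l7, l8, l9, l10, l11, l12, l13, -⟩ :=
    Groth.Agent.S4141.result k G0
  have hcl : IsClosedImmersion (l ≫ i).left := by rw [Over.comp_left]; infer_instance
  have hLred : IsReduced L.left := Groth.Agent.Books.AlgPtsSmooth.isReduced_of_smooth L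
  let pt0 : ↥(𝟙_ (Over (Spec (CommRingCat.of k)))).left := (IsLocalRing.closedPoint k : PrimeSpectrum k)
  have hn : AlgGrp.IsNormalHom (l ≫ i) := by
    refine Groth.Agent.Sga3B.RG.BrPts.isNormalHom_of_points (l ≫ i) (fun g n => ?_)
    -- conjugation by `g` on `L`
    let c : L ⟶ G := (toUnit L ≫ g) * (l ≫ i) * (toUnit L ≫ g)⁻¹
    have hcm : IsMonHom c := Groth.Agent.Sga3B.Pts.isMonHom_of_points c (fun T x y => by
      simp only [c, MonObj.comp_mul, GrpObj.comp_inv, MonObj.mul_comp]
      have e1 : ∀ z : T ⟶ L, z ≫ toUnit L ≫ g = toUnit T ≫ g := fun z => by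
        rw [← Category.assoc, toUnit_unique (z ≫ toUnit L) (toUnit T)]
      rw [e1, e1, e1]
      group)
    obtain ⟨c0, hc0⟩ := Groth.Agent.Books.AlgPtsGrp.exists_lift i c (by
      rw [h6 pt0]
      exact range_subset_idComp k c (IsMonHom.one_hom c) pt0)
    have hmi : Mono i := Groth.Agent.Books.AlgPtsGrp.mono_of_isClosedImmersion i
    have hc0m : IsMonHom c0 := Groth.Agent.Sga3B.Pts.isMonHom_of_points c0 (fun T x y => by
      rw [← cancel_mono i, Category.assoc, hc0, MonObj.mul_comp x y c, MonObj.mul_comp (x ≫ c0) (y ≫ c0) i,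
        Category.assoc, Category.assoc, hc0])
    have h7 : c0 ≫ q = 1 := Groth.Agent.Sga3.H821.AffProper.hom_eq_one k L A (c0 ≫ q)
    obtain ⟨z, hz⟩ := exists_lift_ker l10 c0 h7
    refine ⟨n ≫ z, ?_⟩
    have h8 : n ≫ c = g * (n ≫ l ≫ i) * g⁻¹ := by
      simp only [c, MonObj.comp_mul, GrpObj.comp_inv]
      have e1 : n ≫ toUnit L ≫ g = g := by
        rw [← Category.assoc, toUnit_unique (n ≫ toUnit L) (𝟙 _), Category.id_comp]
      rw [e1]
    rw [← h8, ← hc0, ← hz]
    simp only [Category.assoc]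
  obtain ⟨a, ha⟩ := hNGmax L (l ≫ i) hn
  exact ⟨G0, _, i, L, _, l, A, _, q, h1, h2, h3, h4, h5, h6, l1, l7, l10, l11, a, ha⟩

/-- S14756 -/
theorem main [IsAlgClosed k]
    (G Q : Over (Spec (CommRingCat.of k))) [GrpObj G] [GrpObj Q]
    [Smooth G.hom] [QuasiCompact G.hom] [QuasiCompact Q.hom] [LocallyOfFiniteType Q.hom]
    (π : G ⟶ Q) [IsMonHom π] [Flat π.left] [Surjective π.left]
    (NG : Over (Spec (CommRingCat.of k))) [GrpObj NG] (iG : NG ⟶ G) [IsMonHom iG] [IsClosedImmersion iG.left]
    [Smooth NG.hom] [ConnectedSpace ↥NG.left] [IsAffine NG.left] (hNG : AlgGrp.IsNormalHom iG)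
    (hNGmax : ∀ (N' : Over (Spec (CommRingCat.of k))) [GrpObj N'] (i' : N' ⟶ G) [IsMonHom i'] [IsClosedImmersion i'.left]
      [Smooth N'.hom] [ConnectedSpace ↥N'.left] [IsAffine N'.left], AlgGrp.IsNormalHom i' → ∃ f : N' ⟶ NG, f ≫ iG = i')
    (NQ : Over (Spec (CommRingCat.of k))) [GrpObj NQ] (iQ : NQ ⟶ Q) [IsMonHom iQ] [IsClosedImmersion iQ.left]
    [Smooth NQ.hom] [ConnectedSpace ↥NQ.left] [IsAffine NQ.left] (hNQ : AlgGrp.IsNormalHom iQ)
    (hNQmax : ∀ (N' : Over (Spec (CommRingCat.of k))) [GrpObj N'] (i' : N' ⟶ Q) [IsMonHom i'] [IsClosedImmersion i'.left]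
      [Smooth N'.hom] [ConnectedSpace ↥N'.left] [IsAffine N'.left], AlgGrp.IsNormalHom i' → ∃ f : N' ⟶ NQ, f ≫ iQ = i') :
    ∃ f : NG ⟶ NQ, f ≫ iQ = iG ≫ π ∧ Surjective f.left := by
  have hQsep : IsSeparated Q.hom := Groth.Agent.Books.AntiAffine.isSeparated_hom Q
  have hGsep : IsSeparated G.hom := Groth.Agent.Books.AntiAffine.isSeparated_hom G
  have hmQ : Mono iQ := Groth.Agent.Books.AlgPtsGrp.mono_of_isClosedImmersion iQ
  have hmG : Mono iG := Groth.Agent.Books.AlgPtsGrp.mono_of_isClosedImmersion iG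
  have hπqc := quasiCompact_left k π
  have hNGqc : QuasiCompact NG.hom := inferInstance
  -- the image of `NG`
  obtain ⟨C, _, p, c, c1, c2, c3, c4, c5, c6, c7, c8, c9, c10, c11, c12, c13⟩ := exists_image k NG Q (iG ≫ π)
  have hNGred : IsReduced NG.left := Groth.Agent.Books.AlgPtsSmooth.isReduced_of_smooth NG
  have hCred : IsReduced C.left := Groth.Agent.FlatB.GeomRed.isReduced_of_flat_of_surjective p.left
  have hCsm : Smooth C.hom := Groth.Agent.Books.AlgPtsSmooth.smooth_of_isReduced C
  have hCc := c12 ‹_›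
  have hCa := c13 ‹_›
  have hmc : Mono c := Groth.Agent.Books.AlgPtsGrp.mono_of_isClosedImmersion c
  have hpqc := quasiCompact_left k p
  have hCn : AlgGrp.IsNormalHom c := Groth.Agent.Sga3.H739.ImageFl.isNormalHom_image iG hNG π ⟨‹_›, ‹_›, hπqc⟩ p
    ⟨c4, c5, hpqc⟩ c c3
  obtain ⟨fC, hfC⟩ := hNQmax C c hCn
  refine ⟨p ≫ fC, by rw [Category.assoc, hfC, c3], ?_⟩
  suffices h : Surjective fC.left by rw [Over.comp_left]; infer_instance
  have hfCcl : IsClosedImmersion fC.left := by
    have h1 : IsClosedImmersion (fC.left ≫ iQ.left) := by rw [← Over.comp_left, hfC]; exact c7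
    exact IsClosedImmersion.of_comp fC.left iQ.left
  have hfCm : IsMonHom fC := Groth.Agent.Sga3B.Pts.isMonHom_of_points fC (fun T x y => by
      rw [← cancel_mono iQ, Category.assoc, hfC, MonObj.mul_comp x y c, MonObj.mul_comp (x ≫ fC) (y ≫ fC) iQ,
        Category.assoc, Category.assoc, hfC])
  have hfCn : AlgGrp.IsNormalHom fC := by
    intro T g n
    obtain ⟨n', hn'⟩ := hCn T (g ≫ iQ) n
    refine ⟨n', ?_⟩
    rw [← cancel_mono iQ, Category.assoc, hfC, ← hn', MonObj.mul_comp, MonObj.mul_comp, GrpObj.inv_comp,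
      Category.assoc, hfC]
  -- the linear part of the identity component of `G`
  obtain ⟨G0, _, g0, L, _, l, A, _, q, a1, a2, a3, a4, a5, a6, a7, a8, a9, a10, a, ha⟩ :=
    exists_linearPart_data k G NG iG hNGmax
  have hG0ft : LocallyOfFiniteType G0.hom := inferInstance
  have hG0qc : QuasiCompact G0.hom := by rw [← Over.w g0]; infer_instance
  -- `Q / NQ` and the preimage of `NQ` in `G0`
  obtain ⟨R, _, r, r1, r2, r3, r4, r5, r6, r7, r8, -, -, -, -⟩ := exists_quotient k Q NQ iQ hNQ
  obtain ⟨P, _, m, hm1, hm2, hm3⟩ := exists_kernel ((g0 ≫ π) ≫ r)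
  obtain ⟨n, hn⟩ := isPullback_of_isKernel r5 hm2
  have hn' : IsPullback m.left n.left (g0 ≫ π).left iQ.left := hn.map (Over.forget _)
  have hPft : LocallyOfFiniteType P.hom := by rw [← Over.w m]; infer_instance
  have hPqc : QuasiCompact P.hom := by rw [← Over.w m]; infer_instance
  have hnm : IsMonHom n := Groth.Agent.Sga3B.Pts.isMonHom_of_points n (fun T x y => by
      rw [← cancel_mono iQ, Category.assoc, ← hn.w, ← Category.assoc, MonObj.mul_comp x y m,
        MonObj.mul_comp (x ≫ m) (y ≫ m), MonObj.mul_comp (x ≫ n) (y ≫ n) iQ,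
        Category.assoc, Category.assoc, Category.assoc, Category.assoc, ← hn.w])
  let pt0 : ↥(𝟙_ (Over (Spec (CommRingCat.of k)))).left := (IsLocalRing.closedPoint k : PrimeSpectrum k)
  -- the image of `G0` is clopen
  have hNQr : Set.range iQ.left ⊆ Set.range (g0 ≫ π).left := by
    have h1 : Set.range iQ.left ⊆ connectedComponent (η[Q].left pt0) :=
      range_subset_idComp k iQ (IsMonHom.one_hom iQ) pt0
    refine h1.trans ?_
    have h2 : IsClosed (Set.range (g0 ≫ π).left) := by
      have := quasiCompact_left k (g0 ≫ π)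
      exact (Groth.Agent.S3016.result k G0 Q (g0 ≫ π)).1
    have h3 : IsOpen (Set.range (g0 ≫ π).left) := by
      have h4 : LocallyOfFiniteType (π.left ≫ Q.hom) := by rw [Over.w]; infer_instance
      have h5 : LocallyOfFiniteType π.left := locallyOfFiniteType_of_comp π.left Q.hom
      have h6 := isLocallyNoetherian_left k Q
      have h7 : LocallyOfFinitePresentation π.left := LocallyOfFinitePresentation.iff_locallyOfFiniteType.2 h5
      have h8 : LocallyOfFinitePresentation (g0 ≫ π).left := by rw [Over.comp_left]; infer_instance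
      have h9 : Flat (g0 ≫ π).left := by rw [Over.comp_left]; infer_instance
      have h10 : UniversallyOpen (g0 ≫ π).left := inferInstance
      exact (g0 ≫ π).left.isOpenMap.isOpen_range
    refine IsClopen.connectedComponent_subset ⟨h2, h3⟩ ?_
    rw [← IsMonHom.one_hom (g0 ≫ π)]
    exact ⟨η[G0].left pt0, rfl⟩
  have hns : Surjective n.left := by
    refine ⟨fun y => ?_⟩
    obtain ⟨x, hx⟩ := hNQr ⟨y, rfl⟩
    obtain ⟨z, hz1, hz2⟩ := Scheme.Pullback.exists_preimage_pullback (f := (g0 ≫ π).left) (g := iQ.left) x y hx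
    refine ⟨hn'.isoPullback.inv z, ?_⟩
    rw [← Scheme.Hom.comp_apply, hn'.isoPullback_inv_snd, hz2]
  -- `NQ / C`
  obtain ⟨D, _, d, d1, d2, d3, d4, d5, d6, d7, d8, -, -, d11, d12⟩ := exists_quotient k NQ C fC hfCn
  have hDc := d11 ‹_›
  have hDa := d12 ‹_›
  -- the image of `P` in `A`
  obtain ⟨B, _, b, b', b1, b2, b3, b4, b5, b6, b7, b8, b9, b10, -, -, -⟩ := exists_image k P A (m ≫ q)
  have hBp : IsProper B.hom := by rw [← Over.w b']; infer_instance
  have hbqc := quasiCompact_left k b
  obtain ⟨K', _, κ, κ1, κ2, κ3⟩ := exists_kernel b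
  have hκ : κ ≫ n ≫ d = 1 := by
    obtain ⟨z, hz⟩ := exists_lift_ker a9 (κ ≫ m) (by
      rw [Category.assoc, ← b3, ← Category.assoc, ker_eq_one κ2, MonObj.one_comp])
    have h1 : κ ≫ n = (z ≫ a ≫ p) ≫ fC := by
      rw [← cancel_mono iQ, Category.assoc, ← hn.w]
      simp only [Category.assoc]
      rw [hfC, c3, ← Category.assoc a, ha, ← Category.assoc κ m, ← hz]
      simp only [Category.assoc]
    rw [← Category.assoc, h1, Category.assoc, ker_eq_one d5, MonObj.comp_one]
  obtain ⟨ψ, hψ1, hψ2⟩ := Desc.exists_desc_hom κ b κ2 (n ≫ d) hκ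
  have hψs : Surjective ψ.left := by
    have : Surjective (b.left ≫ ψ.left) := by
      rw [← Over.comp_left, hψ2, Over.comp_left]; infer_instance
    exact Surjective.of_comp b.left ψ.left
  have hDuc : UniversallyClosed D.hom := by
    have : UniversallyClosed (ψ.left ≫ D.hom) := by rw [Over.w]; infer_instance
    exact UniversallyClosed.of_comp_surjective ψ.left D.hom
  have hDp : IsProper D.hom := { }
  have hr := Groth.Agent.Sga3.H821.AffProper.range_one_eq_univ k D
  have hη : Surjective (η[D] : 𝟙_ (Over (Spec (CommRingCat.of k))) ⟶ D).left := by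
    rw [surjective_iff, ← Set.range_eq_univ]
    exact hr
  exact MorphismProperty.of_isPullback (P := @Surjective) (d5.map (Over.forget _)).flip hη

end K404.LinImg
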