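import Groth.Agent.AlgGrp.K404.SolvLin
import Groth.Agent.AlgGrp.K404.GenSec
import Groth.Agent.Sga3B.Pts
import Groth.Agent.AlgGrp.K404.GAnt

/-! Local sections of quotients by solvable groups. -/

set_option autoImplicit false
universe u

open CategoryTheory CategoryTheory.Limits MonoidalCategory CartesianMonoidalCategory MonObj GrpObj AlgebraicGeometry

namespace K404.LocSec

open K400.TorsExt CobExt CobDS Desc Groth.Agent

/-- Points lift through a quotient by a group with `CobProp`. -/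
theorem exists_lift_point {S : Scheme.{u}} {N G Q : Over S} [GrpObj N] [GrpObj G] [GrpObj Q] (i : N ⟶ G) [IsMonHom i]
    (q : G ⟶ Q) [IsMonHom q] [Flat q.left] [Surjective q.left] [IsAffineHom q.left] (hker : AlgGrp.IsKernel i q)
    (hN : CobProp N) (a : 𝟙_ (Over S) ⟶ Q) : ∃ g : 𝟙_ (Over S) ⟶ G, g ≫ q = a := by
  have hmi : Mono i := mono_ker hker
  let P : Over S := pullback a q
  let p : P ⟶ 𝟙_ (Over S) := pullback.fst a q
  let y : P ⟶ G := pullback.snd a q
  have hpy : p ≫ a = y ≫ q := pullback.condition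
  have hpb : IsPullback p.left y.left a.left q.left := (IsPullback.of_hasPullback a q).map (Over.forget _)
  have hp1 : Flat p.left := MorphismProperty.of_isPullback (P := @Flat) hpb.flip ‹_›
  have hp2 : Surjective p.left := MorphismProperty.of_isPullback (P := @Surjective) hpb.flip ‹_›
  have hp3 : IsAffineHom p.left := MorphismProperty.of_isPullback (P := @IsAffineHom) hpb.flip ‹_›
  have hPh : P.hom = p.left := by
    rw [← Over.w p]
    exact Category.comp_id _
  have hP1 : Flat P.hom := by rw [hPh]; exact hp1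
  have hP2 : Surjective P.hom := by rw [hPh]; exact hp2
  have hP3 : IsAffineHom P.hom := by rw [hPh]; exact hp3
  have hterm : ∀ {T : Over S} (x x' : T ⟶ P), x ≫ y ≫ q = x' ≫ y ≫ q := by
    intro T x x'
    rw [← hpy, ← Category.assoc, ← Category.assoc, toUnit_unique (x ≫ p) (x' ≫ p)]
  obtain ⟨δ, hδ⟩ := exists_lift_ker hker ((fst P P ≫ y) * (snd P P ≫ y)⁻¹) (by
      rw [MonObj.mul_comp, GrpObj.inv_comp, Category.assoc, Category.assoc, hterm (fst P P) (snd P P), mul_inv_cancel])
  have hval : ∀ {T : Over S} (x x' : T ⟶ P), lift x x' ≫ δ ≫ i = (x ≫ y) * (x' ≫ y)⁻¹ := by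
    intro T x x'
    rw [hδ, MonObj.comp_mul, GrpObj.comp_inv, ← Category.assoc, lift_fst, ← Category.assoc, lift_snd]
  obtain ⟨f', hf'⟩ := hN P δ (fun T x x' x'' => by
    rw [← cancel_mono i, MonObj.mul_comp, Category.assoc, Category.assoc, Category.assoc, hval, hval, hval]
    group)
  let F' : P ⟶ G := (f' ≫ i)⁻¹ * y
  have hF' : ∀ {T : Over S} (x x' : T ⟶ P), x ≫ F' = x' ≫ F' := by
    intro T x x'
    have h1 := congrArg (· ≫ i) (hf' T x x')
    beta_reduce at h1
    rw [MonObj.mul_comp, Category.assoc, Category.assoc, Category.assoc, hval] at h1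
    simp only [F', MonObj.comp_mul, GrpObj.comp_inv]
    rw [h1]
    group
  have hqc : QuasiCompact p.left := inferInstance
  obtain ⟨F, hF⟩ := exists_desc p F' (fun T x x' _ => hF' x x')
  refine ⟨F, ?_⟩
  have hep : Epi p := by
    have : Epi p.left := Flat.epi_of_flat_of_surjective _
    exact Over.epi_of_epi_left _
  rw [← cancel_epi p, ← Category.assoc, hF, MonObj.mul_comp, GrpObj.inv_comp, Category.assoc, hpy,
    show i ≫ q = 1 from by rw [hker.w, Hom.one_def], MonObj.comp_one, inv_one, _root_.one_mul]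

variable {k : Type u} [Field k]

/-- The quotient map `G → Q` by `C` has a section over a non-empty open subset of `Q`. -/
theorem exists_generic_section {C G Q : Over (Spec (CommRingCat.of k))} [GrpObj C] [GrpObj G] [GrpObj Q] (i : C ⟶ G)
    [IsMonHom i] (q : G ⟶ Q) [IsMonHom q] [Flat q.left] [Surjective q.left] [IsAffineHom q.left]
    [LocallyOfFiniteType q.left]
    (hker : AlgGrp.IsKernel i q) [IsIntegral Q.left]
    (hcob : ∀ (F : Type u) [Field F] (f : Spec (CommRingCat.of F) ⟶ Spec (CommRingCat.of k)), CobProp (Red.bc f C)) :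
    ∃ U : Q.left.Opens, (U : Set ↥Q.left).Nonempty ∧ ∃ s : (↑U : Scheme.{u}) ⟶ G.left, s ≫ q.left = U.ι := by
  let ξ : Spec (CommRingCat.of Q.left.functionField) ⟶ Q.left := Q.left.fromSpecStalk (genericPoint Q.left)
  let f : Spec (CommRingCat.of Q.left.functionField) ⟶ Spec (CommRingCat.of k) := ξ ≫ Q.hom
  have h1 := Sga3B.Parab.EtHom.isPullback_map f q
  have h2 : Flat ((Over.pullback f).map q).left := MorphismProperty.of_isPullback (P := @Flat) h1 ‹_›
  have h3 : Surjective ((Over.pullback f).map q).left := MorphismProperty.of_isPullback (P := @Surjective) h1 ‹_›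
  have h4 : IsAffineHom ((Over.pullback f).map q).left := MorphismProperty.of_isPullback (P := @IsAffineHom) h1 ‹_›
  let a : 𝟙_ (Over (Spec (CommRingCat.of Q.left.functionField))) ⟶ Red.bc f Q :=
    Over.homMk (pullback.lift ξ (𝟙 _) (by rw [Category.id_comp])) (pullback.lift_snd _ _ _)
  obtain ⟨g, hg⟩ := exists_lift_point (G := Red.bc f G) (Q := Red.bc f Q) ((Over.pullback f).map i)
    ((Over.pullback f).map q) (isKernel_map f hker) (hcob _ f) a
  let t : Spec (Q.left.presheaf.stalk (genericPoint Q.left)) ⟶ G.left := g.left ≫ pullback.fst G.hom f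
  have ht : t ≫ q.left = Q.left.fromSpecStalk (genericPoint Q.left) := by
    have h5 : (g.left ≫ ((Over.pullback f).map q).left) ≫ pullback.fst Q.hom f = ξ := by
      have h6 : g.left ≫ ((Over.pullback f).map q).left = a.left := congrArg (fun z => Over.Hom.left z) hg
      rw [h6]
      exact pullback.lift_fst _ _ _
    simp only [t]
    rw [Category.assoc]
    refine (congrArg (g.left ≫ ·) h1.w).trans ?_
    rw [← Category.assoc]
    exact h5
  obtain ⟨U, hxU, s, -, hs⟩ := spread_out_of_isGermInjective' (𝟙 Q.left) q.left t (by rw [ht, Category.comp_id])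
  exact ⟨U, ⟨_, hxU⟩, s, by rw [hs, Category.comp_id]⟩

/-- left translation -/
noncomputable def tr {G : Over (Spec (CommRingCat.of k))} [GrpObj G] (g : 𝟙_ (Over (Spec (CommRingCat.of k))) ⟶ G) :
    G ⟶ G := (toUnit G ≫ g) * 𝟙 G

theorem comp_tr {G T : Over (Spec (CommRingCat.of k))} [GrpObj G] (g : 𝟙_ (Over (Spec (CommRingCat.of k))) ⟶ G)
    (x : T ⟶ G) : x ≫ tr g = (toUnit T ≫ g) * x := by
  rw [tr, MonObj.comp_mul, Category.comp_id, ← Category.assoc, toUnit_unique (x ≫ toUnit G) (toUnit T)]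

theorem tr_comp {G H : Over (Spec (CommRingCat.of k))} [GrpObj G] [GrpObj H]
    (g : 𝟙_ (Over (Spec (CommRingCat.of k))) ⟶ G) (q : G ⟶ H) [IsMonHom q] : tr g ≫ q = q ≫ tr (g ≫ q) := by
  rw [comp_tr, tr, MonObj.mul_comp, Category.id_comp, Category.assoc]

theorem tr_tr {G : Over (Spec (CommRingCat.of k))} [GrpObj G] (g : 𝟙_ (Over (Spec (CommRingCat.of k))) ⟶ G) :
    tr g⁻¹ ≫ tr g = 𝟙 G := by
  rw [comp_tr, tr, ← _root_.mul_assoc, ← MonObj.comp_mul, mul_inv_cancel, MonObj.comp_one, _root_.one_mul]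

open Books.AlgPts in
/-- `G → Q` has local sections. -/
theorem exists_section [IsAlgClosed k] {C G Q : Over (Spec (CommRingCat.of k))} [GrpObj C] [GrpObj G] [GrpObj Q] (i : C ⟶ G)
    [IsMonHom i] (q : G ⟶ Q) [IsMonHom q] [Flat q.left] [Surjective q.left] [IsAffineHom q.left]
    [LocallyOfFiniteType G.hom] [LocallyOfFiniteType Q.hom] [QuasiCompact Q.hom]
    (hker : AlgGrp.IsKernel i q) [IsIntegral Q.left]
    (hcob : ∀ (F : Type u) [Field F] (f : Spec (CommRingCat.of F) ⟶ Spec (CommRingCat.of k)), CobProp (Red.bc f C))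
    (y : ↥Q.left) : ∃ U : Q.left.Opens, y ∈ U ∧ ∃ s : (↑U : Scheme.{u}) ⟶ G.left, s ≫ q.left = U.ι := by
  have hqf : LocallyOfFiniteType q.left := by
    have : LocallyOfFiniteType (q.left ≫ Q.hom) := by rw [Over.w]; infer_instance
    exact locallyOfFiniteType_of_comp q.left Q.hom
  obtain ⟨U₀, hU₀, s₀, hs₀⟩ := exists_generic_section i q hker hcob
  -- a rational point in `U₀`
  obtain ⟨u, hu⟩ := exists_pt_mem (X := Q) hU₀ U₀.2.isLocallyClosed
  -- a rational point in the closure of `y`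
  obtain ⟨z, hz⟩ := exists_pt_mem (X := Q) (U := closure {y}) ⟨y, subset_closure rfl⟩ isClosed_closure.isLocallyClosed
  obtain ⟨g, hg⟩ := K398.Pts.exists_lift q (z * u⁻¹)
  have ht1 : z ≫ tr (g ≫ q)⁻¹ = u := by
    rw [comp_tr, hg, toUnit_unique (toUnit (𝟙_ (Over (Spec (CommRingCat.of k))))) (𝟙 _), Category.id_comp]
    group
  let U : Q.left.Opens := (tr (g ≫ q)⁻¹).left ⁻¹ᵁ U₀
  have hzU : pt z ∈ U := by
    change (tr (g ≫ q)⁻¹).left (pt z) ∈ U₀
    rw [← pt_comp, ht1]
    exact hu
  have hyU : y ∈ U := by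
    have h1 : y ⤳ pt z := specializes_iff_mem_closure.mpr hz
    exact h1.mem_open U.2 hzU
  refine ⟨U, hyU, ((tr (g ≫ q)⁻¹).left ∣_ U₀) ≫ s₀ ≫ (tr g).left, ?_⟩
  have h2 : (tr g).left ≫ q.left = q.left ≫ (tr (g ≫ q)).left := by
    rw [← Over.comp_left, tr_comp, Over.comp_left]
  have h3 : (tr (g ≫ q)⁻¹).left ≫ (tr (g ≫ q)).left = 𝟙 _ := by
    rw [← Over.comp_left, tr_tr]
    rfl
  rw [Category.assoc, Category.assoc, h2, reassoc_of% hs₀, morphismRestrict_ι_assoc, h3, Category.comp_id]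

end K404.LocSec
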