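import Mathlib.LinearAlgebra.Matrix.Permutation
import Mathlib.LinearAlgebra.Matrix.Determinant.Basic
import Mathlib.Data.Finset.Sort
import Mathlib.Algebra.BigOperators.Group.Finset.Basic
import Mathlib.Data.Nat.Factorial.Basic
import Mathlib.Algebra.CharZero.Defs
import Mathlib.GroupTheory.Perm.Fin
import Mathlib.Data.Fintype.Sort
import Mathlib.Tactic

/-! Minors of `M * P_π` summed with signs over all permutations `π`. -/

set_option autoImplicit false

namespace K404.MinorPairing

open Finset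

variable {k : Type*} [CommRing k] {n : ℕ}

theorem sum_perm_eq_det (M : Matrix (Fin n) (Fin n) k) (f : Fin n → Fin n) :
    ∑ π : Equiv.Perm (Fin n), (((Equiv.Perm.sign π : ℤˣ) : ℤ) : k) * ∏ j, M (f j) (π⁻¹ j) =
      (M.submatrix f id).det := by
  rw [Matrix.det_apply']
  refine Finset.sum_congr rfl fun π _ => ?_
  congr 1
  rw [← Equiv.prod_comp π (fun j => M (f j) (π⁻¹ j))]
  simp

theorem mul_permMatrix_apply (M : Matrix (Fin n) (Fin n) k) (π : Equiv.Perm (Fin n)) (i j : Fin n) :
    (M * π.permMatrix k) i j = M i (π⁻¹ j) := by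
  rw [Equiv.Perm.permMatrix, PEquiv.mul_toMatrix_toPEquiv]
  rfl

/-- the function listing `a` on the first block and `b` on the second -/
def cases {p r : ℕ} (a : Fin p → Fin (p + r)) (b : Fin r → Fin (p + r)) : Fin (p + r) → Fin (p + r) :=
  Fin.addCases a b

theorem sum_minors {p r : ℕ} (M : Matrix (Fin (p + r)) (Fin (p + r)) k)
    (a : Fin p → Fin (p + r)) (b : Fin r → Fin (p + r)) :
    ∑ π : Equiv.Perm (Fin (p + r)), (((Equiv.Perm.sign π : ℤˣ) : ℤ) : k) *
      ((M * π.permMatrix k).submatrix a (Fin.castAdd r)).det *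
      ((M * π.permMatrix k).submatrix b (Fin.natAdd p)).det =
    ∑ σ : Equiv.Perm (Fin p), ∑ τ : Equiv.Perm (Fin r),
      ((((Equiv.Perm.sign σ : ℤˣ) : ℤ) : k) * (((Equiv.Perm.sign τ : ℤˣ) : ℤ) : k)) *
        (M.submatrix (cases (a ∘ σ) (b ∘ τ)) id).det := by
  simp_rw [← sum_perm_eq_det, Finset.mul_sum]
  have h : ∀ π : Equiv.Perm (Fin (p + r)), (((Equiv.Perm.sign π : ℤˣ) : ℤ) : k) *
      ((M * π.permMatrix k).submatrix a (Fin.castAdd r)).det *
      ((M * π.permMatrix k).submatrix b (Fin.natAdd p)).det =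
      ∑ σ : Equiv.Perm (Fin p), ∑ τ : Equiv.Perm (Fin r),
      ((((Equiv.Perm.sign σ : ℤˣ) : ℤ) : k) * (((Equiv.Perm.sign τ : ℤˣ) : ℤ) : k)) *
        ((((Equiv.Perm.sign π : ℤˣ) : ℤ) : k) * ∏ j, M (cases (a ∘ σ) (b ∘ τ) j) (π⁻¹ j)) := by
    intro π
    rw [Matrix.det_apply', Matrix.det_apply', mul_assoc, Finset.sum_mul_sum, Finset.mul_sum]
    refine Finset.sum_congr rfl fun σ _ => ?_
    rw [Finset.mul_sum]
    refine Finset.sum_congr rfl fun τ _ => ?_
    rw [Fin.prod_univ_add]
    simp only [Matrix.submatrix_apply, mul_permMatrix_apply, cases, Fin.addCases_left, Fin.addCases_right,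
      Function.comp_apply]
    ring
  rw [Finset.sum_congr rfl fun π _ => h π, Finset.sum_comm]
  refine Finset.sum_congr rfl fun σ _ => ?_
  rw [Finset.sum_comm]

theorem det_submatrix_eq_zero (M : Matrix (Fin n) (Fin n) k) (f : Fin n → Fin n) (hf : ¬ Function.Injective f) :
    (M.submatrix f id).det = 0 := by
  simp only [Function.Injective, not_forall] at hf
  obtain ⟨i, j, h, hij⟩ := hf
  exact Matrix.det_zero_of_row_eq hij (by ext l; simp [Matrix.submatrix, h])

section compl

variable {p r : ℕ} (A : Finset (Fin (p + r))) (hA : A.card = p) (hB : (Aᶜ).card = r)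

/-- the permutation listing `A` and then its complement -/
noncomputable def listPerm : Equiv.Perm (Fin (p + r)) :=
  finSumFinEquiv.symm.trans (finSumEquivOfFinset hA hB)

theorem listPerm_castAdd (i : Fin p) : listPerm A hA hB (Fin.castAdd r i) = A.orderEmbOfFin hA i := by
  simp [listPerm]

theorem listPerm_natAdd (i : Fin r) : listPerm A hA hB (Fin.natAdd p i) = (Aᶜ).orderEmbOfFin hB i := by
  simp [listPerm]

/-- block permutation -/
noncomputable def blockPerm (σ : Equiv.Perm (Fin p)) (τ : Equiv.Perm (Fin r)) : Equiv.Perm (Fin (p + r)) :=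
  (Equiv.permCongr finSumFinEquiv) (Equiv.Perm.sumCongr σ τ)

theorem sign_blockPerm (σ : Equiv.Perm (Fin p)) (τ : Equiv.Perm (Fin r)) :
    Equiv.Perm.sign (blockPerm σ τ) = Equiv.Perm.sign σ * Equiv.Perm.sign τ := by
  rw [blockPerm, Equiv.Perm.sign_permCongr, Equiv.Perm.sign_sumCongr]

theorem cases_eq (σ : Equiv.Perm (Fin p)) (τ : Equiv.Perm (Fin r)) :
    cases (A.orderEmbOfFin hA ∘ σ) ((Aᶜ).orderEmbOfFin hB ∘ τ) = (listPerm A hA hB * blockPerm σ τ : Equiv.Perm _) := by
  funext j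
  refine Fin.addCases (fun i => ?_) (fun i => ?_) j
  · simp [cases, blockPerm, listPerm]
  · simp [cases, blockPerm, listPerm]

theorem sign_listPerm : Equiv.Perm.sign (listPerm A hA hB) =
    (-1 : ℤˣ) ^ ((A ×ˢ Aᶜ).filter (fun ab => ab.2 < ab.1)).card := by
  classical
  rw [Equiv.Perm.sign_eq_prod_prod_Ioi, Finset.prod_sigma', ← Finset.prod_filter_mul_prod_filter_not _
    (fun x : (_ : Fin (p + r)) × Fin (p + r) => listPerm A hA hB x.1 < listPerm A hA hB x.2)]
  rw [Finset.prod_eq_one, one_mul]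
  swap
  · intro x hx
    rw [Finset.mem_filter] at hx
    rw [if_pos hx.2]
  rw [Finset.prod_congr rfl (g := fun _ => (-1 : ℤˣ))]
  swap
  · intro x hx
    rw [Finset.mem_filter] at hx
    rw [if_neg hx.2]
  rw [Finset.prod_const]
  congr 1
  refine Finset.card_bij (fun x _ => (listPerm A hA hB x.1, listPerm A hA hB x.2)) ?_ ?_ ?_
  · rintro ⟨i, j⟩ hx
    simp only [Finset.mem_filter, Finset.mem_sigma, Finset.mem_univ, true_and, Finset.mem_Ioi, not_lt] at hx
    obtain ⟨hij, hle⟩ := hx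
    simp only [Finset.mem_filter, Finset.mem_product]
    have hne : listPerm A hA hB j ≠ listPerm A hA hB i := fun h => hij.ne' ((listPerm A hA hB).injective h)
    have hlt : listPerm A hA hB j < listPerm A hA hB i := lt_of_le_of_ne hle hne
    revert hij hlt
    refine Fin.addCases (fun i' => ?_) (fun i' => ?_) i <;> refine Fin.addCases (fun j' => ?_) (fun j' => ?_) j
    · intro hij hlt
      rw [listPerm_castAdd, listPerm_castAdd] at hlt
      exact absurd ((A.orderEmbOfFin hA).strictMono (show i' < j' from hij)) (not_lt.mpr hlt.le)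
    · intro hij hlt
      refine ⟨⟨?_, ?_⟩, hlt⟩
      · rw [listPerm_castAdd]; exact A.orderEmbOfFin_mem hA _
      · rw [listPerm_natAdd]; exact (Aᶜ).orderEmbOfFin_mem hB _
    · intro hij _
      exfalso
      have := Fin.lt_def.mp hij
      simp at this
      omega
    · intro hij hlt
      rw [listPerm_natAdd, listPerm_natAdd] at hlt
      have h2 : i' < j' := by
        have := Fin.lt_def.mp hij
        simp at this
        exact this
      exact absurd (((Aᶜ).orderEmbOfFin hB).strictMono h2) (not_lt.mpr hlt.le)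
  · rintro ⟨i, j⟩ _ ⟨i', j'⟩ _ h
    simp only [Prod.mk.injEq, EmbeddingLike.apply_eq_iff_eq] at h
    obtain ⟨rfl, rfl⟩ := h
    rfl
  · rintro ⟨a, b⟩ hab
    simp only [Finset.mem_filter, Finset.mem_product] at hab
    obtain ⟨⟨ha, hb⟩, hlt⟩ := hab
    have ha' : a ∈ Set.range (A.orderEmbOfFin hA) := by rw [Finset.range_orderEmbOfFin]; exact ha
    have hb' : b ∈ Set.range ((Aᶜ).orderEmbOfFin hB) := by rw [Finset.range_orderEmbOfFin]; exact hb
    obtain ⟨i, rfl⟩ := ha'
    obtain ⟨j, rfl⟩ := hb'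
    refine ⟨⟨Fin.castAdd r i, Fin.natAdd p j⟩, ?_, ?_⟩
    · simp only [Finset.mem_filter, Finset.mem_sigma, Finset.mem_univ, true_and, Finset.mem_Ioi, not_lt]
      refine ⟨?_, ?_⟩
      · rw [Fin.lt_def]; simp; omega
      · rw [listPerm_castAdd, listPerm_natAdd]; exact hlt.le
    · simp only [listPerm_castAdd, listPerm_natAdd]

end compl

theorem main {p r : ℕ} (M : Matrix (Fin (p + r)) (Fin (p + r)) k)
    (A : Finset (Fin (p + r))) (hA : A.card = p) (B : Finset (Fin (p + r))) (hB : B.card = r) :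
    ∑ π : Equiv.Perm (Fin (p + r)), (((Equiv.Perm.sign π : ℤˣ) : ℤ) : k) *
      ((M * π.permMatrix k).submatrix (A.orderEmbOfFin hA) (Fin.castAdd r)).det *
      ((M * π.permMatrix k).submatrix (B.orderEmbOfFin hB) (Fin.natAdd p)).det =
    if B = Aᶜ then ((p.factorial * r.factorial : ℕ) : k) *
      (-1 : k) ^ ((A ×ˢ Aᶜ).filter (fun ab => ab.2 < ab.1)).card * M.det else 0 := by
  rw [sum_minors]
  split_ifs with h
  · subst h
    have key : ∀ (σ : Equiv.Perm (Fin p)) (τ : Equiv.Perm (Fin r)),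
        ((((Equiv.Perm.sign σ : ℤˣ) : ℤ) : k) * (((Equiv.Perm.sign τ : ℤˣ) : ℤ) : k)) *
        (M.submatrix (cases (A.orderEmbOfFin hA ∘ σ) ((Aᶜ).orderEmbOfFin hB ∘ τ)) id).det =
        (-1 : k) ^ ((A ×ˢ Aᶜ).filter (fun ab => ab.2 < ab.1)).card * M.det := by
      intro σ τ
      rw [cases_eq, Matrix.det_permute, Equiv.Perm.sign_mul, sign_blockPerm, sign_listPerm]
      have hσ : ((((Equiv.Perm.sign σ : ℤˣ) : ℤ) : k)) * ((((Equiv.Perm.sign σ : ℤˣ) : ℤ) : k)) = 1 := by
        rw [← Int.cast_mul, ← Units.val_mul, Int.units_mul_self]; simp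
      have hτ : ((((Equiv.Perm.sign τ : ℤˣ) : ℤ) : k)) * ((((Equiv.Perm.sign τ : ℤˣ) : ℤ) : k)) = 1 := by
        rw [← Int.cast_mul, ← Units.val_mul, Int.units_mul_self]; simp
      push_cast
      calc _ = ((((Equiv.Perm.sign σ : ℤˣ) : ℤ) : k)) * ((((Equiv.Perm.sign σ : ℤˣ) : ℤ) : k)) *
            (((((Equiv.Perm.sign τ : ℤˣ) : ℤ) : k)) * ((((Equiv.Perm.sign τ : ℤˣ) : ℤ) : k))) *
            ((-1 : k) ^ ((A ×ˢ Aᶜ).filter (fun ab => ab.2 < ab.1)).card * M.det) := by ring
        _ = _ := by rw [hσ, hτ, one_mul, one_mul]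
    rw [Finset.sum_congr rfl fun σ _ => Finset.sum_congr rfl fun τ _ => key σ τ]
    rw [Finset.sum_const, Finset.sum_const, Finset.card_univ, Finset.card_univ, Fintype.card_perm, Fintype.card_perm,
      Fintype.card_fin, Fintype.card_fin, smul_smul, nsmul_eq_mul, mul_assoc]
  · refine Finset.sum_eq_zero fun σ _ => Finset.sum_eq_zero fun τ _ => ?_
    rw [det_submatrix_eq_zero, mul_zero]
    intro hinj
    apply h
    have hdisj : Disjoint A B := by
      rw [Finset.disjoint_left]
      intro x hxA hxB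
      have ha' : x ∈ Set.range (A.orderEmbOfFin hA) := by rw [Finset.range_orderEmbOfFin]; exact hxA
      have hb' : x ∈ Set.range (B.orderEmbOfFin hB) := by rw [Finset.range_orderEmbOfFin]; exact hxB
      obtain ⟨i, hi⟩ := ha'
      obtain ⟨j, hj⟩ := hb'
      have := @hinj (Fin.castAdd r (σ⁻¹ i)) (Fin.natAdd p (τ⁻¹ j)) (by simp [cases, hi, hj])
      have := congrArg Fin.val this
      simp at this
      have h1 := (σ⁻¹ i).isLt
      simp at h1
      omega
    have hsub : B ⊆ Aᶜ := by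
      intro x hx
      rw [Finset.mem_compl]
      exact fun h' => Finset.disjoint_left.mp hdisj h' hx
    refine Finset.eq_of_subset_of_card_le hsub ?_
    rw [Finset.card_compl, Fintype.card_fin, hA, hB]
    omega

end K404.MinorPairing
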