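import Groth.Agent.AlgGrp.K404.AbAff
import Groth.Agent.Books.AlgPtsSmooth

/-! Multiplication maps `A × N → G` and base change; images of homomorphisms. -/

set_option autoImplicit false
universe u

open CategoryTheory CategoryTheory.Limits MonoidalCategory CartesianMonoidalCategory MonObj GrpObj AlgebraicGeometry

namespace K404.MulPb

open Desc AbAff

/-- `(a, n) ↦ j(a) i(n)` is the base change of `A → G → Q` along `G → Q` when `N` is the kernel. -/
theorem isPullback_mul {C : Type*} [Category* C] {S : Scheme.{u}} {G N Q A : Over S} [GrpObj G] [GrpObj Q] {i : N ⟶ G}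
    {π : G ⟶ Q} (hker : AlgGrp.IsKernel i π) {j : A ⟶ G} [IsMonHom π] :
    IsPullback (fst A N) ((j ⊗ₘ i) ≫ μ[G]) (j ≫ π) π := by
  have hmono := mono_ker hker
  refine Isotriv.isPullback_of_points ?_ (fun T x y hxy => ?_) (fun T e e' h1 h2 => ?_)
  · have h2 := comp_mulMap j i (𝟙 (A ⊗ N))
    rw [Category.id_comp, Category.id_comp, Category.id_comp] at h2
    rw [h2, MonObj.mul_comp, Category.assoc, Category.assoc, ker_eq_one hker, MonObj.comp_one, _root_.mul_one]
  · have h1 : ((x ≫ j)⁻¹ * y) ≫ π = 1 := by
      rw [MonObj.mul_comp, GrpObj.inv_comp, Category.assoc, hxy, inv_mul_cancel]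
    obtain ⟨n, hn⟩ := exists_lift_ker hker _ h1
    refine ⟨lift x n, lift_fst _ _, ?_⟩
    rw [lift_mulMap, hn, mul_inv_cancel_left]
  · rw [comp_mulMap, comp_mulMap, ← Category.assoc, h1, ← Category.assoc] at h2
    have h3 := mul_left_cancel h2
    apply CartesianMonoidalCategory.hom_ext
    · exact h1
    · rw [← cancel_mono i]
      simpa only [Category.assoc] using h3

/-- Surjectivity of `A → G/N` gives surjectivity of `A × N → G`. -/
theorem surjective_mul {S : Scheme.{u}} {G N Q A : Over S} [GrpObj G] [GrpObj Q] {i : N ⟶ G}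
    {π : G ⟶ Q} (hker : AlgGrp.IsKernel i π) {j : A ⟶ G} [IsMonHom π] [Surjective (j ≫ π).left] :
    Surjective ((j ⊗ₘ i) ≫ μ[G]).left := by
  have h := (isPullback_mul (C := Scheme.{u}) hker (j := j)).map (Over.forget _)
  exact MorphismProperty.of_isPullback (P := @Surjective) h ‹_›

/-- Conversely surjectivity of `A × N → G` gives surjectivity of `A → G/N`. -/
theorem surjective_comp {S : Scheme.{u}} {G N Q A : Over S} [GrpObj G] [GrpObj Q] {i : N ⟶ G}
    {π : G ⟶ Q} (hker : AlgGrp.IsKernel i π) {j : A ⟶ G} [IsMonHom π] [Surjective π.left]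
    [Surjective ((j ⊗ₘ i) ≫ μ[G]).left] : Surjective (j ≫ π).left := by
  have h := (isPullback_mul (C := Scheme.{u}) hker (j := j)).w
  have h3 : Surjective (((j ⊗ₘ i) ≫ μ[G]) ≫ π).left := by
    rw [Over.comp_left]; infer_instance
  rw [← h, Over.comp_left] at h3
  exact Surjective.of_comp (fst A N).left (j ≫ π).left

variable (k : Type u) [Field k]

/-- The image of a homomorphism of algebraic groups. -/
theorem exists_image (G H : Over (Spec (CommRingCat.of k))) [GrpObj G] [GrpObj H] [LocallyOfFiniteType G.hom]
    [LocallyOfFiniteType H.hom] [QuasiCompact G.hom] [IsSeparated H.hom] (u : G ⟶ H) [IsMonHom u] :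
    ∃ (C : Over (Spec (CommRingCat.of k))) (_ : GrpObj C) (p : G ⟶ C) (i : C ⟶ H), IsMonHom p ∧ IsMonHom i ∧ p ≫ i = u ∧
      Flat p.left ∧ Surjective p.left ∧ LocallyOfFinitePresentation p.left ∧ IsClosedImmersion i.left ∧
      LocallyOfFiniteType C.hom ∧ QuasiCompact C.hom ∧ IsSeparated C.hom ∧
      (UniversallyClosed G.hom → IsProper C.hom) ∧ (ConnectedSpace G.left → ConnectedSpace C.left) ∧
      (IsAffine G.left → IsAffine C.left) := by
  have hqc : QuasiCompact u.left := by
    have : QuasiCompact (u.left ≫ H.hom) := by rw [Over.w]; infer_instance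
    exact QuasiCompact.of_comp u.left H.hom
  have hI : IsIntegral (𝟙_ (Over (Spec (CommRingCat.of k)))).left :=
    inferInstanceAs (IsIntegral (Spec (CommRingCat.of k)))
  have hS : Subsingleton (𝟙_ (Over (Spec (CommRingCat.of k)))).left :=
    inferInstanceAs (Subsingleton (Spec (CommRingCat.of k)))
  obtain ⟨C, _, p, i, h1, h2, h3, h4, h5, h6, h7⟩ := Groth.Agent.S3034.result k G H u (by infer_instance)
  have hCft : LocallyOfFiniteType C.hom := by rw [← Over.w i]; infer_instance
  have hCsep : IsSeparated C.hom := by rw [← Over.w i]; infer_instance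
  have hCqc : QuasiCompact C.hom := by
    have : QuasiCompact (p.left ≫ C.hom) := by rw [Over.w]; infer_instance
    have hs : CompactSpace G.left := QuasiCompact.compactSpace_of_compactSpace G.hom
    have : CompactSpace C.left := by
      rw [← isCompact_univ_iff, ← h5.surj.range_eq]
      exact isCompact_range p.left.continuous
    exact quasiCompact_of_compactSpace C.hom
  refine ⟨C, _, p, i, h1, h2, h3, h4, h5, h6, h7, hCft, hCqc, hCsep, fun hG => ?_, fun hG => ?_, fun hG => ?_⟩
  · have huc : UniversallyClosed C.hom := by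
      have h' : UniversallyClosed (p.left ≫ C.hom) := by
        rw [Over.w]; infer_instance
      exact UniversallyClosed.of_comp_surjective p.left C.hom
    exact { }
  · exact h5.surj.connectedSpace p.left.continuous
  · exact Groth.Agent.Sga3.H821.AffProper.isAffine_of_flat_surjective k G C p

end K404.MulPb
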