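import Groth.Agent.AlgGrp.K408.RosRat
import Groth.Agent.AlgGrp.K408.OrbDim
import Groth.Agent.Books.AlgPts

/-!
# Averaging a rational trivialization over the components of the stabilizer (node G1 of S17481)
-/

set_option autoImplicit false
universe u

open CategoryTheory MonoidalCategory CartesianMonoidalCategory MonObj GrpObj AlgebraicGeometry
open Groth.Agent.Lefpen.H725.CocDef Groth.Agent.Lefpen.H521.CartierCoc K515.FF
open TopologicalSpace K408.RosRat K408.OrbDim Groth.Agent.Books.AlgPts Groth.Agent.Books.BorelOrb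

namespace K404.NodeG1

open TopologicalSpace in
theorem finite_connectedComponents {T : Type*} [TopologicalSpace T] [NoetherianSpace T] :
    Finite (ConnectedComponents T) := by
  have hf : Finite (irreducibleComponents T) := NoetherianSpace.finite_irreducibleComponents.to_subtype
  have hne : ∀ Z : irreducibleComponents T, (Z : Set T).Nonempty := fun Z => Z.2.1.nonempty
  refine Finite.of_surjective (fun Z : irreducibleComponents T => (ConnectedComponents.mk (hne Z).some)) ?_
  intro c
  obtain ⟨x, rfl⟩ := ConnectedComponents.surjective_coe c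
  let Z : irreducibleComponents T := ⟨irreducibleComponent x, irreducibleComponent_mem_irreducibleComponents x⟩
  refine ⟨Z, ?_⟩
  have h1 : (hne Z).some ∈ irreducibleComponent x := (hne Z).some_mem
  have h2 : irreducibleComponent x ⊆ connectedComponent x :=
    irreducibleComponent_subset_connectedComponent
  exact ConnectedComponents.coe_eq_coe'.mpr (h2 h1)

section alg

variable {M : Type*} [Group M]

theorem finite_quotient (N : Subgroup M) {C : Type*} [Finite C] (f : M → C)
    (hf : ∀ x y : M, f x = f y → x⁻¹ * y ∈ N) : Finite (M ⧸ N) := by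
  classical
  refine Finite.of_surjective (fun c : Set.range f => (QuotientGroup.mk (Classical.choose c.2) : M ⧸ N)) ?_
  intro q
  obtain ⟨m, rfl⟩ := QuotientGroup.mk_surjective q
  refine ⟨⟨f m, m, rfl⟩, ?_⟩
  apply (QuotientGroup.eq).2
  exact hf _ _ (Classical.choose_spec (⟨m, rfl⟩ : ∃ y, f y = f m))

/-- The product of the translates of an element over the cosets. -/
theorem exists_invariant {E : Type*} [Field E] (N : Subgroup M) [Finite (M ⧸ N)] (R : M → E →+* E)
    (hR : ∀ g h φ, R g (R h φ) = R (g * h) φ) (φ : E) (hφ : ∀ n ∈ N, R n φ = φ) :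
    ∃ (e : ℕ) (g : Fin e → M), 1 ≤ e ∧ ∀ m : M, R m (∏ j, R (g j) φ) = ∏ j, R (g j) φ := by
  classical
  have hfin : Fintype (M ⧸ N) := Fintype.ofFinite _
  let Φ : M ⧸ N → E := Quotient.lift (fun m => R m φ) (by
    intro x y hxy
    have h : x⁻¹ * y ∈ N := QuotientGroup.leftRel_apply.mp hxy
    change R x φ = R y φ
    conv_lhs => rw [← hφ _ h, hR, mul_inv_cancel_left])
  let ε := Fintype.equivFin (M ⧸ N)
  have h1 : ∀ q : M ⧸ N, R q.out φ = Φ q := by
    intro q
    conv_rhs => rw [← QuotientGroup.out_eq' q]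
    rfl
  have h2 : ∀ m : M, R m (∏ q, Φ q) = ∏ q, Φ q := by
    intro m
    rw [map_prod]
    refine Fintype.prod_equiv (MulAction.toPerm m) _ _ (fun q => ?_)
    obtain ⟨y, rfl⟩ := QuotientGroup.mk_surjective q
    change R m (R y φ) = R (m * y) φ
    rw [hR]
  have h3 : (∏ j : Fin (Fintype.card (M ⧸ N)), R ((ε.symm j).out) φ) = ∏ q, Φ q :=
    Fintype.prod_equiv ε.symm _ _ (fun j => h1 _)
  refine ⟨Fintype.card (M ⧸ N), fun j => (ε.symm j).out, Fintype.card_pos, fun m => ?_⟩
  rw [h3, h2]

end alg

variable {K : Type u} [Field K] [IsAlgClosed K]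

section tr

variable {A : Over (Spec (CommRingCat.of K))} [GrpObj A] [IsIntegral A.left]

/-- right translation on rational functions -/
noncomputable def R (g : 𝟙_ (Over (Spec (CommRingCat.of K))) ⟶ A) : A.left.functionField →+* A.left.functionField :=
  fm (rt g).left (rt_η g)

theorem R_R (g h : 𝟙_ (Over (Spec (CommRingCat.of K))) ⟶ A) (φ : A.left.functionField) :
    R g (R h φ) = R (g * h) φ := by
  unfold R
  have e : ((rt g).left ≫ (rt h).left) (genericPoint A.left) = genericPoint A.left := by
    rw [Scheme.Hom.comp_apply, rt_η, rt_η]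
  rw [← fm_comp (rt g).left (rt_η g) (rt h).left (rt_η h) e]
  exact fm_congr _ _ (by rw [← Over.comp_left, rt_rt]) _ _

end tr

/-- Node G1. -/
theorem main (A X : Over (Spec (CommRingCat.of K))) [GrpObj A] [LocallyOfFiniteType A.hom] [QuasiCompact A.hom]
    [IsIntegral A.left] [IsIntegral X.left] (a : AlgGrp.Action A X)
    (x : 𝟙_ (Over (Spec (CommRingCat.of K))) ⟶ X)
    (H' : Over (Spec (CommRingCat.of K))) [GrpObj H'] [LocallyOfFiniteType H'.hom]
    (i : H' ⟶ stab a x) (hmon : @IsMonHom _ _ _ _ _ _ (stabGrp a x).toMonObj i)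
    (hr : Set.range i.left = connectedComponent (pt (@MonObj.one _ _ _ _ (stabGrp a x).toMonObj)))
    (ho : (a.orbitMap x).left (genericPoint A.left) = genericPoint X.left)
    (b : X.left → X.left.functionField) (F : A.left.functionField) (n : ℕ)
    (hF : ∀ z : A.left, UnitAt z (F * fm (a.orbitMap x).left ho (b ((a.orbitMap x).left z)) ^ n))
    (hinv : ∀ (h : 𝟙_ (Over (Spec (CommRingCat.of K))) ⟶ H')
      (hh : (lift (𝟙 A) (toUnit A ≫ h ≫ i ≫ stabι a x) ≫ μ[A]).left (genericPoint A.left) = genericPoint A.left),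
      fm (lift (𝟙 A) (toUnit A ≫ h ≫ i ≫ stabι a x) ≫ μ[A]).left hh F = F) :
    ∃ (e : ℕ) (F' : A.left.functionField), 1 ≤ e ∧
      (∀ z : A.left, UnitAt z (F' * fm (a.orbitMap x).left ho (b ((a.orbitMap x).left z)) ^ (n * e))) ∧
      ∀ h : 𝟙_ (Over (Spec (CommRingCat.of K))) ⟶ stab a x, fm (rt (h ≫ stabι a x)).left (rt_η _) F' = F' := by
  have hlf : LocallyOfFiniteType (stab a x).hom := by
    change LocallyOfFiniteType (Limits.pullback.fst (a.orbitMap x).left x.left ≫ A.hom)
    rw [fst_hom]
    have h1 : LocallyOfFiniteType (𝟙_ (Over (Spec (CommRingCat.of K)))).hom := by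
      change LocallyOfFiniteType (𝟙 _); infer_instance
    have h2 : LocallyOfFiniteType (a.orbitMap x).left := lft_of a x
    infer_instance
  have hqc : QuasiCompact (stab a x).hom := by
    change QuasiCompact (Limits.pullback.fst (a.orbitMap x).left x.left ≫ A.hom)
    have h1 : NoetherianSpace (𝟙_ (Over (Spec (CommRingCat.of K)))).left :=
      inferInstanceAs (NoetherianSpace (Spec (CommRingCat.of K)))
    have h2 : QuasiCompact x.left := quasiCompact_of_noetherianSpace_source _
    infer_instance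
  let _ : GrpObj (stab a x) := stabGrp a x
  have hmi : IsMonHom i := hmon
  have hmι : IsMonHom (stabι a x) := ⟨stabLift_comp _ _ _ _, stabLift_comp _ _ _ _⟩
  have hnoeth : IsLocallyNoetherian (stab a x).left :=
    LocallyOfFiniteType.isLocallyNoetherian (Y := Spec (CommRingCat.of K)) (stab a x).hom
  have hcs : CompactSpace (stab a x).left := (quasiCompact_iff_compactSpace (stab a x).hom).mp hqc
  have hN0 : IsNoetherian (stab a x).left := { }
  have hfinC : Finite (_root_.ConnectedComponents (stab a x).left) := finite_connectedComponents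
  -- the subgroup of the points of `H'`
  let N : Subgroup (𝟙_ (Over (Spec (CommRingCat.of K))) ⟶ stab a x) :=
    { carrier := {h | ∃ y : 𝟙_ (Over (Spec (CommRingCat.of K))) ⟶ H', y ≫ i = h}
      mul_mem' := by
        rintro _ _ ⟨y, rfl⟩ ⟨z, rfl⟩
        exact ⟨y * z, MonObj.mul_comp _ _ _⟩
      one_mem' := ⟨1, MonObj.one_comp _⟩
      inv_mem' := by
        rintro _ ⟨y, rfl⟩
        exact ⟨y⁻¹, GrpObj.inv_comp _ _⟩ }
  have hN : ∀ h : 𝟙_ (Over (Spec (CommRingCat.of K))) ⟶ stab a x,
      pt h ∈ connectedComponent (pt η[stab a x]) → h ∈ N := by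
    intro h hh
    have hh' : pt h ∈ Set.range i.left := by
      rw [hr]
      exact hh
    exact exists_comp_eq_of_pt_mem_range i h hh'
  have hfin : Finite ((𝟙_ (Over (Spec (CommRingCat.of K))) ⟶ stab a x) ⧸ N) := by
    refine finite_quotient N (fun h => (ConnectedComponents.mk (pt h) : _root_.ConnectedComponents (stab a x).left)) ?_
    intro h h' hhh
    apply hN
    have h1 : pt h' ∈ connectedComponent (pt h) := ConnectedComponents.coe_eq_coe'.mp hhh.symm
    obtain ⟨l, hl⟩ : ∃ l : stab a x ⟶ stab a x, l = (toUnit _ ≫ h⁻¹) * 𝟙 _ := ⟨_, rfl⟩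
    have hl' : ∀ g : 𝟙_ (Over (Spec (CommRingCat.of K))) ⟶ stab a x, g ≫ l = h⁻¹ * g := by
      intro g
      rw [hl, MonObj.comp_mul, Category.comp_id, ← Category.assoc, toUnit_unique (g ≫ toUnit _) (𝟙 _),
        Category.id_comp]
    have h2 : pt (h ≫ l) = pt η[stab a x] := by
      rw [hl', inv_mul_cancel, MonObj.one_eq_one]
    rw [← hl', pt_comp, ← h2, pt_comp]
    exact l.left.continuous.image_connectedComponent_subset _ ⟨_, h1, rfl⟩
  obtain ⟨e, g, he, hg⟩ := exists_invariant N (fun h => R (h ≫ stabι a x)) (fun g h φ => by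
    rw [R_R, MonObj.mul_comp]) F (by
    rintro _ ⟨y, rfl⟩
    have h1 := hinv y (by
      have := rt_η (A := A) (y ≫ i ≫ stabι a x)
      exact this)
    refine Eq.trans ?_ h1
    unfold R
    exact fm_congr _ _ (by rw [Category.assoc]; rfl) _ _)
  refine ⟨e, ∏ j, R (g j ≫ stabι a x) F, he, ?_, fun h => hg h⟩
  intro z
  have key : ∀ j, UnitAt z (R (g j ≫ stabι a x) F *
      fm (a.orbitMap x).left ho (b ((a.orbitMap x).left z)) ^ n) := by
    intro j
    have h1 := fm_unitAt (rt (g j ≫ stabι a x)).left (rt_η _) (hF ((rt (g j ≫ stabι a x)).left z))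
    have h2 : rt (g j ≫ stabι a x) ≫ a.orbitMap x = a.orbitMap x := by
      rw [comp_orbitMap, rt_eq, mul_sm]
      have h3 := comp_stabι_sm a x (g j)
      have h4 : sm a (toUnit A ≫ g j ≫ stabι a x) (toUnit A ≫ x) = toUnit A ≫ x := by
        have h5 := congrArg (fun t => toUnit A ≫ t) h3
        simp only [comp_sm] at h5
        rw [toUnit_unique (toUnit (𝟙_ (Over (Spec (CommRingCat.of K))))) (𝟙 _), Category.id_comp] at h5
        exact h5
      rw [h4, orbitMap_eq]
    have hpt : (a.orbitMap x).left ((rt (g j ≫ stabι a x)).left z) = (a.orbitMap x).left z := by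
      rw [← Scheme.Hom.comp_apply, ← Over.comp_left, h2]
    refine unitAt_congr h1 ?_
    rw [map_mul, map_pow, hpt]
    congr 2
    rw [← fm_comp (rt (g j ≫ stabι a x)).left (rt_η _) (a.orbitMap x).left ho
      (by rw [Scheme.Hom.comp_apply, rt_η, ho])]
    exact fm_congr _ _ (by rw [← Over.comp_left, h2]) _ _
  have h1 : UnitAt z (∏ j, (R (g j ≫ stabι a x) F *
      fm (a.orbitMap x).left ho (b ((a.orbitMap x).left z)) ^ n)) := by
    refine Finset.prod_induction _ (UnitAt z) (fun _ _ => unitAt_mul) (unitAt_one z) (fun j _ => key j)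
  refine unitAt_congr h1 ?_
  rw [Finset.prod_mul_distrib, Finset.prod_const, Finset.card_univ, Fintype.card_fin, ← _root_.pow_mul]

end K404.NodeG1
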