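import Groth.Agent.AlgGrp.K408.RosRat
import Groth.Agent.AlgGrp.K408.OrbDim
import Groth.Agent.Books.AlgPts
import Groth.Agent.Books.AlgPtsSmooth
import Groth.Agent.S0353

/-!
# Invariant functions are, up to a power, invariant under the stabilizer scheme (node G2a of S17481)
-/

set_option autoImplicit false
universe u

open CategoryTheory MonoidalCategory CartesianMonoidalCategory MonObj GrpObj AlgebraicGeometry
open Groth.Agent.Lefpen.H725.CocDef Groth.Agent.Lefpen.H521.CartierCoc K515.FF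
open TopologicalSpace K408.RosRat K408.OrbDim Groth.Agent.Books.AlgPts Groth.Agent.Books.BorelOrb

namespace K404.NodeG2a

variable {K : Type u} [Field K]

theorem appLE_comp {X Y Z : Scheme.{u}} (f : X ⟶ Y) (g : Y ⟶ Z) (U : Z.Opens) (V : Y.Opens) (W : X.Opens)
    (h1 : V ≤ g ⁻¹ᵁ U) (h2 : W ≤ f ⁻¹ᵁ V) (h3 : W ≤ (f ≫ g) ⁻¹ᵁ U) (s : Γ(Z, U)) :
    (f ≫ g).appLE U W h3 s = f.appLE V W h2 (g.appLE U V h1 s) := by
  rw [← Scheme.Hom.appLE_comp_appLE f g U V W h1 h2]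
  rfl

theorem appLE_congr {X Y : Scheme.{u}} {f g : X ⟶ Y} (e : f = g) (U : Y.Opens) (W : X.Opens)
    (h1 : W ≤ f ⁻¹ᵁ U) (h2 : W ≤ g ⁻¹ᵁ U) (s : Γ(Y, U)) : f.appLE U W h1 s = g.appLE U W h2 s := by
  subst e; rfl

/-- A section vanishing at all rational points is nilpotent. -/
theorem isNilpotent_of_pt [IsAlgClosed K] (Z : Over (Spec (CommRingCat.of K))) [LocallyOfFiniteType Z.hom]
    (U : Z.left.Opens) (hU : IsCompact (U : Set Z.left)) (d : Γ(Z.left, U))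
    (hd : ∀ z : 𝟙_ (Over (Spec (CommRingCat.of K))) ⟶ Z, z.left.app U d = 0) : IsNilpotent d := by
  rw [Scheme.isNilpotent_iff_basicOpen_eq_bot_of_isCompact hU]
  by_contra hne
  have h1 : (Z.left.basicOpen d : Set Z.left).Nonempty := by
    by_contra h
    exact hne (TopologicalSpace.Opens.ext (Set.not_nonempty_iff_eq_empty.mp h))
  obtain ⟨z, hz⟩ := exists_pt_mem (X := Z) h1 (Z.left.basicOpen d).isOpen.isLocallyClosed
  have h2 : (IsLocalRing.closedPoint K : Spec (CommRingCat.of K)) ∈ z.left ⁻¹ᵁ (Z.left.basicOpen d) := hz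
  rw [Scheme.preimage_basicOpen, hd z, Scheme.basicOpen_zero] at h2
  exact h2

/-- The difference of two pull-backs of a function vanishes at a point where the two maps differ by an
automorphism fixing the function. -/
theorem vanish {A Z P : Scheme.{u}} (f1 f2 : Z ⟶ A) (W : A.Opens) (hW : f1 ⁻¹ᵁ W = f2 ⁻¹ᵁ W)
    (s : Γ(A, W)) (z : P ⟶ Z) (r : A ⟶ A) (hr : z ≫ f2 = (z ≫ f1) ≫ r) (hW' : W ≤ r ⁻¹ᵁ W)
    (hs : r.appLE W W hW' s = s) :
    z.app (f1 ⁻¹ᵁ W) (f1.appLE W (f1 ⁻¹ᵁ W) le_rfl s - f2.appLE W (f1 ⁻¹ᵁ W) hW.le s) = 0 := by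
  have h0 : z.app (f1 ⁻¹ᵁ W) = z.appLE (f1 ⁻¹ᵁ W) (z ⁻¹ᵁ (f1 ⁻¹ᵁ W)) le_rfl := by
    rw [Scheme.Hom.app_eq_appLE]
  rw [h0, map_sub, sub_eq_zero]
  have h3 : z ⁻¹ᵁ (f1 ⁻¹ᵁ W) ≤ (z ≫ f2) ⁻¹ᵁ W := z.preimage_mono hW.le
  have h4 : z ⁻¹ᵁ (f1 ⁻¹ᵁ W) ≤ ((z ≫ f1) ≫ r) ⁻¹ᵁ W := by rw [← hr]; exact h3
  have h5 : z ⁻¹ᵁ (f1 ⁻¹ᵁ W) ≤ (z ≫ f1) ⁻¹ᵁ W := le_rfl
  have e2 : z.appLE (f1 ⁻¹ᵁ W) (z ⁻¹ᵁ (f1 ⁻¹ᵁ W)) le_rfl (f2.appLE W (f1 ⁻¹ᵁ W) hW.le s) =
      (z ≫ f2).appLE W (z ⁻¹ᵁ (f1 ⁻¹ᵁ W)) h3 s := (appLE_comp z f2 W _ _ hW.le le_rfl h3 s).symm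
  have e1 : z.appLE (f1 ⁻¹ᵁ W) (z ⁻¹ᵁ (f1 ⁻¹ᵁ W)) le_rfl (f1.appLE W (f1 ⁻¹ᵁ W) le_rfl s) =
      (z ≫ f1).appLE W (z ⁻¹ᵁ (f1 ⁻¹ᵁ W)) h5 s := (appLE_comp z f1 W _ _ le_rfl le_rfl h5 s).symm
  have e3 : (z ≫ f2).appLE W (z ⁻¹ᵁ (f1 ⁻¹ᵁ W)) h3 s = ((z ≫ f1) ≫ r).appLE W (z ⁻¹ᵁ (f1 ⁻¹ᵁ W)) h4 s :=
    appLE_congr hr W _ h3 h4 s
  have e4 : ((z ≫ f1) ≫ r).appLE W (z ⁻¹ᵁ (f1 ⁻¹ᵁ W)) h4 s =
      (z ≫ f1).appLE W (z ⁻¹ᵁ (f1 ⁻¹ᵁ W)) h5 (r.appLE W W hW' s) :=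
    appLE_comp (z ≫ f1) r W W _ hW' h5 h4 s
  refine e1.trans ?_
  refine Eq.trans ?_ e2.symm
  refine Eq.trans ?_ e3.symm
  refine Eq.trans ?_ e4.symm
  exact congrArg _ hs.symm

/-- If the difference of the images of an element is nilpotent then the images of a power are equal. -/
theorem exists_pow {R S : Type*} [CommRing R] [CommRing S] (f g : R →+* S) (s : R) (φ : K →+* S)
    (h0 : CharZero K → IsReduced S) (hnil : IsNilpotent (f s - g s)) :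
    ∃ q : ℕ, 1 ≤ q ∧ f (s ^ q) = g (s ^ q) := by
  rcases subsingleton_or_nontrivial S with hsub | hnon
  · exact ⟨1, le_rfl, Subsingleton.elim _ _⟩
  obtain ⟨p, hp⟩ := ExpChar.exists K
  rcases hp with _ | hp
  · have := h0 inferInstance
    have h1 : f s - g s = 0 := hnil.eq_zero
    refine ⟨1, le_rfl, ?_⟩
    rw [_root_.pow_one]
    exact sub_eq_zero.mp h1
  · have hcp : ExpChar K p := ExpChar.prime hp
    have hcp' : ExpChar S p := expChar_of_injective_ringHom φ.injective p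
    obtain ⟨n, hn⟩ := hnil
    refine ⟨p ^ n, Nat.one_le_pow _ _ hp.pos, ?_⟩
    have h1 : (f s - g s) ^ (p ^ n) = 0 := pow_eq_zero_of_le (Nat.lt_pow_self hp.one_lt).le hn
    rw [sub_pow_expChar_pow, sub_eq_zero] at h1
    rw [map_pow, map_pow]
    exact h1

/-- Node G2a, for a pair of morphisms. -/
theorem main_aux [IsAlgClosed K] (A Z : Over (Spec (CommRingCat.of K))) [LocallyOfFiniteType Z.hom]
    [QuasiCompact Z.hom] (hred : CharZero K → AlgebraicGeometry.IsReduced Z.left) (f1 f2 : Z ⟶ A)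
    (W : A.left.Opens) (hW : f1.left ⁻¹ᵁ W = f2.left ⁻¹ᵁ W) (s : Γ(A.left, W))
    (hs : ∀ z : 𝟙_ (Over (Spec (CommRingCat.of K))) ⟶ Z,
      ∃ (r : A ⟶ A) (hW' : W ≤ r.left ⁻¹ᵁ W), z ≫ f2 = (z ≫ f1) ≫ r ∧ r.left.appLE W W hW' s = s) :
    ∃ q : ℕ, 1 ≤ q ∧
      f1.left.appLE W (f1.left ⁻¹ᵁ W) le_rfl (s ^ q) = f2.left.appLE W (f1.left ⁻¹ᵁ W) hW.le (s ^ q) := by
  have hcs : CompactSpace Z.left := (quasiCompact_iff_compactSpace Z.hom).mp inferInstance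
  have hN1 : IsLocallyNoetherian Z.left :=
    LocallyOfFiniteType.isLocallyNoetherian (Y := Spec (CommRingCat.of K)) Z.hom
  have hN0 : IsNoetherian Z.left := { }
  have hnil : IsNilpotent (f1.left.appLE W (f1.left ⁻¹ᵁ W) le_rfl s - f2.left.appLE W (f1.left ⁻¹ᵁ W) hW.le s) := by
    apply isNilpotent_of_pt Z _ (NoetherianSpace.isCompact _)
    intro z
    obtain ⟨r, hW', hr, hrs⟩ := hs z
    exact vanish f1.left f2.left W hW s z.left r.left (congrArg (fun t => t.left) hr) hW' hrs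
  let φ : K →+* Γ(Z.left, f1.left ⁻¹ᵁ W) :=
    ((Scheme.ΓSpecIso (CommRingCat.of K)).inv ≫ Z.hom.appLE ⊤ _ le_top).hom
  refine exists_pow (f1.left.appLE W (f1.left ⁻¹ᵁ W) le_rfl).hom (f2.left.appLE W (f1.left ⁻¹ᵁ W) hW.le).hom
    s φ (fun h => ?_) hnil
  have := hred h
  infer_instance

/-- Node G2a. -/
theorem main [IsAlgClosed K] (A X : Over (Spec (CommRingCat.of K))) [GrpObj A]
    [QuasiCompact A.hom] [Smooth A.hom] [IsIntegral A.left] (a : AlgGrp.Action A X)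
    (x : 𝟙_ (Over (Spec (CommRingCat.of K))) ⟶ X)
    (W : A.left.Opens) (hηW : genericPoint A.left ∈ W)
    (hW : (fst A (stab a x)).left ⁻¹ᵁ W = (actR a x).left ⁻¹ᵁ W) (s : Γ(A.left, W))
    (hs : ∀ h : 𝟙_ (Over (Spec (CommRingCat.of K))) ⟶ stab a x,
      fm (rt (h ≫ stabι a x)).left (rt_η _) (ff W hηW s) = ff W hηW s) :
    ∃ q : ℕ, 1 ≤ q ∧
      (fst A (stab a x)).left.appLE W ((fst A (stab a x)).left ⁻¹ᵁ W) le_rfl (s ^ q) =
      (actR a x).left.appLE W ((fst A (stab a x)).left ⁻¹ᵁ W) hW.le (s ^ q) := by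
  have hlf : LocallyOfFiniteType (stab a x).hom := by
    change LocallyOfFiniteType (Limits.pullback.fst (a.orbitMap x).left x.left ≫ A.hom)
    rw [fst_hom]
    have h1 : LocallyOfFiniteType (𝟙_ (Over (Spec (CommRingCat.of K)))).hom := by
      change LocallyOfFiniteType (𝟙 _); infer_instance
    have h2 : LocallyOfFiniteType (a.orbitMap x).left := lft_of a x
    infer_instance
  have hqc : QuasiCompact (stab a x).hom := by
    change QuasiCompact (Limits.pullback.fst (a.orbitMap x).left x.left ≫ A.hom)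
    have h1 : NoetherianSpace (𝟙_ (Over (Spec (CommRingCat.of K)))).left :=
      inferInstanceAs (NoetherianSpace (Spec (CommRingCat.of K)))
    have h2 : QuasiCompact x.left := quasiCompact_of_noetherianSpace_source _
    infer_instance
  have hAH : LocallyOfFiniteType (A ⊗ stab a x).hom := by
    change LocallyOfFiniteType (Limits.pullback.fst A.hom (stab a x).hom ≫ A.hom)
    infer_instance
  have hAHq : QuasiCompact (A ⊗ stab a x).hom := by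
    change QuasiCompact (Limits.pullback.fst A.hom (stab a x).hom ≫ A.hom)
    infer_instance
  have hlt : ∀ h : 𝟙_ (Over (Spec (CommRingCat.of K))) ⟶ stab a x,
      lift (𝟙 A) (toUnit A ≫ h) ≫ actR a x = rt (h ≫ stabι a x) := by
    intro h
    rw [actR, MonObj.comp_mul, lift_fst, lift_snd_assoc, rt_eq, Category.assoc]
  have hW' : ∀ h : 𝟙_ (Over (Spec (CommRingCat.of K))) ⟶ stab a x,
      W ≤ (rt (h ≫ stabι a x)).left ⁻¹ᵁ W := by
    intro h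
    have h1 : (lift (𝟙 A) (toUnit A ≫ h)).left ⁻¹ᵁ ((fst A (stab a x)).left ⁻¹ᵁ W) = W := by
      rw [← Scheme.Hom.comp_preimage, ← Over.comp_left, lift_fst]
      rfl
    have h2 : (lift (𝟙 A) (toUnit A ≫ h)).left ⁻¹ᵁ ((actR a x).left ⁻¹ᵁ W) =
        (rt (h ≫ stabι a x)).left ⁻¹ᵁ W := by
      rw [← Scheme.Hom.comp_preimage, ← Over.comp_left, hlt]
    rw [← h2, ← hW, h1]
  have hs' : ∀ h : 𝟙_ (Over (Spec (CommRingCat.of K))) ⟶ stab a x,
      (rt (h ≫ stabι a x)).left.appLE W W (hW' h) s = s := by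
    intro h
    have h1 := hs h
    rw [fm_germ (rt (h ≫ stabι a x)).left (rt_η _) W hηW (hW' h hηW)] at h1
    apply ff_injective W hηW
    refine Eq.trans ?_ h1
    exact TopCat.Presheaf.germ_res_apply A.left.presheaf (homOfLE (hW' h)) (genericPoint A.left) hηW _
  refine main_aux A (A ⊗ stab a x) (fun h => ?_) (fst A (stab a x)) (actR a x) W hW s ?_
  · have hsm : Smooth (stab a x).hom := by
      let _ : GrpObj (stab a x) := stabGrp a x
      exact Groth.Agent.S0353.result K (stab a x)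
    have hsm' : Smooth (A ⊗ stab a x).hom := by
      change Smooth (Limits.pullback.fst A.hom (stab a x).hom ≫ A.hom)
      infer_instance
    exact Groth.Agent.Books.AlgPtsSmooth.isReduced_of_smooth (A ⊗ stab a x)
  · intro z
    refine ⟨rt ((z ≫ snd A (stab a x)) ≫ stabι a x), hW' _, ?_, hs' _⟩
    rw [comp_rt, actR, MonObj.comp_mul,
      toUnit_unique (toUnit (𝟙_ (Over (Spec (CommRingCat.of K))))) (𝟙 _), Category.id_comp, Category.assoc]

end K404.NodeG2a
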