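import Groth.Agent.AlgGrp.K408.NodeGMain
import Groth.Agent.AlgGrp.K404.NodeG2a

/-!
# NODE G of S17481, complete
-/

set_option autoImplicit false
universe u

open CategoryTheory MonoidalCategory CartesianMonoidalCategory MonObj GrpObj AlgebraicGeometry
open Groth.Agent.Lefpen.H725.CocDef Groth.Agent.Lefpen.H521.CartierCoc K515.FF

namespace K404.NodeGFin

open K408 RatRes RosRat OrbDim

theorem hpow (k : Type u) [Field k] [IsAlgClosed k] (A X : Over (Spec (CommRingCat.of k))) [GrpObj A]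
      [IsAffine A.left] [Smooth A.hom] [IsIntegral A.left]
      [IsIntegral X.left] [IsSeparated X.hom] [LocallyOfFiniteType X.hom] [QuasiCompact X.hom]
      (a : AlgGrp.Action A X) (x : 𝟙_ (Over (Spec (CommRingCat.of k))) ⟶ X)
      (V : X.left.Opens) (_ : IsAffineOpen V) (hV : genericPoint A.left ∈ (a.orbitMap x).left ⁻¹ᵁ V)
      (s : Γ(A.left, (a.orbitMap x).left ⁻¹ᵁ V))
      (hs : ∀ h : 𝟙_ (Over (Spec (CommRingCat.of k))) ⟶ stab a x,
        fm (rt (h ≫ stabι a x)).left (rt_η _) (ff _ hV s) = ff _ hV s) :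
      ∃ q : ℕ, 1 ≤ q ∧ ((fst A (stab a x)).left.app ((a.orbitMap x).left ⁻¹ᵁ V)).hom (s ^ q) =
        ((actR a x).left.appLE ((a.orbitMap x).left ⁻¹ᵁ V) _ (OrbDesc.preimage_le a x V)).hom (s ^ q) := by
  have hAq : QuasiCompact A.hom := inferInstance
  have hW : (fst A (stab a x)).left ⁻¹ᵁ (a.orbitMap x).left ⁻¹ᵁ V =
      (actR a x).left ⁻¹ᵁ (a.orbitMap x).left ⁻¹ᵁ V := by
    rw [← Scheme.Hom.comp_preimage, ← Scheme.Hom.comp_preimage, ← Over.comp_left, ← Over.comp_left,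
      (isPullback_actR a x).w]
  obtain ⟨q, hq, h⟩ := K404.NodeG2a.main A X a x ((a.orbitMap x).left ⁻¹ᵁ V) hV hW s hs
  refine ⟨q, hq, ?_⟩
  refine Eq.trans ?_ h
  rw [Scheme.Hom.app_eq_appLE]

/-- NODE G. -/
theorem nodeG : Groth.Agent.AlgGrp.K408.AlmPlan.NodeG.{u} :=
  K408.NodeGMain.of_pow hpow

end K404.NodeGFin
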