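import Groth.Agent.AlgGrp.K404.CommLin
import Groth.Agent.Agf.H584.QSolv

/-! Cocycles with values in connected solvable linear groups over an algebraically closed field. -/

set_option autoImplicit false
universe u

open CategoryTheory CategoryTheory.Limits MonoidalCategory CartesianMonoidalCategory MonObj GrpObj AlgebraicGeometry

namespace K404.SolvLin

open K400.TorsExt CobExt CobDS Groth.Agent
open Agf.H584.QSolv Agf.H584.QBasic Agf.H584.QExt Groth.Agent.Books.AlgPts Groth.Agent.Books.AlgPtsGrp
  Groth.Agent.Books.AlgPtsIrred Groth.Agent.Books.AlgPtsGen Groth.Agent.Books.AlgPtsSmooth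
open scoped commutatorElement

variable {k : Type u} [Field k] [IsAlgClosed k]

omit [IsAlgClosed k] in
theorem isCommMonObj_of_comm {G : Over (Spec (CommRingCat.of k))} [GrpObj G] (h : comm G = 1) : IsCommMonObj G := by
  constructor
  have h1 := mul_comm_of_comm h (fst G G) (snd G G)
  have h2 : μ[G] = fst G G * snd G G := by rw [Hom.mul_def, lift_fst_snd, Category.id_comp]
  have h3 : (β_ G G).hom ≫ μ[G] = snd G G * fst G G := by
    rw [h2, MonObj.comp_mul, braiding_hom_fst, braiding_hom_snd]
  rw [h3, h2, h1]

theorem cobProp_of_derivedSeries (F : Type u) [Field F] (f : Spec (CommRingCat.of F) ⟶ Spec (CommRingCat.of k))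
    (n : ℕ) :
    ∀ (G : Over (Spec (CommRingCat.of k))) [GrpObj G] [IsAffine G.left] [Smooth G.hom]
      [ConnectedSpace G.left], derivedSeries (𝟙_ (Over (Spec (CommRingCat.of k))) ⟶ G) n = ⊥ →
      CobProp (Red.bc f G) := by
  induction n with
  | zero =>
    intro G _ _ _ _ hn
    have hft : LocallyOfFiniteType G.hom := inferInstance
    have hG : IsVar G := isVar_of_smooth G
    have hGG := hG.tensor hG
    have := hGG.isIntegral
    have := hGG.lft
    have hcm : IsCommMonObj G := isCommMonObj_of_comm (eq_one_of_points (comm G) (fun x => by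
      have h1 : x ≫ comm G ∈ (⊥ : Subgroup (𝟙_ (Over (Spec (CommRingCat.of k))) ⟶ G)) := by
        rw [← hn, derivedSeries_zero]
        trivial
      exact h1))
    exact CommLin.cobProp_bc F f G
  | succ n ih =>
    intro G _ _ _ _ hn
    have hft : LocallyOfFiniteType G.hom := inferInstance
    have hG : IsVar G := isVar_of_smooth G
    have hv := vals_comm G
    obtain ⟨D, _, d, h1, h2, h5, h3, h4⟩ := exists_subgroup_scheme (hG.tensor hG) (comm G)
      (by rw [hv]; exact one_mem_commutatorSet _)
      (by
        rw [hv]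
        ext g
        rw [Set.mem_inv]
        constructor
        · rintro ⟨a, b, h⟩
          exact ⟨b, a, by rw [← commutatorElement_inv, h, _root_.inv_inv]⟩
        · rintro ⟨a, b, rfl⟩
          exact ⟨b, a, (commutatorElement_inv a b).symm⟩)
    rw [hv, ← commutator_eq_closure] at h4
    have hDint := h5.isIntegral
    have hDaff : IsAffine D.left := isAffine_of_closed d
    have hDconn : ConnectedSpace D.left := inferInstance
    have hmono : Mono d := Over.mono_of_mono_left d
    have hmem : ∀ x : 𝟙_ (Over (Spec (CommRingCat.of k))) ⟶ G,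
        (∃ y : 𝟙_ (Over (Spec (CommRingCat.of k))) ⟶ D, y ≫ d = x) ↔ x ∈ _root_.commutator (𝟙_ (Over (Spec (CommRingCat.of k))) ⟶ G) := by
      intro x
      rw [← SetLike.mem_coe, ← h4]
      rfl
    -- the derived series
    have hDs : derivedSeries (𝟙_ (Over (Spec (CommRingCat.of k))) ⟶ D) n = ⊥ := by
      let φ : (𝟙_ (Over (Spec (CommRingCat.of k))) ⟶ D) →* (𝟙_ (Over (Spec (CommRingCat.of k))) ⟶ G) :=
        { toFun := fun x => x ≫ d
          map_one' := MonObj.one_comp d
          map_mul' := fun x y => MonObj.mul_comp x y d }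
      have hφ : Function.Injective φ := fun x y h => (cancel_mono d).1 h
      have h6 := map_derivedSeries_le φ (by
        rintro _ ⟨y, rfl⟩
        exact (hmem _).1 ⟨y, rfl⟩) n
      rw [hn, le_bot_iff, Subgroup.map_eq_bot_iff_of_injective _ hφ] at h6
      exact h6
    have hDsm : Smooth D.hom := inferInstance
    have hDcob : CobProp (Red.bc f D) := ih D hDs
    -- normality
    have hnorm : AlgGrp.IsNormalHom d := by
      have hGD := hG.tensor h5
      have := hGD.isIntegral
      have := hGD.lft
      obtain ⟨c, hc⟩ := exists_factor (X := G ⊗ D) d (fst G D * (snd G D ≫ d) * (fst G D)⁻¹) (fun x => by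
        rw [hmem, MonObj.comp_mul, MonObj.comp_mul, GrpObj.comp_inv]
        refine (inferInstance : (_root_.commutator (𝟙_ (Over (Spec (CommRingCat.of k))) ⟶ G)).Normal).conj_mem _ ?_ _
        exact (hmem _).1 ⟨x ≫ snd G D, Category.assoc _ _ _⟩)
      intro T g n
      refine ⟨lift g n ≫ c, ?_⟩
      rw [Category.assoc, hc, MonObj.comp_mul, MonObj.comp_mul, GrpObj.comp_inv, lift_fst,
        ← Category.assoc, lift_snd]
    have hqcG : QuasiCompact G.hom := quasiCompact_of_compactSpace G.hom
    obtain ⟨Q, _, π, q1, q2, q3, q4, q5, q6, q7, q8, q9, -, q10, q11⟩ := QuoKit.exists_quotient k G D d hnorm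
    have := q9 inferInstance
    have := q10 inferInstance
    have := q11 inferInstance
    -- the quotient is commutative
    have hGG := hG.tensor hG
    have := hGG.isIntegral
    have := hGG.lft
    obtain ⟨c, hc⟩ := exists_factor (X := G ⊗ G) d (comm G) (fun x => by
      rw [hmem, comp_comm]
      exact Subgroup.commutator_mem_commutator (Subgroup.mem_top _) (Subgroup.mem_top _))
    have hqc : QuasiCompact π.left := quasiCompact_left π
    have hepi := epi_tensorHom π
    have hQc : IsCommMonObj Q := by
      apply isCommMonObj_of_comm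
      rw [← cancel_epi (π ⊗ₘ π), comp_comm, tensorHom_fst, tensorHom_snd, MonObj.comp_one]
      have h7 : comm G ≫ π = 1 := by
        rw [← hc, Category.assoc, q5.w, ← Category.assoc, Hom.one_def]
        congr 1
        exact toUnit_unique _ _
      rw [← h7, Agf.H584.QSolv.comm, MonObj.mul_comp, MonObj.mul_comp, MonObj.mul_comp, GrpObj.inv_comp, GrpObj.inv_comp,
        commutatorElement_def]
    exact ext_bc f d π q5 hDcob (CommLin.cobProp_bc F f Q)

theorem cobProp_of_isSolvable (F : Type u) [Field F] (f : Spec (CommRingCat.of F) ⟶ Spec (CommRingCat.of k))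
    (L : Over (Spec (CommRingCat.of k))) [GrpObj L] [IsAffine L.left] [Smooth L.hom] [ConnectedSpace L.left]
    (h : Red.IsSolvableGrp L) : CobProp (Red.bc f L) := by
  obtain ⟨n, hn⟩ := h
  exact cobProp_of_derivedSeries F f n L (hn _)

theorem isSolvableGrp_of_isNilpotentGrp {S : Scheme.{u}} (L : Over S) [GrpObj L] (h : AGF.IsNilpotentGrp L) :
    Red.IsSolvableGrp L := by
  obtain ⟨n, hn⟩ := h
  refine ⟨n, fun X => ?_⟩
  have h1 : Group.IsNilpotent (X ⟶ L) := ⟨⟨n, hn X⟩⟩
  rw [eq_bot_iff, ← Subgroup.lowerCentralSeries_eq_bot_iff_upperCentralSeries_eq_top.mpr (hn X)]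
  exact Subgroup.derived_le_lower_central n

end K404.SolvLin
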