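import Groth.Agent.Sga3B.DSRigid
import Groth.Agent.Sga3B.PinTransport
import Groth.Agent.AlgGrp.K404.Desc
import Mathlib.Algebra.Module.PID

/-! Exact sequences of split tori over a field split. -/

set_option autoImplicit false
universe u

open CategoryTheory CategoryTheory.Limits MonoidalCategory CartesianMonoidalCategory MonObj GrpObj AlgebraicGeometry
open Groth.Agent.Sga3B.DSRigid Groth.Agent.Sga3B.DSPts Groth.Agent.Sga3B.InfConj Groth.Agent.Sga3B.InfConjFam

namespace K404.TorSplit

open Desc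

variable {S : Scheme.{u}}

lemma DSmap_zero (S : Scheme.{u}) {M N : Type} [AddCommGroup M] [AddCommGroup N] :
    Red.DSmap S (0 : M →+ N) = 1 := by
  apply (dsEquiv _ M).symm.injective
  rw [map_one]
  have h := dsChar_DSmap (0 : M →+ N) (𝟙 (Red.DS S N))
  rw [Category.id_comp] at h
  change dsChar _ = 1
  rw [h]
  ext m
  simp

/-- `DSmap` is injective over a nontrivial ring. -/
lemma DSmap_injective {R : Type u} [CommRing R] [Nontrivial R] {M N : Type} [AddCommGroup M] [AddCommGroup N]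
    {φ φ' : M →+ N} (h : Red.DSmap (Spec (CommRingCat.of R)) φ = Red.DSmap (Spec (CommRingCat.of R)) φ') :
    φ = φ' := by
  -- evaluate on the universal point
  have h1 : univPt R N ≫ Red.DSmap _ φ = univPt R N ≫ Red.DSmap _ φ' := by rw [h]
  rw [univPt, charPt, dsEquiv_DSmap, dsEquiv_DSmap] at h1
  have h2 := (dsEquiv _ M).injective h1
  ext m
  have h3 := DFunLike.congr_fun h2 (Multiplicative.ofAdd m)
  have h4 : gPt R _ (MonoidAlgebra.of R (Multiplicative N) (Multiplicative.ofAdd (φ m))) =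
    gPt R _ (MonoidAlgebra.of R (Multiplicative N) (Multiplicative.ofAdd (φ' m))) := h3
  have h5 := MonoidAlgebra.of_injective (gPt_injective (R := R) _ h4)
  exact congrArg Multiplicative.toAdd h5

/-- A sequence of finite free abelian groups `M₁ → M₂ → M₃` with the first map injective and saturated has a
retraction. -/
lemma exists_retraction {M₁ M₂ : Type} [AddCommGroup M₁] [AddCommGroup M₂] [Module.Finite ℤ M₂]
    (φ : M₁ →+ M₂) (hφ : Function.Injective φ)
    (hs : ∀ (n : ℤ) (x : M₂), n ≠ 0 → n • x ∈ Set.range φ → x ∈ Set.range φ) :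
    ∃ r : M₂ →+ M₁, r.comp φ = AddMonoidHom.id M₁ := by
  let f : M₁ →ₗ[ℤ] M₂ := φ.toIntLinearMap
  have hf : ∀ x, f x = φ x := fun _ => rfl
  let Q := M₂ ⧸ LinearMap.range f
  have htf : Module.IsTorsionFree ℤ Q := by
    refine ⟨fun n hn => ?_⟩
    have hn0 : n ≠ 0 := hn.ne_zero
    intro a b hab
    obtain ⟨a, rfl⟩ := Submodule.mkQ_surjective _ a
    obtain ⟨b, rfl⟩ := Submodule.mkQ_surjective _ b
    have hab' : (LinearMap.range f).mkQ (n • (a - b)) = 0 := by
      rw [map_smul, map_sub, smul_sub]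
      exact sub_eq_zero.mpr hab
    rw [← LinearMap.mem_ker, Submodule.ker_mkQ] at hab'
    obtain ⟨y, hy⟩ := hs n (a - b) hn0 hab'
    have h2 : (LinearMap.range f).mkQ (a - b) = 0 := by
      rw [← LinearMap.mem_ker, Submodule.ker_mkQ]
      exact ⟨y, hy⟩
    rw [map_sub] at h2
    exact sub_eq_zero.mp h2
  have hfree : Module.Free ℤ Q := Module.free_of_finite_type_torsion_free'
  obtain ⟨s, hsec⟩ := Module.projective_lifting_property (LinearMap.range f).mkQ (LinearMap.id : Q →ₗ[ℤ] Q)
    (Submodule.mkQ_surjective _)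
  have hmem : ∀ x, (LinearMap.id - s ∘ₗ (LinearMap.range f).mkQ : M₂ →ₗ[ℤ] M₂) x ∈ LinearMap.range f := by
    intro x
    apply (Submodule.Quotient.mk_eq_zero _).mp
    change (LinearMap.range f).mkQ (x - s ((LinearMap.range f).mkQ x)) = 0
    have := LinearMap.congr_fun hsec ((LinearMap.range f).mkQ x)
    rw [LinearMap.comp_apply] at this
    rw [map_sub, this]
    simp
  refine ⟨((LinearEquiv.ofInjective f hφ).symm.toLinearMap ∘ₗ LinearMap.codRestrict _ _ hmem).toAddMonoidHom, ?_⟩
  ext y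
  change (LinearEquiv.ofInjective f hφ).symm (LinearMap.codRestrict _ _ hmem (φ y)) = y
  rw [LinearEquiv.symm_apply_eq]
  ext1
  change φ y - s ((LinearMap.range f).mkQ (f y)) = φ y
  have : (LinearMap.range f).mkQ (f y) = 0 := by
    rw [← LinearMap.mem_ker, Submodule.ker_mkQ]
    exact ⟨y, rfl⟩
  rw [this, map_zero, sub_zero]

variable {k : Type u} [Field k]

/-- The statement for the diagonalizable groups themselves. -/
theorem main_DS {MK MG MQ : Type} [AddCommGroup MK] [AddCommGroup MG] [AddCommGroup MQ] [Module.Finite ℤ MG]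
    [Module.IsTorsionFree ℤ MK]
    (i : Red.DS (Spec (CommRingCat.of k)) MK ⟶ Red.DS (Spec (CommRingCat.of k)) MG) [IsMonHom i]
    (π : Red.DS (Spec (CommRingCat.of k)) MG ⟶ Red.DS (Spec (CommRingCat.of k)) MQ) [IsMonHom π]
    [Flat π.left] [Surjective π.left] [QuasiCompact π.left] (hker : AlgGrp.IsKernel i π) :
    ∃ s : Red.DS (Spec (CommRingCat.of k)) MQ ⟶ Red.DS (Spec (CommRingCat.of k)) MG, IsMonHom s ∧ s ≫ π = 𝟙 _ := by
  have hepi : Epi π := epi_of π
  obtain ⟨α, hα⟩ := exists_eq_DSmap i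
  obtain ⟨β, hβ⟩ := exists_eq_DSmap π
  -- `β` is injective
  have hβinj : Function.Injective β := by
    rw [injective_iff_map_eq_zero]
    intro m hm
    have h1 : π ≫ Red.DSmap _ (zmultiplesHom MQ m) = π ≫ Red.DSmap _ (0 : ℤ →+ MQ) := by
      rw [hβ, Groth.Agent.Sga3B.PinTransport.DSmap_comp, Groth.Agent.Sga3B.PinTransport.DSmap_comp]
      congr 1
      ext
      simp [hm]
    rw [cancel_epi] at h1
    have h2 := DSmap_injective h1
    have h3 := DFunLike.congr_fun h2 1
    simpa using h3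
  have hαβ : α.comp β = 0 := by
    apply DSmap_injective (R := k)
    rw [← Groth.Agent.Sga3B.PinTransport.DSmap_comp, ← hα, ← hβ, DSmap_zero]
    exact ker_eq_one hker
  -- `β` is saturated
  have hsat : ∀ (n : ℤ) (x : MG), n ≠ 0 → n • x ∈ Set.range β → x ∈ Set.range β := by
    rintro n x hn ⟨y, hy⟩
    have h1 : α x = 0 := by
      have h2 : n • α x = 0 := by
        rw [← map_zsmul, ← hy]
        exact DFunLike.congr_fun hαβ y
      exact (smul_eq_zero.mp h2).resolve_left hn
    have h3 : i ≫ Red.DSmap _ (zmultiplesHom MG x) = 1 := by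
      rw [hα, Groth.Agent.Sga3B.PinTransport.DSmap_comp, ← DSmap_zero]
      congr 1
      ext
      simp [h1]
    have : IsMonHom (Red.DSmap (Spec (CommRingCat.of k)) (zmultiplesHom MG x)) := inferInstance
    obtain ⟨ψ, hψ, hψ2⟩ := exists_desc_hom i π hker _ h3
    obtain ⟨γ, hγ⟩ := exists_eq_DSmap ψ
    rw [hβ, hγ, Groth.Agent.Sga3B.PinTransport.DSmap_comp] at hψ2
    have h4 := DSmap_injective hψ2
    have h5 := DFunLike.congr_fun h4 1
    refine ⟨γ 1, ?_⟩
    simpa using h5
  obtain ⟨r, hr⟩ := exists_retraction β hβinj hsat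
  refine ⟨Red.DSmap _ r, inferInstance, ?_⟩
  rw [hβ, Groth.Agent.Sga3B.PinTransport.DSmap_comp, hr, Groth.Agent.Sga3B.PinTransport.DSmap_id]

end K404.TorSplit
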