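import Groth.Agent.AlgGrp.K404.TorSplit

/-! Exact sequences of split tori over a field split: transport. -/

set_option autoImplicit false
universe u

open CategoryTheory CategoryTheory.Limits MonoidalCategory CartesianMonoidalCategory MonObj GrpObj AlgebraicGeometry

namespace K404.TorSplit

variable {k : Type u} [Field k]

instance isAffine_DS (M : Type) [AddCommGroup M] : IsAffine (Red.DS (Spec (CommRingCat.of k)) M).left := by
  have h1 : IsPullback (pullback.snd (Red.diag (ULift.{u} ℤ) M).hom
      (Limits.IsTerminal.from specULiftZIsTerminal (Spec (CommRingCat.of k))))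
    (pullback.fst (Red.diag (ULift.{u} ℤ) M).hom
      (Limits.IsTerminal.from specULiftZIsTerminal (Spec (CommRingCat.of k))))
    (Limits.IsTerminal.from specULiftZIsTerminal (Spec (CommRingCat.of k))) (Red.diag (ULift.{u} ℤ) M).hom :=
    (IsPullback.of_hasPullback _ _).flip
  have h2 : IsAffineHom (Red.diag (ULift.{u} ℤ) M).hom := by
    have : IsAffineHom (Spec (CommRingCat.of (MonoidAlgebra (ULift.{u} ℤ) (Multiplicative M))) ↘
      Spec (CommRingCat.of (ULift.{u} ℤ))) := inferInstance
    exact this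
  have h3 : IsAffineHom (pullback.snd (Red.diag (ULift.{u} ℤ) M).hom
      (Limits.IsTerminal.from specULiftZIsTerminal (Spec (CommRingCat.of k)))) :=
    MorphismProperty.of_isPullback (P := @IsAffineHom) h1.flip h2
  exact isAffine_of_isAffineHom (pullback.snd (Red.diag (ULift.{u} ℤ) M).hom
      (Limits.IsTerminal.from specULiftZIsTerminal (Spec (CommRingCat.of k))))

theorem main_iso {K G Q : Over (Spec (CommRingCat.of k))} [GrpObj K] [GrpObj G] [GrpObj Q]
    {MK MG MQ : Type} [AddCommGroup MK] [AddCommGroup MG] [AddCommGroup MQ] [Module.Finite ℤ MG]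
    [Module.IsTorsionFree ℤ MK]
    (eK : Grp.mk K ≅ Grp.mk (Red.DS (Spec (CommRingCat.of k)) MK))
    (eG : Grp.mk G ≅ Grp.mk (Red.DS (Spec (CommRingCat.of k)) MG))
    (eQ : Grp.mk Q ≅ Grp.mk (Red.DS (Spec (CommRingCat.of k)) MQ))
    (i : K ⟶ G) [IsMonHom i] (π : G ⟶ Q) [IsMonHom π] [Flat π.left] [Surjective π.left]
    (hker : AlgGrp.IsKernel i π) : ∃ s : Q ⟶ G, IsMonHom s ∧ s ≫ π = 𝟙 Q := by
  let fK : K ≅ Red.DS (Spec (CommRingCat.of k)) MK := (Grp.forget _).mapIso eK
  let fG : G ≅ Red.DS (Spec (CommRingCat.of k)) MG := (Grp.forget _).mapIso eG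
  let fQ : Q ≅ Red.DS (Spec (CommRingCat.of k)) MQ := (Grp.forget _).mapIso eQ
  have hK1 : IsMonHom fK.hom := inferInstanceAs (IsMonHom eK.hom.hom.hom)
  have hG1 : IsMonHom fG.hom := inferInstanceAs (IsMonHom eG.hom.hom.hom)
  have hQ1 : IsMonHom fQ.hom := inferInstanceAs (IsMonHom eQ.hom.hom.hom)
  have hK2 : IsMonHom fK.inv := inferInstanceAs (IsMonHom eK.inv.hom.hom)
  have hG2 : IsMonHom fG.inv := inferInstanceAs (IsMonHom eG.inv.hom.hom)
  have hQ2 : IsMonHom fQ.inv := inferInstanceAs (IsMonHom eQ.inv.hom.hom)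
  let i' := fK.inv ≫ i ≫ fG.hom
  let π' := fG.inv ≫ π ≫ fQ.hom
  have h1 : IsMonHom i' := inferInstance
  have h2 : IsMonHom π' := inferInstance
  have hi1 : IsIso fG.inv.left := inferInstanceAs (IsIso ((Over.forget _).map fG.inv))
  have hi2 : IsIso fQ.hom.left := inferInstanceAs (IsIso ((Over.forget _).map fQ.hom))
  have h3 : Flat π'.left := by
    change Flat (fG.inv.left ≫ π.left ≫ fQ.hom.left)
    have : Flat fG.inv.left := inferInstance
    have : Flat fQ.hom.left := inferInstance
    infer_instance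
  have h4 : Surjective π'.left := by
    change Surjective (fG.inv.left ≫ π.left ≫ fQ.hom.left)
    have : Surjective fG.inv.left := inferInstance
    have : Surjective fQ.hom.left := inferInstance
    infer_instance
  have h5 : QuasiCompact π'.left := inferInstance
  have h6 : AlgGrp.IsKernel i' π' := by
    refine IsPullback.of_iso hker fK fG (Iso.refl _) fQ ?_ ?_ ?_ ?_
    · simp [i']
    · exact toUnit_unique _ _
    · simp [π']
    · exact (IsMonHom.one_hom (f := fQ.hom)).trans (Category.id_comp _).symm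
  obtain ⟨s, hs, hs2⟩ := main_DS i' π' h6
  refine ⟨fQ.hom ≫ s ≫ fG.inv, inferInstance, ?_⟩
  have h7 : s ≫ fG.inv ≫ π ≫ fQ.hom = 𝟙 _ := hs2
  rw [← cancel_mono fQ.hom, Category.assoc, Category.assoc, Category.assoc, h7, Category.comp_id, Category.id_comp]

end K404.TorSplit
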